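import Cfsg.Agent.OddBase.Basic
import Cfsg.Agent.OddBase.Decomp

/-!
Pairs of vectors with trivial common stabiliser for coprime actions: elementary reductions.
-/

set_option autoImplicit false
set_option linter.unusedSectionVars false

namespace Cfsg.Lib.CoprimeBase

open Cfsg.Lib.OddBase

universe u

/-- The induction hypothesis: the theorem for all modules smaller than `m`. -/
def Small (p m : ℕ) : Prop :=
  ∀ (A V : Type u) [Group A] [Finite A] [AddCommGroup V] [Finite V] [DistribMulAction A V],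
    Nat.card V < m → Group.IsSolvable A → (∀ x : V, p • x = 0) → ¬ p ∣ Nat.card A → Pair A V

variable {A V : Type u} [Group A] [Finite A] [AddCommGroup V] [Finite V] [DistribMulAction A V]

section Average

variable {p : ℕ} [Fact p.Prime]

theorem cast_card_ne_zero (hA : ¬ p ∣ Nat.card A) {R : Type*} [Semiring R] [CharP R p] :
    (Nat.card A : R) ≠ 0 := fun h => hA ((CharP.cast_eq_zero_iff R p _).1 h)

/-- Maschke for elementary abelian modules. -/
theorem cr_of_coprime (hexp : ∀ x : V, p • x = 0) (hA : ¬ p ∣ Nat.card A) : CR A V := by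
  classical
  haveI := Fintype.ofFinite A
  letI : Module (ZMod p) V := AddCommGroup.zmodModule hexp
  intro U hU
  let U' : Submodule (ZMod p) V := AddSubgroup.toZModSubmodule p U
  obtain ⟨C, hC⟩ := U'.exists_isCompl
  let q : V →+ V := (U'.projection C hC).toAddMonoidHom
  have hq1 : ∀ x, q x ∈ U := fun x => Submodule.projection_apply_mem hC x
  have hq2 : ∀ x ∈ U, q x = x := fun x hx =>
    Submodule.projection_apply_left hC ⟨x, hx⟩
  let c : ZMod p := (Nat.card A : ZMod p)⁻¹
  have hc : c * (Nat.card A : ZMod p) = 1 :=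
    inv_mul_cancel₀ (cast_card_ne_zero hA)
  have hsm : ∀ (a : A) (k : ZMod p) (x : V), a • (k • x) = k • (a • x) := fun a k x =>
    ((DistribSMul.toAddMonoidHom V a).toZModLinearMap p).map_smul k x
  let P : V → V := fun x => c • ∑ a : A, a • q (a⁻¹ • x)
  have hP1 : ∀ x, P x ∈ U := fun x =>
    ZMod.smul_mem (sum_mem (t := Finset.univ) fun a _ => hU a _ (hq1 _)) c
  have hP2 : ∀ x ∈ U, P x = x := by
    intro x hx
    simp only [P]
    rw [Finset.sum_congr rfl (g := fun _ => x) fun a _ => by rw [hq2 _ (hU _ _ hx), smul_inv_smul]]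
    rw [Finset.sum_const, Finset.card_univ, ← Nat.card_eq_fintype_card, ← Nat.cast_smul_eq_nsmul (ZMod p),
      smul_smul, hc, one_smul]
  have hPadd : ∀ x y, P (x + y) = P x + P y := fun x y => by
    simp only [P, smul_add, map_add, Finset.sum_add_distrib]
  have hPeq : ∀ (g : A) x, P (g • x) = g • P x := by
    intro g x
    simp only [P]
    rw [hsm, Finset.smul_sum (r := g)]
    refine congrArg (c • ·) (Fintype.sum_equiv (Equiv.mulLeft g⁻¹) _ _ fun a => ?_)
    simp only [Equiv.coe_mulLeft, mul_inv_rev, inv_inv, ← mul_smul, mul_inv_cancel_left]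
  let Pm : V →+ V := AddMonoidHom.mk' P hPadd
  refine ⟨Pm.ker, fun a w hw => ?_, ?_, ?_⟩
  · change P (a • w) = 0
    rw [hPeq, show P w = 0 from hw, smul_zero]
  · rw [eq_bot_iff]
    rintro x ⟨h1, h2⟩
    exact AddSubgroup.mem_bot.2 ((hP2 x h1).symm.trans h2)
  · rw [eq_top_iff]
    intro x _
    refine AddSubgroup.mem_sup.2 ⟨P x, hP1 x, x - P x, ?_, add_sub_cancel _ _⟩
    change Pm (x - P x) = 0
    rw [map_sub]
    exact sub_eq_zero.2 (hP2 _ (hP1 x)).symm

omit [Finite V] in
/-- There are no unipotent elements. -/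
theorem no_unipotent (hexp : ∀ x : V, p • x = 0) (hA : ¬ p ∣ Nat.card A) {g : A} {w u : V}
    (hu : g • u = u) (hw : g • w = w + u) : u = 0 := by
  have h : ∀ n : ℕ, g ^ n • w = w + n • u := by
    intro n
    induction n with
    | zero => simp
    | succ n ih =>
      have hn : g • (n • u) = n • u := by
        rw [← DistribSMul.toAddMonoidHom_apply V g, map_nsmul, DistribSMul.toAddMonoidHom_apply, hu]
      rw [pow_succ', mul_smul, ih, smul_add, hn, hw, succ_nsmul]
      abel
  have h1 := h (Nat.card A)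
  rw [pow_card_eq_one', one_smul, left_eq_add] at h1
  letI : Module (ZMod p) V := AddCommGroup.zmodModule hexp
  rw [← Nat.cast_smul_eq_nsmul (ZMod p)] at h1
  have h2 := congrArg ((Nat.card A : ZMod p)⁻¹ • ·) h1
  simp only [smul_smul, inv_mul_cancel₀ (cast_card_ne_zero (R := ZMod p) hA), one_smul, smul_zero] at h2
  exact h2

/-- An invariant subgroup with the induced action. -/
@[reducible] def subAction {U : AddSubgroup V} (hU : ∀ a : A, ∀ v ∈ U, a • v ∈ U) :
    DistribMulAction A U where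
  smul a x := ⟨a • (x : V), hU a x x.2⟩
  one_smul x := Subtype.ext (one_smul A (x : V))
  mul_smul a b x := Subtype.ext (mul_smul a b (x : V))
  smul_zero a := Subtype.ext (smul_zero a)
  smul_add a x y := Subtype.ext (smul_add a (x : V) y)

/-- An abelian coprime group has a vector with stabiliser acting trivially. -/
theorem exists_regular_of_comm (hexp : ∀ x : V, p • x = 0) (hA : ¬ p ∣ Nat.card A)
    (hcomm : ∀ a b : A, ∀ x : V, a • b • x = b • a • x) :
    ∃ x : V, ∀ a : A, a • x = x → ∀ w : V, a • w = w := by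
  obtain ⟨m, hm⟩ : ∃ m, Nat.card V = m := ⟨_, rfl⟩
  induction m using Nat.strong_induction_on generalizing V with
  | _ m ih =>
  rcases subsingleton_or_nontrivial V with hs | hnt
  · exact ⟨0, fun a _ w => Subsingleton.elim _ _⟩
  by_cases hirr : Irr A V
  · obtain ⟨x, hx⟩ := exists_ne (0 : V)
    refine ⟨x, fun a ha w => ?_⟩
    let F : AddSubgroup V :=
      { carrier := {y | a • y = y}
        zero_mem' := smul_zero a
        add_mem' := fun {y z} hy hz => by
          change a • (y + z) = y + z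
          rw [smul_add, hy, hz]
        neg_mem' := fun {y} hy => by
          change a • (-y) = -y
          rw [smul_neg, hy] }
    rcases hirr F fun b v hv => (hcomm a b v).trans (congrArg (b • ·) hv) with h | h
    · exact absurd (AddSubgroup.mem_bot.1 (h ▸ (show x ∈ F from ha))) hx
    · exact show w ∈ F from h ▸ AddSubgroup.mem_top w
  simp only [Irr, not_forall, not_or] at hirr
  obtain ⟨U, hU, h0, h1⟩ := hirr
  obtain ⟨W, hW, hUW, hsup⟩ := cr_of_coprime hexp hA U hU
  have hpart : ∀ T : AddSubgroup V, (∀ a : A, ∀ v ∈ T, a • v ∈ T) → T ≠ ⊤ →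
      ∃ x ∈ T, ∀ a : A, a • x = x → ∀ w ∈ T, a • w = w := by
    intro T hT hT1
    letI := subAction hT
    have hlt : Nat.card T < m := hm ▸ lt_of_le_of_ne
      (Nat.card_le_card_of_injective _ Subtype.val_injective)
      fun he => hT1 (AddSubgroup.eq_top_of_card_eq T he)
    obtain ⟨x, hx⟩ := ih _ hlt (V := T) (fun y => Subtype.ext (hexp y))
      (fun a b y => Subtype.ext (hcomm a b y)) rfl
    exact ⟨x, x.2, fun a ha w hw => congrArg Subtype.val (hx a (Subtype.ext ha) ⟨w, hw⟩)⟩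
  have hW1 : W ≠ ⊤ := by
    rintro rfl
    exact h0 (by simpa using hUW)
  obtain ⟨u, hu, hu'⟩ := hpart U hU h1
  obtain ⟨v, hv, hv'⟩ := hpart W hW hW1
  refine ⟨u + v, fun a ha x => ?_⟩
  rw [smul_add] at ha
  have h2 : a • u - u = v - a • v := by rw [sub_eq_sub_iff_add_eq_add, ha, add_comm]
  have h3 : a • u - u ∈ U ⊓ W :=
    AddSubgroup.mem_inf.2 ⟨sub_mem (hU a u hu) hu, h2 ▸ sub_mem hv (hW a v hv)⟩
  rw [hUW, AddSubgroup.mem_bot, sub_eq_zero] at h3
  rw [h3, add_right_inj] at ha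
  obtain ⟨y, hy, z, hz, rfl⟩ := AddSubgroup.mem_sup.1
    (show x ∈ U ⊔ W from hsup ▸ AddSubgroup.mem_top _)
  rw [smul_add, hu' a h3 y hy, hv' a ha z hz]

/-- A vector with commutative stabiliser gives a pair. -/
theorem pair_of_comm_stabilizer (hexp : ∀ x : V, p • x = 0) (hA : ¬ p ∣ Nat.card A) (x : V)
    (h : ∀ a b : A, a • x = x → b • x = x → ∀ v : V, a • b • v = b • a • v) : Pair A V := by
  obtain ⟨y, hy⟩ := exists_regular_of_comm (A := MulAction.stabilizer A x) (V := V) hexp
    (fun hd => hA (hd.trans (Subgroup.card_subgroup_dvd_card _)))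
    fun a b v => h a b a.2 b.2 v
  exact ⟨x, y, fun a h1 h2 w => hy ⟨a, h1⟩ h2 w⟩

/-- Reducible groups: combine the components. -/
theorem pair_reducible (hexp : ∀ x : V, p • x = 0) (hA : ¬ p ∣ Nat.card A) [Group.IsSolvable A]
    (ih : Small.{u} p (Nat.card V)) {U : AddSubgroup V} (hU : ∀ a : A, ∀ v ∈ U, a • v ∈ U)
    (h0 : U ≠ ⊥) (h1 : U ≠ ⊤) : Pair A V := by
  obtain ⟨W, hW, hUW, hsup⟩ := cr_of_coprime hexp hA U hU
  have hpart : ∀ T : AddSubgroup V, (∀ a : A, ∀ v ∈ T, a • v ∈ T) → T ≠ ⊤ →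
      ∃ x ∈ T, ∃ y ∈ T, ∀ a : A, a • x = x → a • y = y → ∀ w ∈ T, a • w = w := by
    intro T hT hT1
    letI := subAction hT
    have hlt : Nat.card T < Nat.card V := lt_of_le_of_ne
      (Nat.card_le_card_of_injective _ Subtype.val_injective)
      fun he => hT1 (AddSubgroup.eq_top_of_card_eq T he)
    obtain ⟨x, y, hxy⟩ := ih A T hlt inferInstance (fun z => Subtype.ext (hexp z)) hA
    exact ⟨x, x.2, y, y.2, fun a ha hb w hw =>
      congrArg Subtype.val (hxy a (Subtype.ext ha) (Subtype.ext hb) ⟨w, hw⟩)⟩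
  have hW1 : W ≠ ⊤ := by
    rintro rfl
    exact h0 (by simpa using hUW)
  obtain ⟨u1, hu1, u2, hu2, hu⟩ := hpart U hU h1
  obtain ⟨w1, hw1, w2, hw2, hw⟩ := hpart W hW hW1
  have hsplit : ∀ (a : A), ∀ x ∈ U, ∀ y ∈ W, a • (x + y) = x + y → a • x = x ∧ a • y = y := by
    intro a x hx y hy h
    rw [smul_add] at h
    have h2 : a • x - x = y - a • y := by rw [sub_eq_sub_iff_add_eq_add, h, add_comm]
    have h3 : a • x - x ∈ U ⊓ W :=
      AddSubgroup.mem_inf.2 ⟨sub_mem (hU a x hx) hx, h2 ▸ sub_mem hy (hW a y hy)⟩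
    rw [hUW, AddSubgroup.mem_bot, sub_eq_zero] at h3
    rw [h3, add_right_inj] at h
    exact ⟨h3, h⟩
  refine ⟨u1 + w1, u2 + w2, fun a ha hb x => ?_⟩
  obtain ⟨e1, e2⟩ := hsplit a u1 hu1 w1 hw1 ha
  obtain ⟨e3, e4⟩ := hsplit a u2 hu2 w2 hw2 hb
  obtain ⟨y, hy, z, hz, rfl⟩ := AddSubgroup.mem_sup.1
    (show x ∈ U ⊔ W from hsup ▸ AddSubgroup.mem_top _)
  rw [smul_add, hu a e1 e3 y hy, hw a e2 e4 z hz]

end Average

/-- A pair for the image is a pair. -/
theorem pair_of_image {B : Type u} [Group B] [DistribMulAction B V] (f : A →* B)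
    (hf : ∀ (a : A) (x : V), f a • x = a • x) (h : Pair B V) : Pair A V := by
  obtain ⟨x, y, hxy⟩ := h
  exact ⟨x, y, fun a h1 h2 w => by
    rw [← hf] at h1 h2 ⊢
    exact hxy (f a) h1 h2 w⟩

/-- Pairs can be taken componentwise. -/
theorem pair_pi {B : Type*} [Group B] {ι : Type*} {W : ι → Type*} [∀ i, AddCommGroup (W i)]
    [∀ i, DistribMulAction B (W i)] (h : ∀ i, Pair B (W i)) :
    ∃ x y : ∀ i, W i, ∀ b : B, b • x = x → b • y = y → ∀ i, ∀ w : W i, b • w = w := by
  choose x y hxy using h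
  exact ⟨x, y, fun b h1 h2 i w => hxy i b (congrFun h1 i) (congrFun h2 i) w⟩

end Cfsg.Lib.CoprimeBase
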