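import Cfsg.Agent.SolvBase.Rigid

/-!
Rigid colourings of elementary abelian groups with few colours.
-/

set_option autoImplicit false
set_option linter.unusedSectionVars false

namespace Cfsg.Lib.CoprimeBase

variable {q k : ℕ} [Fact q.Prime]

/-- The chain set. -/
def chainSet (q k : ℕ) (twice : Bool) : Set (Fin k → ZMod q) :=
  {v | (∃ i : Fin k, (twice = true ∨ (i : ℕ) ≠ 0) ∧ v = Pi.single i 1) ∨
    (∃ i j : Fin k, (j : ℕ) = i + 1 ∧ v = Pi.single i 1 + Pi.single j 1) ∨
    (twice = true ∧ ∃ i : Fin k, (i : ℕ) = 0 ∧ v = Pi.single i 2)}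

theorem small_ne_zero {d : ℕ} (hd0 : d ≠ 0) (hd : d < q) : (d : ZMod q) ≠ 0 := by
  rw [Ne, ZMod.natCast_eq_zero_iff]
  exact fun h => absurd (Nat.le_of_dvd (Nat.pos_of_ne_zero hd0) h) (not_le.2 hd)

theorem sum_chain {twice : Bool} {v : Fin k → ZMod q} (hv : v ∈ chainSet q k twice) :
    ((∃ i : Fin k, v = Pi.single i 1) ∧ ∑ l, v l = 1) ∨
      ((∃ i j : Fin k, ((j : ℕ) = i + 1 ∨ ((i : ℕ) = 0 ∧ j = i)) ∧ v = Pi.single i 1 + Pi.single j 1) ∧
        ∑ l, v l = 2) := by
  rcases hv with ⟨i, -, rfl⟩ | ⟨i, j, hij, rfl⟩ | ⟨-, i, hi, rfl⟩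
  · exact Or.inl ⟨⟨i, rfl⟩, by simp⟩
  · exact Or.inr ⟨⟨i, j, Or.inl hij, rfl⟩, by simp [Finset.sum_add_distrib, one_add_one_eq_two]⟩
  · exact Or.inr ⟨⟨i, i, Or.inr ⟨hi, rfl⟩, by rw [← Pi.single_add, one_add_one_eq_two]⟩, by simp⟩

/-- Differences inside the chain. -/
theorem chain_step (hq : 3 ≤ q) {twice : Bool} {u : Fin k → ZMod q} {c : Fin k}
    (hu : u ∈ chainSet q k twice) (hw : u - Pi.single c 1 ∈ chainSet q k twice) :
    ∃ l : Fin k, u - Pi.single c 1 = Pi.single l 1 ∧
      ((l : ℕ) = c + 1 ∨ (c : ℕ) = l + 1 ∨ (l = c ∧ (c : ℕ) = 0)) := by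
  have h1 : (1 : ZMod q) ≠ 0 := one_ne_zero
  have h2 : (2 : ZMod q) ≠ 0 := by exact_mod_cast small_ne_zero (d := 2) (by norm_num) (by omega)
  have h21 : (2 : ZMod q) ≠ 1 := fun h => h1 (by linear_combination h)
  have hs : ∑ l, (u - Pi.single c 1 : Fin k → ZMod q) l = ∑ l, u l - 1 := by
    simp [Finset.sum_sub_distrib]
  rcases sum_chain hu with ⟨-, hu1⟩ | ⟨⟨i, j, hij, rfl⟩, hu2⟩
  · rcases sum_chain hw with ⟨-, hw1⟩ | ⟨-, hw1⟩ <;> rw [hs, hu1, sub_self] at hw1
    · exact absurd hw1.symm h1
    · exact absurd hw1.symm h2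
  rcases sum_chain hw with ⟨⟨l, hl⟩, -⟩ | ⟨-, hw2⟩
  swap
  · rw [hs, hu2] at hw2
    exact absurd (by linear_combination -hw2) h1
  refine ⟨l, hl, ?_⟩
  rw [sub_eq_iff_eq_add] at hl
  have hat := fun m => congrFun hl m
  simp only [Pi.add_apply, Pi.single_apply] at hat
  rcases hij with hij | ⟨hi0, rfl⟩
  · have hne : i ≠ j := fun h => by rw [h] at hij; omega
    have hi := hat i
    have hj := hat j
    rw [if_pos rfl, if_neg hne, add_zero] at hi
    rw [if_neg hne.symm, if_pos rfl, zero_add] at hj
    by_cases e1 : i = l <;> by_cases e2 : i = c <;> by_cases e3 : j = l <;> by_cases e4 : j = c <;>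
      first
      | (subst e1; subst e4; exact Or.inr (Or.inl hij))
      | (subst e2; subst e3; exact Or.inl hij)
      | (simp only [e1, e2, e3, e4, if_true, if_false, add_zero, zero_add, one_add_one_eq_two] at hi hj
         first
         | exact absurd hi.symm h21
         | exact absurd hi h1
         | exact absurd hj.symm h21
         | exact absurd hj h1)
      | exact absurd (e1 ▸ e3 : j = i) hne.symm
      | exact absurd (e2 ▸ e4 : j = i) hne.symm
  · have hi := hat j
    rw [if_pos rfl, one_add_one_eq_two] at hi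
    by_cases e1 : j = l <;> by_cases e2 : j = c
    · subst e1; subst e2; exact Or.inr (Or.inr ⟨rfl, hi0⟩)
    · rw [if_pos e1, if_neg e2, add_zero] at hi
      exact absurd hi h21
    · rw [if_neg e1, if_pos e2, zero_add] at hi
      exact absurd hi h21
    · rw [if_neg e1, if_neg e2, add_zero] at hi
      exact absurd hi h2

/-- A map fixing the first unit vector and preserving the chain is the identity. -/
theorem chain_rigid (hq : 3 ≤ q) {twice : Bool} (π : (Fin k → ZMod q) →+ (Fin k → ZMod q))
    (hπ : Function.Injective π) (h : ∀ v ∈ chainSet q k twice, π v ∈ chainSet q k twice)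
    (h0 : ∀ i : Fin k, (i : ℕ) = 0 → π (Pi.single i 1) = Pi.single i 1) : ∀ v, π v = v := by
  have main : ∀ (j : ℕ) (hj : j < k), π (Pi.single ⟨j, hj⟩ 1) = Pi.single ⟨j, hj⟩ 1 := by
    intro j
    induction j using Nat.strong_induction_on with
    | _ j ih =>
      intro hj
      rcases Nat.eq_zero_or_pos j with rfl | hjp
      · exact h0 _ rfl
      let c : Fin k := ⟨j - 1, by omega⟩
      let t : Fin k := ⟨j, hj⟩
      have hc : π (Pi.single c 1) = Pi.single c 1 := ih (j - 1) (by omega) _
      have hP : (Pi.single c 1 + Pi.single t 1 : Fin k → ZMod q) ∈ chainSet q k twice :=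
        Or.inr (Or.inl ⟨c, t, by simp [c, t]; omega, rfl⟩)
      have hT : (Pi.single t 1 : Fin k → ZMod q) ∈ chainSet q k twice :=
        Or.inl ⟨t, Or.inr (by simp [t]; omega), rfl⟩
      have e : π (Pi.single c 1 + Pi.single t 1) - Pi.single c 1 = π (Pi.single t 1) := by
        rw [map_add, hc, add_sub_cancel_left]
      obtain ⟨l, hl, hcases⟩ := chain_step hq (h _ hP) (e.symm ▸ h _ hT)
      rw [e] at hl
      change π (Pi.single t 1) = Pi.single t 1
      by_cases hlt : (l : ℕ) < j
      · exfalso
        have h3 := hπ (hl.trans (ih l hlt l.2).symm)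
        have h4 := congrFun h3 t
        rw [Pi.single_eq_same, Pi.single_eq_of_ne (fun he => by
          have := congrArg Fin.val he
          simp [t] at this; omega)] at h4
        exact one_ne_zero h4
      · have : l = t := Fin.ext (by
          simp only [c] at hcases
          rcases hcases with h1 | h1 | ⟨rfl, h1⟩ <;> simp [t] at * <;> omega)
        rw [hl, this]
  intro v
  have hv : v = ∑ i, (v i).val • (Pi.single i 1 : Fin k → ZMod q) := by
    funext l
    rw [Finset.sum_apply, Finset.sum_eq_single l (fun i _ hi => by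
      rw [Pi.smul_apply, Pi.single_eq_of_ne hi.symm, smul_zero]) (fun h => absurd (Finset.mem_univ l) h),
      Pi.smul_apply, Pi.single_eq_same, nsmul_one, ZMod.natCast_zmod_val]
  rw [hv, map_sum]
  exact Finset.sum_congr rfl fun i _ => by rw [map_nsmul, main i.1 i.2]

/-- The doubled chain is rigid for `q ≥ 5`. -/
theorem chain_rigid_twice (hq : 5 ≤ q) (π : (Fin k → ZMod q) →+ (Fin k → ZMod q))
    (hπ : Function.Injective π) (h : ∀ v ∈ chainSet q k true, π v ∈ chainSet q k true) :
    ∀ v, π v = v := by
  refine chain_rigid (by omega) π hπ h fun i hi => ?_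
  have h2 : (2 : ZMod q) ≠ 0 := by exact_mod_cast small_ne_zero (d := 2) (by norm_num) (by omega)
  have h21 : (2 : ZMod q) ≠ 1 := fun h => one_ne_zero (by linear_combination h)
  have hu : π (Pi.single i 1) ∈ chainSet q k true := h _ (Or.inl ⟨i, Or.inl rfl, rfl⟩)
  have huu : π (Pi.single i 1) + π (Pi.single i 1) ∈ chainSet q k true := by
    rw [← map_add, ← Pi.single_add, one_add_one_eq_two]
    exact h _ (Or.inr (Or.inr ⟨rfl, i, hi, rfl⟩))
  generalize hgen : π (Pi.single i 1) = u at hu huu ⊢
  have hs : ∑ l, (u + u) l = 2 * ∑ l, u l := by simp [Finset.sum_add_distrib, two_mul]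
  rcases sum_chain hu with ⟨⟨a, rfl⟩, ha⟩ | ⟨-, ha⟩
  · rcases sum_chain huu with ⟨-, h1⟩ | ⟨⟨c, d, hcd, he⟩, -⟩
    · rw [hs, ha, mul_one] at h1
      exact absurd h1 h21
    have hat := congrFun he a
    simp only [Pi.add_apply, Pi.single_eq_same, one_add_one_eq_two, Pi.single_apply] at hat
    by_cases e1 : a = c <;> by_cases e2 : a = d
    · subst e1; subst e2
      rcases hcd with hcd | ⟨hc0, -⟩
      · omega
      · rw [show a = i from Fin.ext (hc0.trans hi.symm)]
    · rw [if_pos e1, if_neg e2, add_zero] at hat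
      exact absurd hat h21
    · rw [if_neg e1, if_pos e2, zero_add] at hat
      exact absurd hat h21
    · rw [if_neg e1, if_neg e2, add_zero] at hat
      exact absurd hat h2
  · exfalso
    rcases sum_chain huu with ⟨-, h1⟩ | ⟨-, h1⟩ <;> rw [hs, ha] at h1
    · have : ((3 : ℕ) : ZMod q) ≠ 0 := small_ne_zero (by norm_num) (by omega)
      exact this (by push_cast; linear_combination h1)
    · exact h2 (by linear_combination h1)

theorem zero_notMem_chain (hq : 3 ≤ q) {twice : Bool} : (0 : Fin k → ZMod q) ∉ chainSet q k twice := by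
  intro h
  have h2 : (2 : ZMod q) ≠ 0 := by exact_mod_cast small_ne_zero (d := 2) (by norm_num) (by omega)
  rcases sum_chain h with ⟨-, h1⟩ | ⟨-, h1⟩ <;> simp at h1
  exact h2 h1.symm

/-- A rigid colouring with few colours, one of which is used at most once. -/
theorem exists_rigid_two (I : Type*) [CommGroup I] [Fintype I] :
    ∃ c : I → Fin 4, c 1 = 0 ∧
      (∀ π : I →* I, Function.Injective π → (∀ i, c i ≠ 0 → c (π i) = c i) → ∀ i, π i = i) ∧
      (∀ i j, c i = 3 → c j = 3 → i = j) ∧ ∀ i, c i = 3 → 8 ≤ Nat.card I := by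
  classical
  obtain ⟨k, b, hgen, hind⟩ := Cfsg.Lib.SolvBase.exists_irredundant I
  have hpow : 2 ^ k ≤ Nat.card I := by
    have := Nat.card_le_card_of_injective _ hind
    rwa [Nat.card_eq_fintype_card, Fintype.card_finset, Fintype.card_fin] at this
  have hb : Function.Injective b := fun i j h => by
    have := @hind {i} {j} (by simpa using h)
    simpa using this
  have hb1 : ∀ i, b i ≠ 1 := fun i h => by
    have := @hind {i} ∅ (by simpa using h)
    simp at this
  have hext : ∀ π : I →* I, (∀ j, π (b j) = b j) → ∀ i, π i = i := by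
    intro π hπ i
    have h : Subgroup.closure (Set.range b) ≤ π.eqLocus (MonoidHom.id I) := by
      rw [Subgroup.closure_le]
      rintro _ ⟨j, rfl⟩
      exact hπ j
    exact h (hgen ▸ Subgroup.mem_top i)
  by_cases hk : k ≤ 3
  · let c : I → Fin 4 := Function.extend b (fun j => ⟨(j : ℕ) + 1, by omega⟩) (fun _ => 0)
    have hcb : ∀ j, c (b j) = ⟨(j : ℕ) + 1, by omega⟩ := fun j => hb.extend_apply _ _ j
    have hc0 : ∀ i, (∀ j, b j ≠ i) → c i = 0 := fun i h =>
      Function.extend_apply' _ _ _ (by rintro ⟨j, hj⟩; exact h j hj)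
    have h3 : ∀ i, c i = 3 → ∃ j : Fin k, b j = i ∧ (j : ℕ) = 2 := by
      intro i hi
      by_contra hno
      push Not at hno
      by_cases he : ∃ j, b j = i
      · obtain ⟨j, rfl⟩ := he
        rw [hcb, Fin.ext_iff] at hi
        exact hno j rfl (by simpa using hi)
      · push Not at he
        rw [hc0 i he] at hi
        simp [Fin.ext_iff] at hi
    refine ⟨c, hc0 1 hb1, fun π hπ hcol => hext π fun j => ?_, fun i i' hi hi' => ?_, fun i hi => ?_⟩
    · have h := hcol (b j) (by rw [hcb]; simp [Fin.ext_iff])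
      rw [hcb] at h
      by_contra hne
      by_cases he : ∃ l, b l = π (b j)
      · obtain ⟨l, hl⟩ := he
        rw [← hl, hcb, Fin.ext_iff] at h
        exact hne (hl.symm.trans (congrArg b (Fin.ext (by simpa using h))))
      · push Not at he
        rw [hc0 _ he] at h
        simp [Fin.ext_iff] at h
    · obtain ⟨j, rfl, hj⟩ := h3 i hi
      obtain ⟨j', rfl, hj'⟩ := h3 i' hi'
      rw [show j = j' from Fin.ext (hj.trans hj'.symm)]
    · obtain ⟨j, -, hj⟩ := h3 i hi
      have := j.2
      calc 8 = 2 ^ 3 := rfl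
        _ ≤ 2 ^ k := Nat.pow_le_pow_right two_pos (by omega)
        _ ≤ _ := hpow
  · have hk4 : 4 ≤ k := by omega
    let f : Fin k → I := fun i => ∏ l ∈ Cfsg.Lib.SolvBase.supp k i, b l
    have hfb : ∀ i j, f i ≠ b j := fun i j h => by
      have := @hind (Cfsg.Lib.SolvBase.supp k i) {j} (by simpa using h)
      have h2 := Cfsg.Lib.SolvBase.two_le_card_supp hk4 i
      rw [this, Finset.card_singleton] at h2
      omega
    let c : I → Fin 4 := fun i => if (∃ j, b j = i) then 1 else if (∃ j, f j = i) then 2 else 0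
    have hc3 : ∀ i, c i ≠ 3 := fun i h => by
      simp only [c] at h
      split_ifs at h <;> simp [Fin.ext_iff] at h
    refine ⟨c, ?_, fun π hπ hcol => ?_, fun i _ h _ => absurd h (hc3 i), fun i h => absurd h (hc3 i)⟩
    · have h1 : ¬ ∃ j, b j = (1 : I) := fun ⟨j, hj⟩ => hb1 j hj
      have h2 : ¬ ∃ j, f j = (1 : I) := fun ⟨j, hj⟩ => by
        have := @hind (Cfsg.Lib.SolvBase.supp k j) ∅ (by simpa using hj)
        have h2 := Cfsg.Lib.SolvBase.two_le_card_supp hk4 j
        rw [this, Finset.card_empty] at h2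
        omega
      simp only [c, if_neg h1, if_neg h2]
    · have hT : ∀ j, ∃ l, b l = π (b j) := by
        intro j
        have hex : ∃ l, b l = b j := ⟨j, rfl⟩
        have h := hcol (b j) (by simp only [c, if_pos hex]; simp)
        by_contra hno
        simp only [c, if_pos hex, if_neg hno] at h
        split_ifs at h <;> simp at h
      choose τ hτ using hT
      have hτinj : Function.Injective τ := fun i j h => hb (hπ (by rw [← hτ, ← hτ, h]))
      have hU : ∀ i, ∃ j, (Cfsg.Lib.SolvBase.supp k i).image τ = Cfsg.Lib.SolvBase.supp k j := by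
        intro i
        have hnb : ¬ ∃ j, b j = f i := fun ⟨j, hj⟩ => hfb i j hj.symm
        have hex : ∃ j, f j = f i := ⟨i, rfl⟩
        have h := hcol (f i) (by simp only [c, if_neg hnb, if_pos hex]; simp)
        simp only [c, if_neg hnb, if_pos hex] at h
        by_cases h1 : ∃ j, b j = π (f i)
        · rw [if_pos h1] at h; simp at h
        by_cases h2 : ∃ j, f j = π (f i)
        · obtain ⟨j, hj⟩ := h2
          refine ⟨j, hind ?_⟩
          change ∏ l ∈ (Cfsg.Lib.SolvBase.supp k i).image τ, b l = f j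
          rw [hj, Finset.prod_image fun x _ y _ e => hτinj e, map_prod]
          exact Finset.prod_congr rfl fun l _ => hτ l
        · rw [if_neg h1, if_neg h2] at h; simp at h
      refine hext π fun j => ?_
      rw [← hτ, Cfsg.Lib.SolvBase.supp_rigid hk4 τ hτinj hU]

theorem exists_coord_module {W : Type*} [AddCommGroup W] [Finite W] [Module (ZMod q) W] :
    ∃ (k : ℕ) (_ : W ≃+ (Fin k → ZMod q)), Nat.card W = q ^ k := by
  haveI : Module.Finite (ZMod q) W := Module.Finite.of_finite
  refine ⟨_, (Module.finBasis (ZMod q) W).equivFun.toAddEquiv, ?_⟩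
  rw [Module.natCard_eq_pow_finrank (K := ZMod q), Nat.card_zmod]

/-- An elementary abelian group as coordinates. -/
theorem exists_coord (I : Type*) [CommGroup I] [Finite I] (hexp : ∀ i : I, i ^ q = 1) :
    ∃ (k : ℕ) (_ : Additive I ≃+ (Fin k → ZMod q)), Nat.card I = q ^ k := by
  haveI : Finite (Additive I) := Finite.of_equiv I Additive.ofMul
  letI : Module (ZMod q) (Additive I) :=
    AddCommGroup.zmodModule fun x => Additive.toMul.injective (by
      rw [toMul_nsmul, toMul_zero]; exact hexp _)
  obtain ⟨k, e, hk⟩ := exists_coord_module (q := q) (W := Additive I)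
  exact ⟨k, e, (Nat.card_congr Additive.ofMul).trans hk⟩

/-- Colours for odd exponent: two colours and at most one blank. -/
theorem exists_colour_odd (hq : 3 ≤ q) (I : Type*) [CommGroup I] [Finite I]
    (hexp : ∀ i : I, i ^ q = 1) :
    ∃ c : I → Option Bool,
      (∀ π : I →* I, Function.Injective π → (∀ i, i ≠ 1 → c (π i) = c i) → ∀ i, π i = i) ∧
      (∀ i j, c i = none → c j = none → i = j) ∧ ∀ i, c i = none → 8 ≤ Nat.card I := by
  classical
  obtain ⟨k, e, hk⟩ := exists_coord I hexp
  let E : I → (Fin k → ZMod q) := fun i => e (Additive.ofMul i)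
  have hE : Function.Injective E := fun i j h => Additive.ofMul.injective (e.injective h)
  have hEsurj : Function.Surjective E := fun v => ⟨Additive.toMul (e.symm v), e.apply_symm_apply v⟩
  have hE1 : E 1 = 0 := map_zero e
  let tr : (I →* I) → ((Fin k → ZMod q) →+ (Fin k → ZMod q)) := fun π =>
    (e.toAddMonoidHom.comp (MonoidHom.toAdditive π)).comp e.symm.toAddMonoidHom
  have htr : ∀ π i, tr π (E i) = E (π i) := fun π i => by
    change e (Additive.ofMul (π (Additive.toMul (e.symm (e (Additive.ofMul i)))))) = _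
    rw [e.symm_apply_apply]; rfl
  have hfin : ∀ π : I →* I, Function.Injective π → (∀ v, tr π v = v) → ∀ i, π i = i :=
    fun π _ h i => hE ((htr π i).symm.trans (h _))
  have htrinj : ∀ π : I →* I, Function.Injective π → Function.Injective (tr π) := fun π hπ v w h => by
    obtain ⟨i, rfl⟩ := hEsurj v
    obtain ⟨j, rfl⟩ := hEsurj w
    rw [htr, htr] at h
    rw [hπ (hE h)]
  by_cases h5 : 5 ≤ q ∨ k ≤ 1
  · let twice : Bool := decide (5 ≤ q)
    let c : I → Option Bool := fun i =>
      some (decide (if 5 ≤ q then E i ∈ chainSet q k true else ∃ j : Fin k, E i = Pi.single j 1))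
    refine ⟨c, fun π hπ hc => hfin π hπ ?_, fun i _ h _ => absurd h (by simp [c]),
      fun i h => absurd h (by simp [c])⟩
    have hc' := fun i (hi : i ≠ 1) => hc i hi
    simp only [c, Option.some.injEq, decide_eq_decide] at hc'
    by_cases hq5 : 5 ≤ q
    · simp only [if_pos hq5] at hc'
      refine chain_rigid_twice hq5 _ (htrinj π hπ) fun v hv => ?_
      obtain ⟨i, rfl⟩ := hEsurj v
      rw [htr]
      exact (hc' i fun h => zero_notMem_chain (by omega) (hE1 ▸ h ▸ hv)).2 hv
    · simp only [if_neg hq5] at hc'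
      refine chain_rigid (twice := false) (by omega) _ (htrinj π hπ) (fun v hv => ?_) fun j hj => ?_
      · exfalso
        rcases hv with ⟨i, hi | hi, -⟩ | ⟨i, j, hij, -⟩ | ⟨hb, -⟩
        · simp at hi
        · have := i.2; omega
        · have := j.2; omega
        · simp at hb
      · obtain ⟨i, hi⟩ := hEsurj (Pi.single j 1)
        rw [← hi, htr]
        obtain ⟨j', hj'⟩ := (hc' i fun h => by
          rw [h, hE1] at hi
          simpa using congrFun hi.symm j).2 ⟨j, hi⟩
        rw [hj', hi, show j' = j from Fin.ext (by have := j.2; have := j'.2; omega)]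
  · push Not at h5
    obtain ⟨hq5, hk2⟩ := h5
    let z : Fin k := ⟨0, by omega⟩
    let c : I → Option Bool := fun i =>
      if E i = Pi.single z 1 then none else some (decide (E i ∈ chainSet q k false))
    refine ⟨c, fun π hπ hc => hfin π hπ ?_, fun i j hi hj => ?_, fun i hi => ?_⟩
    · refine chain_rigid (twice := false) (by omega) _ (htrinj π hπ) (fun v hv => ?_) fun j hj => ?_
      · obtain ⟨i, rfl⟩ := hEsurj v
        rw [htr]
        have hi1 : i ≠ 1 := fun h => zero_notMem_chain (by omega) (hE1 ▸ h ▸ hv)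
        have h := hc i hi1
        simp only [c] at h
        by_cases e1 : E i = Pi.single z 1
        · exfalso
          rcases hv with ⟨l, hl | hl, hle⟩ | ⟨l, l', hll, hle⟩ | ⟨hb, -⟩
          · simp at hl
          · rw [e1] at hle
            have := congrFun hle l
            rw [Pi.single_eq_same, Pi.single_eq_of_ne (fun h => hl (by rw [h]))] at this
            exact zero_ne_one this
          · rw [e1] at hle
            have := congrFun hle l'
            rw [Pi.single_eq_of_ne (fun h => by rw [h] at hll; simp [z] at hll), Pi.add_apply,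
              Pi.single_eq_of_ne (fun h => by rw [h] at hll; omega), Pi.single_eq_same, zero_add] at this
            exact zero_ne_one this
          · simp at hb
        rw [if_neg e1] at h
        split_ifs at h with e2
        simpa [hv] using h
      · have hj' : j = z := Fin.ext hj
        subst hj'
        obtain ⟨i, hi⟩ := hEsurj (Pi.single z 1)
        rw [← hi, htr]
        have h := hc i fun h => by
          rw [h, hE1] at hi
          simpa using congrFun hi.symm z
        simp only [c, if_pos hi] at h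
        rw [hi]
        by_contra hne
        rw [if_neg hne] at h
        simp at h
    · simp only [c] at hi hj
      split_ifs at hi with e1
      split_ifs at hj with e2
      exact hE (e1.trans e2.symm)
    · rw [hk]
      calc 8 ≤ 3 ^ 2 := by norm_num
        _ ≤ q ^ 2 := Nat.pow_le_pow_left hq 2
        _ ≤ q ^ k := Nat.pow_le_pow_right (by omega) hk2

end Cfsg.Lib.CoprimeBase
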