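import Cfsg.Agent.OddBase.Primitive

/-!
The semilinear structure of an irreducible group whose abelian normal subgroup spans a field.
-/

set_option autoImplicit false
set_option linter.unusedSectionVars false

namespace Cfsg.Lib.CoprimeBase

open Cfsg.Lib.OddBase

universe u

variable {A V : Type u} [Group A] [Finite A] [AddCommGroup V] [Finite V] [DistribMulAction A V]
  [FaithfulSMul A V] [Nontrivial V]

/-- The field spanned by an abelian normal subgroup and its automorphisms. -/
theorem exists_field_alg {Z : Subgroup A} [Z.Normal] [IsMulCommutative Z]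
    (hf : ∀ k ∈ alg A V Z, k ≠ 0 → ∃ l ∈ alg A V Z, k * l = 1) :
    ∃ (K : Type u) (_ : Field K) (_ : Finite K) (_ : Module K V) (ι : Z →* Kˣ) (σ : A →* RingAut K),
      Function.Injective ι ∧ (∀ (z : Z) (v : V), ((ι z : Kˣ) : K) • v = (z : A) • v) ∧
      σ.ker = Subgroup.centralizer (Z : Set A) ∧
      (∀ (g : A) (k : K) (v : V), g • (k • v) = σ g k • (g • v)) ∧
      ∀ k : K, ∃ f ∈ alg A V Z, ∀ v : V, f v = k • v := by
  haveI : Finite (alg A V Z) := alg_finite
  have hinv : ∀ g : A, act A V g⁻¹ * act A V g = 1 := fun g => by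
    rw [← map_mul, inv_mul_cancel, map_one]
  have hinv' : ∀ g : A, act A V g * act A V g⁻¹ = 1 := fun g => by
    rw [← map_mul, mul_inv_cancel, map_one]
  let cj : A → alg A V Z →+* alg A V Z := fun g =>
    { toFun := fun k => ⟨act A V g * k * act A V g⁻¹, alg_conj g k.2⟩
      map_one' := Subtype.ext (by
        change act A V g * 1 * act A V g⁻¹ = 1
        rw [mul_one, hinv'])
      map_mul' := fun a b => Subtype.ext (by
        simp only [Subring.coe_mul]
        simp only [mul_assoc]
        rw [← mul_assoc (act A V g⁻¹) (act A V g), hinv, one_mul])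
      map_zero' := Subtype.ext (by
        change act A V g * 0 * act A V g⁻¹ = 0
        rw [mul_zero, zero_mul])
      map_add' := fun a b => Subtype.ext (by
        change act A V g * ((a : AddMonoid.End V) + b) * act A V g⁻¹ =
          act A V g * a * act A V g⁻¹ + act A V g * b * act A V g⁻¹
        rw [mul_add, add_mul]) }
  have hcj1 : ∀ k, cj 1 k = k := fun k => Subtype.ext (by
    change act A V 1 * (k : AddMonoid.End V) * act A V 1⁻¹ = k
    rw [inv_one, map_one, one_mul, mul_one])
  have hcjmul : ∀ g g' k, cj (g * g') k = cj g (cj g' k) := fun g g' k => Subtype.ext (by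
    change act A V (g * g') * k * act A V (g * g')⁻¹ =
      act A V g * (act A V g' * k * act A V g'⁻¹) * act A V g⁻¹
    rw [mul_inv_rev, map_mul, map_mul]
    simp only [mul_assoc])
  let σ : A →* RingAut (alg A V Z) := MonoidHom.mk'
    (fun g => RingEquiv.ofRingHom (cj g) (cj g⁻¹)
      (RingHom.ext fun k => by rw [RingHom.comp_apply, ← hcjmul, mul_inv_cancel, hcj1]; rfl)
      (RingHom.ext fun k => by rw [RingHom.comp_apply, ← hcjmul, inv_mul_cancel, hcj1]; rfl))
    (fun g g' => RingEquiv.ext fun k => hcjmul g g' k)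
  have hσ : σ.ker = Subgroup.centralizer (Z : Set A) := by
    ext g
    rw [MonoidHom.mem_ker, Subgroup.mem_centralizer_iff]
    constructor
    · intro h z hz
      have h1 : act A V g * act A V z * act A V g⁻¹ = act A V z :=
        congrArg Subtype.val (RingEquiv.congr_fun h ⟨act A V z, mem_alg hz⟩)
      rw [← map_mul, ← map_mul] at h1
      have h2 : g * z * g⁻¹ = z := eq_of_smul_eq_smul fun v : V => DFunLike.congr_fun h1 v
      rw [mul_inv_eq_iff_eq_mul] at h2
      exact h2.symm
    · intro h
      refine RingEquiv.ext fun k => Subtype.ext ?_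
      change act A V g * k * act A V g⁻¹ = k
      rw [commute_alg (Subgroup.mem_centralizer_iff.2 h) k.2, mul_assoc, hinv', mul_one]
  let ι : Z →* (alg A V Z)ˣ := MonoidHom.toHomUnits
    { toFun := fun z : Z => ⟨act A V (z : A), mem_alg z.2⟩
      map_one' := Subtype.ext (map_one (act A V))
      map_mul' := fun x y => Subtype.ext (map_mul (act A V) (x : A) (y : A)) }
  have hι : Function.Injective ι := by
    intro x y h
    have h1 : act A V (x : A) = act A V (y : A) :=
      congrArg (fun t : (alg A V Z)ˣ => ((t : alg A V Z) : AddMonoid.End V)) h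
    exact Subtype.ext (eq_of_smul_eq_smul fun v : V => DFunLike.congr_fun h1 v)
  letI mV : Module (alg A V Z) V := Module.compHom V (alg A V Z).subtype
  refine ⟨alg A V Z, algField hf, ‹_›, mV, ι, σ, hι, fun _ _ => rfl, hσ, fun g k v => ?_,
    fun k => ⟨k.1, k.2, fun v => rfl⟩⟩
  change g • ((k : AddMonoid.End V) v) = g • ((k : AddMonoid.End V) (g⁻¹ • (g • v)))
  rw [inv_smul_smul]

/-- The field spanned by an abelian normal subgroup and its automorphisms, briefly. -/
theorem exists_field {Z : Subgroup A} [Z.Normal] [IsMulCommutative Z]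
    (hf : ∀ k ∈ alg A V Z, k ≠ 0 → ∃ l ∈ alg A V Z, k * l = 1) :
    ∃ (K : Type u) (_ : Field K) (_ : Finite K) (_ : Module K V) (ι : Z →* Kˣ) (σ : A →* RingAut K),
      Function.Injective ι ∧ (∀ (z : Z) (v : V), ((ι z : Kˣ) : K) • v = (z : A) • v) ∧
      σ.ker = Subgroup.centralizer (Z : Set A) ∧
      ∀ (g : A) (k : K) (v : V), g • (k • v) = σ g k • (g • v) := by
  obtain ⟨K, i1, i2, i3, ι, σ, h1, h2, h3, h4, -⟩ := exists_field_alg hf
  exact ⟨K, i1, i2, i3, ι, σ, h1, h2, h3, h4⟩

/-- The automorphisms of a finite field form a cyclic group of order the degree. -/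
theorem ringAut_bound {K : Type*} [Field K] [Finite K] {p d : ℕ} [Fact p.Prime] (hK : Nat.card K = p ^ d)
    {G : Type*} [Group G] (σ : G →* RingAut K) :
    IsCyclic σ.range ∧ Nat.card σ.range ∣ d := by
  obtain ⟨p', hchar⟩ := CharP.exists K
  have hp' : p'.Prime := CharP.char_is_prime K p'
  have hd0 : d ≠ 0 := fun h => by
    rw [h, pow_zero] at hK
    exact absurd hK (Finite.one_lt_card (α := K)).ne'
  obtain rfl : p' = p := by
    have hdvd : p' ∣ p ^ d := by
      rw [← hK]
      haveI := Fintype.ofFinite K
      rw [Nat.card_eq_fintype_card, ← CharP.cast_eq_zero_iff K p']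
      exact Nat.cast_card_eq_zero K
    exact (Nat.prime_dvd_prime_iff_eq hp' Fact.out).1 (hp'.dvd_of_dvd_pow hdvd)
  letI : Algebra (ZMod p') K := ZMod.algebra K p'
  let f : RingAut K →* (K ≃ₐ[ZMod p'] K) :=
    { toFun := fun r => AlgEquiv.ofRingEquiv (f := r) (fun x => RingHom.congr_fun
        (Subsingleton.elim (r.toRingHom.comp (algebraMap (ZMod p') K)) _) x)
      map_one' := AlgEquiv.ext fun k => rfl
      map_mul' := fun r r' => AlgEquiv.ext fun k => rfl }
  have hf : Function.Injective f := fun r r' h => RingEquiv.ext fun k => AlgEquiv.congr_fun h k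
  haveI : Finite K := inferInstance
  let g : σ.range →* (K ≃ₐ[ZMod p'] K) := f.comp σ.range.subtype
  have hg : Function.Injective g := hf.comp Subtype.val_injective
  refine ⟨isCyclic_of_injective g hg, ?_⟩
  have hd : Module.finrank (ZMod p') K = d := by
    have h1 : Nat.card K = p' ^ Module.finrank (ZMod p') K := by
      rw [Module.natCard_eq_pow_finrank (K := ZMod p'), Nat.card_zmod]
    exact Nat.pow_right_injective hp'.two_le (h1.symm.trans hK)
  calc Nat.card σ.range ∣ Nat.card (K ≃ₐ[ZMod p'] K) := Subgroup.card_dvd_of_injective g hg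
    _ = d := (IsGalois.card_aut_eq_finrank (ZMod p') K).trans hd

/-- In the field case with scalar centraliser, quotients by the centraliser are small. -/
theorem card_le_field {K : Type*} [Field K] [Finite K] {p d : ℕ} [Fact p.Prime] (hK : Nat.card K = p ^ d)
    {G : Type*} [Group G] [Finite G] (σ : G →* RingAut K) :
    ∃ δ, δ ∣ d ∧ Nat.card G = Nat.card σ.ker * δ := by
  exact ⟨Nat.card σ.range, (ringAut_bound hK σ).2, by
    rw [← Subgroup.index_ker, Subgroup.card_mul_index]⟩

end Cfsg.Lib.CoprimeBase
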