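import Cfsg.Agent.Coprime.MaximalInvariant

/-!
Fixed points of coprime actions: cosets and invariant Sylow subgroups.
-/

set_option autoImplicit false
set_option linter.unusedSectionVars false

namespace Cfsg.Lib.CoprimeBase

open Subgroup Cfsg.Lib.Coprime Cfsg.Lib.Coprime.MaximalInvariant

universe u v

variable {A : Type v} [Group A] {K : Type u} [Group K] [MulDistribMulAction A K]

/-- The fixed points of a subgroup. -/
def fixK (K : Type u) [Group K] [MulDistribMulAction A K] (X : Subgroup A) : Subgroup K where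
  carrier := {k | ∀ a ∈ X, a • k = k}
  one_mem' := fun a _ => smul_one a
  mul_mem' := fun {x y} hx hy a ha => by rw [smul_mul', hx a ha, hy a ha]
  inv_mem' := fun {x} hx a ha => by rw [smul_inv', hx a ha]

theorem mem_fixK {X : Subgroup A} {k : K} : k ∈ fixK K X ↔ ∀ a ∈ X, a • k = k := Iff.rfl

/-- The semidirect product of the action. -/
abbrev Sdp (A : Type v) [Group A] (K : Type u) [Group K] [MulDistribMulAction A K] : Type (max u v) :=
  SemidirectProduct K A (MulDistribMulAction.toMulAut A K)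

theorem sdp_conj (a : A) (k : K) :
    (SemidirectProduct.inr a : Sdp A K) * SemidirectProduct.inl k * (SemidirectProduct.inr a)⁻¹ =
      SemidirectProduct.inl (a • k) := by
  rw [← map_inv, ← SemidirectProduct.inl_aut]
  rfl

theorem mem_fixK_iff (X : Subgroup A) (k : K) :
    k ∈ fixK K X ↔ (SemidirectProduct.inl k : Sdp A K) ∈
      centralizer ((X.map (SemidirectProduct.inr : A →* Sdp A K) : Subgroup (Sdp A K)) : Set (Sdp A K)) := by
  rw [mem_centralizer_iff, mem_fixK]
  constructor
  · rintro h _ ⟨a, ha, rfl⟩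
    have h1 := sdp_conj (K := K) a k
    rw [h a ha, mul_inv_eq_iff_eq_mul] at h1
    exact h1
  · intro h a ha
    have h1 := sdp_conj (K := K) a k
    rw [h _ ⟨a, ha, rfl⟩, mul_inv_cancel_right] at h1
    exact (SemidirectProduct.inl_injective h1).symm

theorem map_inr_le_normalizer (X : Subgroup A) (D : Subgroup K) (hD : ∀ a : A, ∀ x ∈ D, a • x ∈ D) :
    X.map (SemidirectProduct.inr : A →* Sdp A K) ≤
      normalizer ((D.map (SemidirectProduct.inl : K →* Sdp A K) : Subgroup (Sdp A K)) : Set (Sdp A K)) := by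
  rintro _ ⟨a, -, rfl⟩
  rw [mem_normalizer_iff]
  intro y
  constructor
  · rintro ⟨k, hk, rfl⟩
    exact ⟨a • k, hD a k hk, (sdp_conj a k).symm⟩
  · rintro ⟨k, hk, he⟩
    refine ⟨a⁻¹ • k, hD _ k hk, ?_⟩
    rw [← sdp_conj a⁻¹ k, he, map_inv]
    group

variable [Finite A] [Finite K]

instance : Finite (Sdp A K) := Finite.of_equiv (K × A) SemidirectProduct.equivProd.symm

theorem coprime_map (hcop : (Nat.card A).Coprime (Nat.card K)) (X : Subgroup A) (D : Subgroup K) :
    (Nat.card (X.map (SemidirectProduct.inr : A →* Sdp A K))).Coprime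
      (Nat.card (D.map (SemidirectProduct.inl : K →* Sdp A K))) := by
  rw [Subgroup.card_map_of_injective SemidirectProduct.inr_injective,
    Subgroup.card_map_of_injective SemidirectProduct.inl_injective]
  exact (hcop.coprime_dvd_left X.card_subgroup_dvd_card).coprime_dvd_right D.card_subgroup_dvd_card

/-- A stable coset contains a fixed point. -/
theorem exists_fix_in_coset (hsol : Group.IsSolvable A) (hcop : (Nat.card A).Coprime (Nat.card K)) (X : Subgroup A)
    {D : Subgroup K} (hD : ∀ a : A, ∀ x ∈ D, a • x ∈ D) {k : K} (hk : ∀ a ∈ X, k⁻¹ * a • k ∈ D) :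
    ∃ d ∈ D, k * d ∈ fixK K X := by
  haveI := hsol
  obtain ⟨d', hd', hc⟩ := exists_fixed_in_coset (A := X.map (SemidirectProduct.inr : A →* Sdp A K))
    (map_inr_le_normalizer X D hD) (coprime_map hcop X D) (Or.inl (isSolvable_map inferInstance _))
    (k := SemidirectProduct.inl k) (by
      rintro _ ⟨a, ha, rfl⟩
      refine ⟨k⁻¹ * a • k, hk a ha, ?_⟩
      rw [map_mul, map_inv, ← sdp_conj a k]
      group)
  obtain ⟨d, hd, rfl⟩ := hd'
  exact ⟨d, hd, (mem_fixK_iff X _).2 (by rwa [map_mul])⟩

/-- An invariant Sylow subgroup meets the fixed points of every subgroup in a Sylow subgroup. -/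
theorem card_fix_sylow (hsol : Group.IsSolvable A) (hcop : (Nat.card A).Coprime (Nat.card K)) {p : ℕ}
    [Fact p.Prime] {S : Subgroup K} (hS : IsPGroup p S) (hSi : ¬ p ∣ S.index)
    (hinv : ∀ a : A, ∀ x ∈ S, a • x ∈ S) (X : Subgroup A) :
    Nat.card (S ⊓ fixK K X : Subgroup K) = p ^ (Nat.card (fixK K X)).factorization p := by
  classical
  haveI := hsol
  set C := fixK K X with hC
  refine le_antisymm (Nat.le_of_dvd (pow_pos (Fact.out : p.Prime).pos _) ?_) ?_
  · obtain ⟨i, hi⟩ := IsPGroup.iff_card.1 (hS.to_le (inf_le_left (b := C)))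
    rw [hi]
    refine pow_dvd_pow p ?_
    rw [← Nat.Prime.pow_dvd_iff_le_factorization Fact.out Nat.card_pos.ne', ← hi]
    exact Subgroup.card_dvd_of_le inf_le_right
  -- transfer
  set i₁ : K →* Sdp A K := SemidirectProduct.inl with hi₁
  set K' := (⊤ : Subgroup K).map i₁ with hK'
  set A' := X.map (SemidirectProduct.inr : A →* Sdp A K) with hA'
  have hinj : Function.Injective i₁ := SemidirectProduct.inl_injective
  have hAK : A' ≤ normalizer (K' : Set (Sdp A K)) := map_inr_le_normalizer X ⊤ fun _ _ _ => mem_top _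
  have hsol' : Group.IsSolvable A' ∨ Group.IsSolvable K' := Or.inl (isSolvable_map inferInstance _)
  obtain ⟨Q⟩ := (inferInstance : Nonempty (Sylow p C))
  set U := ((Q : Subgroup C).map C.subtype).map i₁ with hU
  have hUA : A' ≤ normalizer (U : Set (Sdp A K)) := by
    intro a ha
    refine mem_normalizer_iff.2 fun y => ?_
    have hfix : ∀ z ∈ U, a * z * a⁻¹ = z := by
      rintro _ ⟨_, ⟨c, hc, rfl⟩, rfl⟩
      exact mul_inv_eq_iff_eq_mul.2 (mem_centralizer_iff.1 ((mem_fixK_iff X _).1 c.2) a ha)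
    constructor
    · intro hy
      rwa [hfix y hy]
    · intro hy
      have h1 : y = a * y * a⁻¹ := by
        calc y = a⁻¹ * (a * y * a⁻¹) * a := by group
          _ = a⁻¹ * (a * (a * y * a⁻¹) * a⁻¹) * a := by rw [hfix _ hy]
          _ = a * y * a⁻¹ := by group
      rw [h1]; exact hy
  obtain ⟨P1, hUP, hP1⟩ := exists_invariant_sylow_ge hAK (coprime_map hcop X ⊤) hsol' p
    (Subgroup.map_mono le_top) ((Q.2.map _).map _) hUA
  -- the given Sylow subgroup
  let e : K →* K' := i₁.codRestrict K' fun k => ⟨k, mem_top k, rfl⟩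
  have hSmap : (S.map e).map K'.subtype = S.map i₁ := by
    rw [Subgroup.map_map]; rfl
  have hcardS : Nat.card S = p ^ (Nat.card K').factorization p := by
    rw [hK', Subgroup.card_map_of_injective hinj, Subgroup.card_top]
    obtain ⟨i, hi⟩ := IsPGroup.iff_card.1 hS
    rw [← S.card_mul_index, hi, Nat.factorization_mul (pow_ne_zero _ (Fact.out : p.Prime).ne_zero)
      S.index_ne_zero_of_finite, Finsupp.add_apply, Nat.Prime.factorization_pow Fact.out,
      Finsupp.single_eq_same, Nat.factorization_eq_zero_of_not_dvd hSi, add_zero]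
  let P0 : Sylow p K' := Sylow.ofCard (S.map e) (by
    rw [← hcardS, Subgroup.card_map_of_injective]
    intro a b h
    exact hinj (congrArg Subtype.val h))
  obtain ⟨c, hc, hcP⟩ := invariant_sylow_conj hAK (coprime_map hcop X ⊤) hsol' p P1 P0 hP1 (by
    rw [Sylow.coe_ofCard, hSmap]
    exact map_inr_le_normalizer X S hinv)
  have hQcard : p ^ (Nat.card C).factorization p = Nat.card U := by
    rw [hU, Subgroup.card_map_of_injective hinj, Subgroup.card_map_of_injective C.subtype_injective,
      Q.card_eq_multiplicity]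
  rw [hQcard, ← card_conjMap (c : Sdp A K) U, ← Subgroup.card_map_of_injective (K := S ⊓ C) hinj]
  refine Subgroup.card_le_of_le ?_
  intro z hz
  have h1 : z ∈ (P0 : Subgroup K').map K'.subtype := by
    rw [← hcP, map_subtype_smul]
    exact conjMap_mono hUP hz
  rw [Sylow.coe_ofCard, hSmap] at h1
  obtain ⟨k, hk, rfl⟩ := h1
  refine ⟨k, ⟨hk, (mem_fixK_iff X k).2 ?_⟩, rfl⟩
  rw [mem_conjMap] at hz
  obtain ⟨_, ⟨u, -, rfl⟩, hu⟩ := hz
  have hu' : i₁ (C.subtype u) ∈ centralizer (A' : Set (Sdp A K)) := (mem_fixK_iff X _).1 u.2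
  rw [hu] at hu'
  have h2 := mul_mem (mul_mem hc hu') (inv_mem hc)
  convert h2 using 1
  rw [hi₁]
  group

end Cfsg.Lib.CoprimeBase
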