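import Cfsg.Agent.CoprimeBase.Colour
import Cfsg.Agent.CoprimeBase.Basic
import Cfsg.Agent.SolvBase.Options

/-!
A monomial frame with enough classes of coefficients gives a pair.
-/

set_option autoImplicit false
set_option linter.unusedSectionVars false

namespace Cfsg.Lib.CoprimeBase

open Subgroup Cfsg.Lib.OddBase Cfsg.Lib.SolvBase

universe u

/-- Collecting powers of a product. -/
theorem collect_pow {G : Type*} [Monoid G] {l s w : G} (h : s * l = w * (l * s)) (hwl : Commute w l)
    (hws : Commute w s) : ∀ m : ℕ, (l * s) ^ m = w ^ m.choose 2 * (l ^ m * s ^ m) := by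
  have hb : ∀ k : ℕ, s ^ k * l = w ^ k * (l * s ^ k) := by
    intro k
    induction k with
    | zero => simp
    | succ k ih =>
      rw [pow_succ', mul_assoc, ih, ← mul_assoc, ((hws.pow_left k).symm).eq, mul_assoc, ← mul_assoc s,
        h, pow_succ w]
      simp only [mul_assoc]
  intro m
  induction m with
  | zero => simp
  | succ m ih =>
    rw [pow_succ, ih, show (m + 1).choose 2 = m + m.choose 2 by
      rw [Nat.choose_succ_succ, Nat.choose_one_right], pow_add, pow_succ l, pow_succ s]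
    calc w ^ m.choose 2 * (l ^ m * s ^ m) * (l * s)
        = w ^ m.choose 2 * (l ^ m * (s ^ m * l) * s) := by simp only [mul_assoc]
      _ = w ^ m.choose 2 * ((l ^ m * w ^ m) * (l * s ^ m * s)) := by rw [hb]; simp only [mul_assoc]
      _ = w ^ m.choose 2 * ((w ^ m * l ^ m) * (l * s ^ m * s)) := by
        rw [((hwl.pow_left m).pow_right m).eq]
      _ = _ := by
        rw [← mul_assoc, ← mul_assoc, ← pow_add, add_comm, pow_add]
        simp only [mul_assoc]

variable {A : Type u} [Group A] [Finite A] [Group.IsSolvable A] {Z : Subgroup A} [Z.Normal]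
  [IsMulCommutative Z] {K : Type u} [Field K] [Finite K] {V : Type u} [AddCommGroup V] [Finite V]
  [DistribMulAction A V] [Module K V]

/-- The power map on units has a large image. -/
theorem card_le_mul_powRange (m : ℕ) (hm : 0 < m) :
    Nat.card K - 1 ≤ m * Nat.card (powMonoidHom m : Kˣ →* Kˣ).range := by
  classical
  haveI := Fintype.ofFinite Kˣ
  rw [← Nat.card_units, ← Subgroup.card_mul_index (powMonoidHom m : Kˣ →* Kˣ).ker, Subgroup.index_ker]
  refine Nat.mul_le_mul_right _ ?_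
  rw [Nat.card_eq_fintype_card]
  refine le_trans (le_of_eq (Fintype.card_of_subtype (Finset.univ.filter fun x : Kˣ => x ^ m = 1)
    fun x => by simp [MonoidHom.mem_ker, powMonoidHom])) ?_
  exact IsCyclic.card_pow_eq_one_le hm

/-- The scalars lie in the kernel of the frame character. -/
theorem psi_eq_one {ι : Z →* Kˣ} (hιv : ∀ (z : Z) (v : V), ((ι z : Kˣ) : K) • v = (z : A) • v)
    (F : Frame A Z K V) : ∀ z : Soc Z, (z : A) ∈ Z → F.ψ z = 1 := by
  classical
  let Φ : (F.I → F.E) → V := fun u => ∑ i, ((F.lift i : A) • (u i : V))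
  have hscE : ∀ z : Z, ∀ u ∈ F.E, (z : A) • u ∈ F.E := fun z u hu => by
    rw [← hιv]; exact F.E.smul_mem _ hu
  intro z hz
  by_contra hne
  set i := F.ψ z with hi
  let κ : Soc Z := (F.lift i)⁻¹ * z
  have hκ : F.ψ κ = 1 := by rw [map_mul, map_inv, F.hlift, inv_mul_cancel]
  let u : F.I → F.E := fun j => if j = i then ⟨(κ : A) • F.v₁, F.hker κ hκ _ F.hv₁E⟩ else 0
  let u' : F.I → F.E := fun j => if j = 1 then ⟨(z : A) • F.v₁, hscE ⟨_, hz⟩ _ F.hv₁E⟩ else 0
  have h1 : Φ u = Φ u' := by
    simp only [Φ, u, u']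
    rw [Finset.sum_eq_single i (fun j _ hj => by rw [if_neg hj, ZeroMemClass.coe_zero, smul_zero]) (by simp),
      Finset.sum_eq_single (1 : F.I) (fun j _ hj => by rw [if_neg hj, ZeroMemClass.coe_zero, smul_zero]) (by simp),
      if_pos rfl, if_pos rfl, F.hlift1, Subgroup.coe_one, one_smul]
    simp [κ, ← mul_smul]
  have h2 := congrArg Subtype.val (congrFun (F.hbij.1 h1) 1)
  simp only [u, u', if_pos, if_neg (Ne.symm hne)] at h2
  exact F.hv₁ ((smul_eq_zero_iff_eq _).1 h2.symm)

set_option maxHeartbeats 1000000 in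
/-- A colouring by classes of coefficients gives a pair. -/
theorem pair_of_classes {ι : Z →* Kˣ} (hι : Function.Injective ι) (hιs : Function.Surjective ι)
    (hιv : ∀ (z : Z) (v : V), ((ι z : Kˣ) : K) • v = (z : A) • v)
    (hcomm : ∀ (g : A) (k : K) (v : V), g • (k • v) = k • (g • v))
    (hne : ¬ Subgroup.centralizer (Z : Set A) ≤ Z) (F : Frame A Z K V) (he : Module.finrank K F.E ≤ 2) {q m : ℕ} (hm : 0 < m) (hqm : q ∣ m)
    (hqc : q ∣ m.choose 2) (hexp : ∀ l : Soc Z, ((l ^ q : Soc Z) : A) ∈ Z)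
    (col : F.I → Option (powMonoidHom m : Kˣ →* Kˣ).range)
    (hrigid : ∀ π : F.I →* F.I, Function.Injective π → (∀ i, i ≠ 1 → col (π i) = col i) → ∀ i, π i = i)
    (hone : ∀ i j, i ≠ 1 → j ≠ 1 → col i = none → col j = none → i = j)
    (hbig : ∀ i, i ≠ 1 → col i = none → 8 ≤ Nat.card F.I) [FaithfulSMul A V] : Pair A V := by
  classical
  have hcommC : ∀ g ∈ Subgroup.centralizer (Z : Set A), ∀ (k : K) (v : V), g • (k • v) = k • (g • v) :=
    fun g _ => hcomm g
  let Φ : (F.I → F.E) → V := fun u => ∑ i, ((F.lift i : A) • (u i : V))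
  have hv1 : (⟨F.v₁, F.hv₁E⟩ : F.E) ≠ 0 := fun h => F.hv₁ (congrArg Subtype.val h)
  have hscE : ∀ z : Z, ∀ u ∈ F.E, (z : A) • u ∈ F.E := fun z u hu => by
    rw [← hιv]; exact F.E.smul_mem _ hu
  have hψZ : ∀ z : Soc Z, (z : A) ∈ Z → F.ψ z = 1 := psi_eq_one hιv F
  have hZL : Z ≤ socle Z (Subgroup.centralizer (Z : Set A)) := (exists_socle hne).le
  -- kernel elements with an eigenvector
  have hscalar : ∀ (ρ : Soc Z) (c : K), (ρ : A) • F.v₁ = c • F.v₁ →
      ∃ z : Z, ((ι z : Kˣ) : K) = c ∧ (((⟨z, hZL z.2⟩ : Soc Z)⁻¹ * ρ : Soc Z) : A) • F.v₁ = F.v₁ := by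
    intro ρ c hρ
    have hc : c ≠ 0 := fun h => by
      rw [h, zero_smul, smul_eq_zero_iff_eq] at hρ
      exact F.hv₁ hρ
    obtain ⟨z, hz⟩ := hιs (Units.mk0 c hc)
    refine ⟨z, by rw [hz]; rfl, ?_⟩
    rw [Subgroup.coe_mul, Subgroup.coe_inv, mul_smul, hρ, inv_smul_eq_iff, ← hιv, hz]
    rfl
  have hstabker : ∀ (s κ : Soc Z), (s : A) • F.v₁ = F.v₁ → F.ψ κ = 1 → form ι s κ = 1 := by
    intro s κ hs hκ
    have h := smul_swap hιv s κ F.v₁
    rw [hs, F.hfix s hs _ (F.hker κ hκ _ F.hv₁E)] at h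
    exact Units.ext (smul_left_injective K (fun h0 => F.hv₁ ((smul_eq_zero_iff_eq _).1 h0))
      (h.symm.trans (one_smul K _).symm)).symm.symm
  -- scalars of the powers of the lifts
  have hqZ : ∀ l : Soc Z, ((l ^ m : Soc Z) : A) ∈ Z := by
    intro l
    obtain ⟨t, rfl⟩ := hqm
    rw [pow_mul, Subgroup.coe_pow]
    exact pow_mem (hexp l) t
  let bI : F.I → Kˣ := fun i => ι ⟨_, hqZ (F.lift i)⟩
  -- representatives and colours
  let P := (powMonoidHom m : Kˣ →* Kˣ).range
  let rep : Kˣ → Kˣ := fun b => ((QuotientGroup.mk b : Kˣ ⧸ P)).out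
  have hrepP : ∀ b, b⁻¹ * rep b ∈ P := fun b => by
    rw [← QuotientGroup.eq]
    exact ((QuotientGroup.mk b : Kˣ ⧸ P).out_eq').symm
  have hcoef : ∀ i : F.I, ∃ f : K, (col i = none → f = 0) ∧ ∀ t, col i = some t →
      ∃ u : Kˣ, f = u ∧ u ^ m * bI i = rep (bI i) * t.1 := by
    intro i
    rcases h : col i with _ | t
    · exact ⟨0, fun _ => rfl, fun t h' => by simp at h'⟩
    · obtain ⟨u, hu⟩ : (bI i)⁻¹ * rep (bI i) * t.1 ∈ P := mul_mem (hrepP _) t.2
      refine ⟨u, fun h' => by simp at h', fun t' h' => ⟨u, rfl, ?_⟩⟩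
      obtain rfl := Option.some_injective _ h'
      rw [show u ^ m = (bI i)⁻¹ * rep (bI i) * t.1 from hu]
      rw [mul_comm, ← mul_assoc, mul_inv_cancel_left]
  choose f hf0 hf1 using hcoef
  obtain ⟨d, hd⟩ : ∃ d, Module.finrank K F.E = d + 1 :=
    Nat.exists_eq_add_one.2 (Module.finrank_pos_iff_exists_ne_zero.2 ⟨_, hv1⟩)
  obtain ⟨bE, hbE⟩ := exists_basis_first (K := K) hv1 hd
  let w : F.E := bE (Fin.last d)
  let uY : F.I → F.E := fun i => if i = 1 then w else f i • ⟨F.v₁, F.hv₁E⟩
  refine ⟨F.v₁, Φ uY, fun g hg hY x => ?_⟩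
  have hker : ∀ l : Soc Z, F.ψ l = 1 → F.ψ (conjL g l) = 1 := F.hconj g hg inferInstance
  let π₀ : F.I → F.I := fun i => F.ψ (conjL g (F.lift i))
  have hπψ : ∀ l, π₀ (F.ψ l) = F.ψ (conjL g l) := by
    intro l
    have h1 : F.ψ ((F.lift (F.ψ l))⁻¹ * l) = 1 := by rw [map_mul, map_inv, F.hlift, inv_mul_cancel]
    have h2 := hker _ h1
    conv_rhs => rw [← mul_inv_cancel_left (F.lift (F.ψ l)) l, conjL_mul, map_mul, h2, mul_one]
  let π : F.I →* F.I := MonoidHom.mk' π₀ fun i j => by
    conv_lhs => rw [← F.hlift i, ← F.hlift j, ← map_mul, hπψ, conjL_mul, map_mul]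
  have hπinj : Function.Injective π := by
    rw [injective_iff_map_eq_one]
    intro i hi
    have hg' : g⁻¹ • F.v₁ = F.v₁ := inv_smul_eq_iff.2 hg.symm
    have h2 := F.hconj g⁻¹ hg' inferInstance _ hi
    rwa [conjL_conjL, inv_mul_cancel, conjL_one_left, F.hlift] at h2
  have hπ1 : π 1 = 1 := map_one π
  let ρ : F.I → Soc Z := fun i => (F.lift (π i))⁻¹ * conjL g (F.lift i)
  have hρker : ∀ i, F.ψ (ρ i) = 1 := fun i => by
    rw [map_mul, map_inv, F.hlift]; exact inv_mul_cancel _
  have hπb : Function.Bijective π := Finite.injective_iff_bijective.1 hπinj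
  have hmoved : ∀ i, (ρ i : A) • g • (uY i : V) = uY (π i) := by
    let e := Equiv.ofBijective π hπb
    let u' : F.I → F.E := fun j => ⟨(ρ (e.symm j) : A) • g • (uY (e.symm j) : V),
      F.hker _ (hρker _) _ (F.hinv g hg _ (uY (e.symm j)).2)⟩
    have h1 : Φ u' = g • Φ uY := by
      simp only [Φ, Finset.smul_sum]
      refine Fintype.sum_equiv e.symm _ _ fun j => ?_
      change (F.lift j : A) • (ρ (e.symm j) : A) • g • (uY (e.symm j) : V) = _
      have hj : π (e.symm j) = j := e.apply_symm_apply j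
      simp only [ρ, hj, Subgroup.coe_mul, Subgroup.coe_inv, conjL, mul_smul, smul_inv_smul, inv_smul_smul]
    rw [hY] at h1
    intro i
    have h2 := congrArg Subtype.val (congrFun (F.hbij.1 h1) (π i))
    change (ρ (e.symm (π i)) : A) • g • (uY (e.symm (π i)) : V) = uY (π i) at h2
    rwa [show e.symm (π i) = i from e.symm_apply_apply i] at h2
  have hρ1 : ρ 1 = 1 := by
    simp only [ρ, hπ1, F.hlift1, conjL_one, inv_one, mul_one]
  have hgw : g • (w : V) = w := by
    have h := hmoved 1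
    simpa [uY, hπ1, hρ1] using h
  have hgE : ∀ u ∈ F.E, g • u = u := by
    intro u hu
    have h := congrArg (fun x : F.E => (x : V)) (bE.sum_repr ⟨u, hu⟩)
    simp only [Submodule.coe_sum, Submodule.coe_smul] at h
    rw [← h, Finset.smul_sum]
    refine Finset.sum_congr rfl fun i _ => ?_
    rw [hcomm]
    congr 1
    by_cases hi : i = 0
    · rw [hi, hbE]; exact hg
    · rw [show i = Fin.last d from Fin.ext (by
        have := i.2
        have : (i : ℕ) ≠ 0 := fun h => hi (Fin.ext h)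
        rw [Fin.val_last]; omega)]
      exact hgw
  have hπne : ∀ i, i ≠ 1 → π i ≠ 1 := fun i hi h => hi (hπinj (h.trans hπ1.symm))
  have hρv : ∀ i, i ≠ 1 → f i • ((ρ i : A) • F.v₁) = f (π i) • F.v₁ := by
    intro i hi
    have h := hmoved i
    simp only [uY, if_neg hi, if_neg (hπne i hi), Submodule.coe_smul, hcomm, hg] at h
    exact h
  have hcolpres : ∀ i, i ≠ 1 → col (π i) = col i := by
    intro i hi
    have h := hρv i hi
    rcases hc : col i with _ | t
    · rw [hf0 i hc, zero_smul, eq_comm, smul_eq_zero, or_iff_left F.hv₁] at h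
      rcases hc' : col (π i) with _ | t'
      · rfl
      · obtain ⟨u, hu, -⟩ := hf1 _ t' hc'
        rw [hu] at h
        exact absurd h u.ne_zero
    obtain ⟨u, hu, hut⟩ := hf1 i t hc
    rcases hc' : col (π i) with _ | t'
    · rw [hf0 _ hc', zero_smul, hu, smul_eq_zero, smul_eq_zero_iff_eq] at h
      exact absurd h (not_or.2 ⟨u.ne_zero, F.hv₁⟩)
    obtain ⟨u', hu', hut'⟩ := hf1 _ t' hc'
    rw [hu, hu'] at h
    have hρc : (ρ i : A) • F.v₁ = ((u⁻¹ * u' : Kˣ) : K) • F.v₁ := by
      rw [Units.val_mul, mul_smul, ← h, smul_smul, Units.inv_mul, one_smul]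
    obtain ⟨z, hz, hzs⟩ := hscalar _ _ hρc
    set s : Soc Z := (⟨z, hZL z.2⟩ : Soc Z)⁻¹ * ρ i with hs
    have hsm : s ^ m = 1 := by
      have h2 : ((s ^ m : Soc Z) : A) • F.v₁ = F.v₁ := by
        rw [Subgroup.coe_pow]
        exact MulAction.mem_stabilizer_iff.1 (pow_mem (MulAction.mem_stabilizer_iff.2 hzs) m)
      have h3 := hιv ⟨_, hqZ s⟩ F.v₁
      rw [h2] at h3
      have h4 : (⟨_, hqZ s⟩ : Z) = 1 := hι (Units.ext (by
        rw [map_one, Units.val_one]
        exact smul_left_injective K F.hv₁ (h3.trans (one_smul K _).symm)))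
      exact Subtype.ext (congrArg Subtype.val h4 : _)
    set l' := F.lift (π i) with hl'
    have hconj : conjL g (F.lift i) = (⟨z, hZL z.2⟩ : Soc Z) * (l' * s) := by
      have hzc : Commute (⟨z, hZL z.2⟩ : Soc Z) l' := Subtype.ext (socle_central l'.2 z.2)
      rw [← mul_assoc, hzc.eq, mul_assoc, hs, mul_inv_cancel_left]
      simp only [ρ, hl', mul_inv_cancel_left]
    set W : Soc Z := s * l' * (l' * s)⁻¹ with hW
    have hWZ : (W : A) ∈ Z := by
      have := socle_comm (Subgroup.commutator_mem_commutator s.2 l'.2)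
      rw [commutatorElement_def] at this
      simpa only [hW, mul_inv_rev, Subgroup.coe_mul, Subgroup.coe_inv, mul_assoc] using this
    have hWq : W ^ q = 1 := by
      have h2 : form ι s l' ^ q = 1 := by rw [← form_pow_right]; exact form_of_mem hι _ _ (hexp l')
      have h3 : ι ⟨_, hWZ⟩ = form ι s l' := by
        rw [form]
        congr 1
        exact Subtype.ext (by simp [hW, mul_assoc])
      rw [← h3, ← map_pow, map_eq_one_iff ι hι] at h2
      exact Subtype.ext (congrArg Subtype.val h2 : _)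
    have hzcen : ∀ {z' : Soc Z}, (z' : A) ∈ Z → ∀ l : Soc Z, Commute z' l := fun hz' l =>
      Subtype.ext (socle_central l.2 hz')
    have hpow2 : (l' * s) ^ m = l' ^ m := by
      obtain ⟨t2, ht2⟩ := hqc
      rw [collect_pow (inv_mul_cancel_right _ _).symm (hzcen hWZ l') (hzcen hWZ s), hsm, mul_one, ht2,
        pow_mul, hWq, one_pow, one_mul]
    have hpow3 : conjL g (F.lift i) ^ m = conjL g (F.lift i ^ m) := by
      apply Subtype.ext
      simp [conjL, conj_pow]
    rw [hconj, (hzcen (show ((⟨z, hZL z.2⟩ : Soc Z) : A) ∈ Z from z.2) _).mul_pow, hpow2] at hpow3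
    have hfix : conjL g (F.lift i ^ m) = F.lift i ^ m := by
      apply Subtype.ext
      have hgC : g * ((F.lift i ^ m : Soc Z) : A) = ((F.lift i ^ m : Soc Z) : A) * g := by
        refine eq_of_smul_eq_smul fun v : V => ?_
        rw [mul_smul, mul_smul, ← hιv ⟨_, hqZ _⟩, ← hιv ⟨_, hqZ _⟩, hcomm]
      change g * _ * g⁻¹ = _
      rw [hgC, mul_inv_cancel_right]
    rw [hfix] at hpow3
    have hb : (ι z) ^ m * bI (π i) = bI i := by
      simp only [bI]
      rw [← map_pow, ← map_mul]
      congr 1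
      exact Subtype.ext (congrArg Subtype.val hpow3 : _)
    have hιz : ι z = u⁻¹ * u' := Units.ext hz
    have hw : u' ^ m * bI (π i) = u ^ m * bI i := by
      rw [← hb, hιz, mul_pow, inv_pow, ← mul_assoc, ← mul_assoc, mul_inv_cancel, one_mul]
    have hsame : rep (bI (π i)) = rep (bI i) := by
      simp only [rep]
      congr 1
      rw [QuotientGroup.eq]
      refine ⟨u' * u⁻¹, ?_⟩
      change (u' * u⁻¹) ^ m = _
      rw [mul_pow, inv_pow, eq_inv_mul_iff_mul_eq, ← mul_assoc, mul_comm (bI _), hw, mul_assoc,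
        mul_comm (bI i), mul_inv_cancel_left]
    rw [hut, hut', hsame] at hw
    exact congrArg some (Subtype.ext (mul_left_cancel hw))
  have hid := hrigid π hπinj hcolpres
  -- the stabilisers fix the first vector
  have hρfix' : ∀ i, i ≠ 1 → col i ≠ none → (ρ i : A) • F.v₁ = F.v₁ := by
    intro i hi hc
    obtain ⟨t, ht⟩ := Option.ne_none_iff_exists'.1 hc
    obtain ⟨u, hu, -⟩ := hf1 i t ht
    have h := hρv i hi
    rw [hid, hu] at h
    exact smul_right_injective V u.ne_zero h
  have hρfix : ∀ i, (ρ i : A) • F.v₁ = F.v₁ := by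
    intro i
    by_cases hi : i = 1
    · rw [hi, hρ1, Subgroup.coe_one, one_smul]
    by_cases hc : col i = none
    swap
    · exact hρfix' i hi hc
    have h8 := hbig i hi hc
    have hgood : ∀ j, j ≠ i → (ρ j : A) • F.v₁ = F.v₁ := fun j hj => by
      by_cases hj1 : j = 1
      · rw [hj1, hρ1, Subgroup.coe_one, one_smul]
      · exact hρfix' j hj1 fun h => hj (hone j i hj1 hi h hc)
    have hmv : ∀ j, ∀ x ∈ F.E, j ≠ i → g • (F.lift j : A) • x = (F.lift j : A) • x := by
      intro j x hx hj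
      have h1 : conjL g (F.lift j) = F.lift j * ρ j := by simp [ρ, hid j]
      calc g • (F.lift j : A) • x = (conjL g (F.lift j) : A) • g • x := by
            simp only [conjL, mul_smul, inv_smul_smul]
        _ = (F.lift j : A) • x := by
          rw [hgE x hx, h1, Subgroup.coe_mul, mul_smul, F.hfix _ (hgood j hj) x hx]
    -- products of two good lifts are fixed
    have hpair : ∀ a b, a ≠ i → b ≠ i → a * b ≠ i → form ι (ρ a) (F.lift b) = 1 := by
      intro a b ha hb hab
      let κ : Soc Z := (F.lift (a * b))⁻¹ * (F.lift a * F.lift b)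
      have hκ : F.ψ κ = 1 := by simp [κ, F.hlift]
      have h1 := hmv (a * b) _ (F.hker κ hκ _ F.hv₁E) hab
      have h2 : (F.lift (a * b) : A) • (κ : A) • F.v₁ = (F.lift a : A) • (F.lift b : A) • F.v₁ := by
        simp only [κ, Subgroup.coe_mul, Subgroup.coe_inv, mul_smul, smul_inv_smul]
      rw [h2] at h1
      have h3 : g • (F.lift a : A) • (F.lift b : A) • F.v₁ =
          (F.lift a : A) • (ρ a : A) • (F.lift b : A) • F.v₁ := by
        have h4 : conjL g (F.lift a) = F.lift a * ρ a := by simp [ρ, hid a]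
        calc g • (F.lift a : A) • (F.lift b : A) • F.v₁
            = (conjL g (F.lift a) : A) • g • (F.lift b : A) • F.v₁ := by
              simp only [conjL, mul_smul, inv_smul_smul]
          _ = _ := by rw [hmv b _ F.hv₁E hb, h4, Subgroup.coe_mul, mul_smul]
      rw [h3] at h1
      have h5 := MulAction.injective _ h1
      rw [smul_swap hιv, hgood a ha] at h5
      exact Units.ext (smul_left_injective K (fun h0 => F.hv₁ ((smul_eq_zero_iff_eq _).1 h0))
        (h5.trans (one_smul K _).symm))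
    have hfmul : ∀ a j k, a ≠ i → form ι (ρ a) (F.lift (j * k)) =
        form ι (ρ a) (F.lift j) * form ι (ρ a) (F.lift k) := by
      intro a j k ha
      let κ : Soc Z := (F.lift (j * k))⁻¹ * (F.lift j * F.lift k)
      have hκ : F.ψ κ = 1 := by simp [κ, F.hlift]
      have h1 : F.lift j * F.lift k = F.lift (j * k) * κ := (mul_inv_cancel_left _ _).symm
      rw [← form_mul_right, h1, form_mul_right, hstabker _ _ (hgood a ha) hκ, mul_one]
    obtain ⟨a, ha⟩ : ∃ a, a ∉ ({1, i} : Finset F.I) := by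
      refine Finset.exists_mem_notMem_of_card_lt_card (t := Finset.univ) ?_ |>.imp fun a h => h.2
      rw [Finset.card_univ, ← Nat.card_eq_fintype_card]
      exact lt_of_le_of_lt Finset.card_le_two (by omega)
    simp only [Finset.mem_insert, Finset.mem_singleton, not_or] at ha
    set b := a⁻¹ * i with hb
    have hab : a * b = i := mul_inv_cancel_left a i
    have hbi : b ≠ i := fun h => by
      rw [h] at hab
      exact ha.1 (mul_eq_right.1 hab)
    -- find an auxiliary element
    obtain ⟨e, he⟩ : ∃ e, e ∉ ({i, b⁻¹ * i, a⁻¹ * i} : Finset F.I) ∪ {1} := by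
      refine Finset.exists_mem_notMem_of_card_lt_card (t := Finset.univ) ?_ |>.imp fun a h => h.2
      rw [Finset.card_univ, ← Nat.card_eq_fintype_card]
      refine lt_of_le_of_lt (Finset.card_union_le _ _) ?_
      have := Finset.card_le_three (a := i) (b := b⁻¹ * i) (c := a⁻¹ * i)
      simp only [Finset.card_singleton]
      omega
    simp only [Finset.mem_union, Finset.mem_insert, Finset.mem_singleton, not_or] at he
    obtain ⟨⟨he1, he2, he3⟩, he4⟩ := he
    have hab1 : form ι (ρ a) (F.lift b) = 1 := by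
      have h1 := hpair a e ha.2 he1 (fun h => he3 (eq_inv_mul_iff_mul_eq.2 h))
      have h2 := hpair a (b * e) ha.2 (fun h => he2 (eq_inv_mul_iff_mul_eq.2 h)) (fun h => he4 (by
        rw [← mul_assoc, hab] at h
        exact mul_eq_left.1 h))
      rwa [hfmul a b e ha.2, h1, mul_one] at h2
    let κ : Soc Z := (F.lift i)⁻¹ * (F.lift a * F.lift b)
    have hκ : F.ψ κ = 1 := by simp [κ, F.hlift, hab]
    have h1 : g • (F.lift a : A) • (F.lift b : A) • F.v₁ = (F.lift a : A) • (F.lift b : A) • F.v₁ := by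
      have h4 : conjL g (F.lift a) = F.lift a * ρ a := by simp [ρ, hid a]
      calc g • (F.lift a : A) • (F.lift b : A) • F.v₁
          = (conjL g (F.lift a) : A) • g • (F.lift b : A) • F.v₁ := by
            simp only [conjL, mul_smul, inv_smul_smul]
        _ = _ := by
          rw [hmv b _ F.hv₁E hbi, h4, Subgroup.coe_mul, mul_smul, smul_swap hιv (ρ a) (F.lift b), hgood a ha.2, hab1,
            Units.val_one, one_smul]
    have h2 : (F.lift i : A) • (κ : A) • F.v₁ = (F.lift a : A) • (F.lift b : A) • F.v₁ := by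
      simp only [κ, Subgroup.coe_mul, Subgroup.coe_inv, mul_smul, smul_inv_smul]
    rw [← h2] at h1
    have hκE := F.hker κ hκ _ F.hv₁E
    have h3 : conjL g (F.lift i) = F.lift i * ρ i := by simp [ρ, hid i]
    have h4 : g • (F.lift i : A) • (κ : A) • F.v₁ = (F.lift i : A) • (ρ i : A) • (κ : A) • F.v₁ := by
      calc g • (F.lift i : A) • (κ : A) • F.v₁ = (conjL g (F.lift i) : A) • g • (κ : A) • F.v₁ := by
            simp only [conjL, mul_smul, inv_smul_smul]
        _ = _ := by rw [hgE _ hκE, h3, Subgroup.coe_mul, mul_smul]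
    rw [h4] at h1
    have h5 := MulAction.injective _ h1
    -- an eigenvector forces a scalar
    have h6 := smul_swap hιv (ρ i) κ F.v₁
    rw [h5] at h6
    obtain ⟨c, hc'⟩ : ∃ c : K, (ρ i : A) • F.v₁ = c • F.v₁ := by
      refine ⟨((form ι κ (ρ i) : Kˣ) : K), MulAction.injective (κ : A) ?_⟩
      change (κ : A) • (ρ i : A) • F.v₁ = (κ : A) • (_ • F.v₁)
      rw [smul_swap hιv, h5, hcomm]
    obtain ⟨z, hz, hzs⟩ := hscalar _ _ hc'
    have h7 := F.hfix _ hzs _ hκE
    rw [Subgroup.coe_mul, Subgroup.coe_inv, mul_smul, h5, inv_smul_eq_iff, ← hιv, hz] at h7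
    have hc1 : c = 1 := (smul_left_injective K (fun h0 => F.hv₁ ((smul_eq_zero_iff_eq _).1 h0))
      (h7.symm.trans (one_smul K _).symm))
    rw [hc', hc1, one_smul]
  -- conclusion
  obtain ⟨u, rfl⟩ := F.hbij.2 x
  simp only [Finset.smul_sum]
  refine Finset.sum_congr rfl fun i _ => ?_
  have h1 : (ρ i : A) • (u i : V) = u i := F.hfix _ (hρfix i) _ (u i).2
  simp only [ρ, hid i, Subgroup.coe_mul, Subgroup.coe_inv, conjL, mul_smul, inv_smul_eq_iff] at h1
  conv_rhs => rw [← h1]
  rw [inv_smul_eq_iff.2 (hgE _ (u i).2).symm]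

end Cfsg.Lib.CoprimeBase
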