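import Cfsg.Agent.CoprimeBase.Colour
import Cfsg.Agent.CoprimeBase.FieldData
import Cfsg.Agent.SolvBase.Main

/-!
Irreducible solvable 3'-groups have regular orbits on sets of non-zero vectors.
-/

set_option autoImplicit false
set_option linter.unusedSectionVars false

namespace Cfsg.Lib.CoprimeBase

open Cfsg.Lib.OddBase Cfsg.Lib.SolvBase
open scoped Pointwise

universe u

section

variable {G α : Type*} [Group G] [Finite G] [MulAction G α] [Finite α]

/-- Orbits of a cyclic group. -/
theorem two_cycNum_le (g : G) :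
    2 * cycNum α g ≤ Nat.card α + Nat.card (MulAction.fixedBy α g) := by
  classical
  haveI := Fintype.ofFinite α
  let Q := MulAction.orbitRel.Quotient (Subgroup.zpowers g) α
  haveI := Fintype.ofFinite Q
  let π : α → Q := Quotient.mk''
  have h1 : Fintype.card α = ∑ q : Q, (Finset.univ.filter fun x => π x = q).card := by
    rw [← Finset.card_univ, Finset.card_eq_sum_card_fiberwise (f := π) (t := Finset.univ)
      (fun x _ => Finset.mem_univ _)]
  have h2 : Nat.card (MulAction.fixedBy α g) =
      ∑ q : Q, (Finset.univ.filter fun x => π x = q ∧ g • x = x).card := by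
    rw [Nat.card_eq_fintype_card, Fintype.card_subtype]
    change (Finset.univ.filter fun x : α => g • x = x).card = _
    rw [Finset.card_eq_sum_card_fiberwise (f := π) (t := Finset.univ)
      (fun x _ => Finset.mem_univ _)]
    refine Finset.sum_congr rfl fun q _ => ?_
    rw [Finset.filter_filter]
    refine congrArg _ (Finset.filter_congr fun x _ => and_comm)
  have h3 : ∀ q : Q, 2 ≤ (Finset.univ.filter fun x => π x = q).card +
      (Finset.univ.filter fun x => π x = q ∧ g • x = x).card := by
    intro q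
    obtain ⟨x, rfl⟩ := Quotient.exists_rep q
    by_cases hfix : g • x = x
    · have h4 : 0 < (Finset.univ.filter fun y => π y = π x).card := Finset.card_pos.2 ⟨x, by simp⟩
      have h5 : 0 < (Finset.univ.filter fun y => π y = π x ∧ g • y = y).card :=
        Finset.card_pos.2 ⟨x, by simp [hfix]⟩
      change 2 ≤ (Finset.univ.filter fun y => π y = π x).card +
        (Finset.univ.filter fun y => π y = π x ∧ g • y = y).card
      omega
    · have hgπ : π (g • x) = π x := Quotient.sound' ⟨⟨g, Subgroup.mem_zpowers g⟩, rfl⟩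
      have h6 : ({x, g • x} : Finset α).card = 2 := Finset.card_pair fun h => hfix h.symm
      have h7 : ({x, g • x} : Finset α) ⊆ Finset.univ.filter fun y => π y = π x := by
        intro y hy
        simp only [Finset.mem_insert, Finset.mem_singleton] at hy
        rcases hy with rfl | rfl <;> simp [hgπ]
      have := Finset.card_le_card h7
      change 2 ≤ (Finset.univ.filter fun y => π y = π x).card + _
      omega
  have h4 := Finset.sum_le_sum fun q (_ : q ∈ (Finset.univ : Finset Q)) => h3 q
  rw [Finset.sum_const, Finset.card_univ, Finset.sum_add_distrib, ← h1, ← h2, smul_eq_mul] at h4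
  rw [cycNum, Nat.card_eq_fintype_card, Nat.card_eq_fintype_card]
  linarith

end

variable {H W : Type u} [Group H] [Finite H] [AddCommGroup W] [Finite W]
  [DistribMulAction H W] [FaithfulSMul H W]

/-- The non-zero vectors. -/
abbrev NZ (W : Type u) [AddCommGroup W] : Type u := {w : W // w ≠ 0}

instance : MulAction H (NZ W) where
  smul h w := ⟨h • (w : W), fun hh => w.2 ((smul_eq_zero_iff_eq h).1 hh)⟩
  one_smul w := Subtype.ext (one_smul H (w : W))
  mul_smul g h w := Subtype.ext (mul_smul g h (w : W))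

/-- Few elements fix a hyperplane. -/
theorem hyperplane_count {k : ℕ} (hk : 1 ≤ k) (hexp : ∀ w : W, 2 • w = 0)
    (hcard : Nat.card W = 2 ^ k) :
    Nat.card {h : H // Nat.card (fixS H W h) = 2 ^ (k - 1)} ≤ 2 ^ k * 2 ^ k := by
  classical
  letI : Module (ZMod 2) W := AddCommGroup.zmodModule hexp
  have hidx : ∀ h : {h : H // Nat.card (fixS H W h) = 2 ^ (k - 1)}, (fixS H W h.1).index = 2 := by
    intro h
    have h1 := (fixS H W h.1).card_mul_index
    rw [h.2, hcard, show 2 ^ k = 2 ^ (k - 1) * 2 by rw [← pow_succ]; congr 1; omega] at h1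
    exact Nat.eq_of_mul_eq_mul_left (by positivity) h1
  let g : {h : H // Nat.card (fixS H W h) = 2 ^ (k - 1)} → (W →ₗ[ZMod 2] ZMod 2) := fun h =>
    AddMonoidHom.toZModLinearMap 2 (AddMonoidHom.mk'
      (fun x => if x ∈ fixS H W h.1 then 0 else 1) (fun x y => by
        have hm : (x + y ∈ fixS H W h.1) ↔ (x ∈ fixS H W h.1 ↔ y ∈ fixS H W h.1) :=
          AddSubgroup.add_mem_iff_of_index_two (hidx h)
        by_cases hx : x ∈ fixS H W h.1 <;> by_cases hy : y ∈ fixS H W h.1 <;>
          simp [hx, hy, hm]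
        decide))
  have hv : ∀ f : W →ₗ[ZMod 2] ZMod 2, ∃ v : W, (∃ x, f x ≠ 0) → f v ≠ 0 := by
    intro f
    by_cases hf : ∃ x, f x ≠ 0
    · exact ⟨hf.choose, fun _ => hf.choose_spec⟩
    · exact ⟨0, fun h => absurd h hf⟩
  choose v hv using hv
  haveI : Finite (W →ₗ[ZMod 2] ZMod 2) := Finite.of_injective _ DFunLike.coe_injective
  have hcg : Nat.card ((W →ₗ[ZMod 2] ZMod 2) × W) = 2 ^ k * 2 ^ k := by
    rw [Nat.card_prod, Module.natCard_eq_pow_finrank (K := ZMod 2), Module.finrank_linearMap,
      Module.finrank_self, mul_one, Nat.card_zmod, hcard]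
    congr 2
    refine Nat.pow_right_injective le_rfl ?_
    change 2 ^ _ = 2 ^ k
    rw [← hcard, Module.natCard_eq_pow_finrank (K := ZMod 2), Nat.card_zmod]
  rw [← hcg]
  refine Nat.card_le_card_of_injective (fun h => (g h, h.1 • v (g h))) ?_
  intro a b hab
  have h1 : g a = g b := congrArg Prod.fst hab
  have h2 : a.1 • v (g a) = b.1 • v (g b) := congrArg Prod.snd hab
  have hmem : ∀ c, ∀ x : W, g c x = 0 ↔ c.1 • x = x := by
    intro c x
    change (if x ∈ fixS H W c.1 then (0 : ZMod 2) else 1) = 0 ↔ _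
    by_cases hx : x ∈ fixS H W c.1
    · simp only [hx, if_true, true_iff]; exact hx
    · simp only [hx, if_false, one_ne_zero, false_iff]; exact hx
  have hne : ∃ x, g a x ≠ 0 := by
    by_contra hc
    push Not at hc
    have : fixS H W a.1 = ⊤ := eq_top_iff.2 fun x _ => (hmem a x).1 (hc x)
    have h3 := hidx a
    rw [this, AddSubgroup.index_top] at h3
    omega
  set v0 := v (g a) with hv0
  have hv1 : g a v0 = 1 := by
    rcases (show ∀ z : ZMod 2, z = 0 ∨ z = 1 by decide) (g a v0) with h | h
    · exact absurd h (hv _ hne)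
    · exact h
  rw [← h1] at h2
  refine Subtype.ext (eq_of_smul_eq_smul fun x : W => ?_)
  have hx0 : g a (x - g a x • v0) = 0 := by
    rw [map_sub, map_smul, smul_eq_mul, hv1, mul_one, sub_self]
  have e1 := (hmem a _).1 hx0
  have e2 := (hmem b (x - g a x • v0)).1 (by rw [← h1]; exact hx0)
  have hx : x = (x - g a x • v0) + g a x • v0 := (sub_add_cancel _ _).symm
  rw [hx, smul_add, smul_add, e1, e2]
  congr 1
  rcases (show ∀ z : ZMod 2, z = 0 ∨ z = 1 by decide) (g a x) with h | h
  · rw [h, zero_smul, smul_zero, smul_zero]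
  · rw [h, one_smul]; exact h2

/-- A set of non-zero vectors from a set with trivial stabiliser. -/
theorem exists_of_regSet (h : RegSet H (NZ W)) :
    ∃ D : Set W, (0 : W) ∉ D ∧ ∀ h : H, (∀ d ∈ D, h • d ∈ D) → h = 1 := by
  obtain ⟨S, hS⟩ := h
  refine ⟨Subtype.val '' S, fun ⟨x, _, hx⟩ => x.2 hx, fun g hg => ?_⟩
  have hsub : g • S ⊆ S := by
    rintro _ ⟨x, hx, rfl⟩
    obtain ⟨y, hy, he⟩ := hg (x : W) ⟨x, hx, rfl⟩
    have : g • x = y := Subtype.ext he.symm
    change g • x ∈ S
    rwa [this]
  have heq : g • S = S := Set.eq_of_subset_of_ncard_le hsub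
    (by rw [Set.ncard_smul_set]) (Set.toFinite _)
  refine eq_of_smul_eq_smul fun w : W => ?_
  rw [one_smul]
  rcases eq_or_ne w 0 with rfl | hw
  · exact smul_zero g
  · exact congrArg Subtype.val (hS g heq ⟨w, hw⟩)

/-- Large dimension: counting. -/
theorem regular_subset_big {k : ℕ} (hk : 6 ≤ k) (hexp : ∀ w : W, 2 • w = 0)
    (hcard : Nat.card W = 2 ^ k) (hH : Nat.card H ≤ 2 ^ (3 * k)) :
    ∃ D : Set W, (0 : W) ∉ D ∧ ∀ h : H, (∀ d ∈ D, h • d ∈ D) → h = 1 := by
  classical
  refine exists_of_regSet (regSet_of_count fun {fH dH} => ?_)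
  haveI := Fintype.ofFinite W
  obtain ⟨j, rfl⟩ := Nat.exists_eq_add_of_le hk
  have hN : Nat.card (NZ W) = 2 ^ (6 + j) - 1 := by
    rw [← hcard, Nat.card_eq_fintype_card, Nat.card_eq_fintype_card, Fintype.card_subtype_compl,
      Fintype.card_subtype_eq]
  have hfix : ∀ h : H, Nat.card (MulAction.fixedBy (NZ W) h) + 1 ≤ Nat.card (fixS H W h) := by
    intro h
    rw [← Nat.card_unique (α := PUnit.{1}), ← Nat.card_sum]
    refine Nat.card_le_card_of_injective
      (Sum.elim (fun x => (⟨((x : NZ W) : W), congrArg Subtype.val x.2⟩ : fixS H W h)) (fun _ => 0)) ?_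
    rintro (a | a) (b | b) he
    · exact congrArg Sum.inl (Subtype.ext (Subtype.ext (congrArg Subtype.val he :)))
    · exact absurd (congrArg Subtype.val he) (a : NZ W).2
    · exact absurd (congrArg Subtype.val he).symm (b : NZ W).2
    · rfl
  set a := 2 ^ (3 + j) with ha
  have ha1 : j + 7 ≤ a := by
    have : j < 2 ^ j := Nat.lt_two_pow_self
    rw [ha, pow_add]
    omega
  have hp6 : 2 ^ (6 + j) = 8 * a := by rw [ha, show 6 + j = 3 + (3 + j) by omega, pow_add]; norm_num
  have hp5 : 2 ^ (5 + j) = 4 * a := by rw [ha, show 5 + j = 2 + (3 + j) by omega, pow_add]; norm_num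
  have hp4 : 2 ^ (4 + j) = 2 * a := by rw [ha, show 4 + j = 1 + (3 + j) by omega, pow_add]; norm_num
  have hc : ∀ h ∈ (Finset.univ.erase (1 : H)),
      2 ^ cycNum (NZ W) h ≤ (if Nat.card (fixS H W h) = 2 ^ (6 + j - 1) then 2 ^ (6 * a - 1) else 0) +
        2 ^ (5 * a - 1) := by
    intro h hh
    have h2 := two_cycNum_le (α := NZ W) h
    have h3 := hfix h
    obtain ⟨f, hfk, hf⟩ :=
      (Nat.dvd_prime_pow Nat.prime_two).1 (hcard ▸ (fixS H W h).card_addSubgroup_dvd_card)
    have hflt : f ≠ 6 + j := by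
      intro hlt
      have htop : fixS H W h = ⊤ := AddSubgroup.eq_top_of_card_eq _ (by rw [hf, hcard, hlt])
      exact Finset.ne_of_mem_erase hh (eq_of_smul_eq_smul fun w : W => by
        rw [one_smul]; exact show w ∈ fixS H W h from htop ▸ AddSubgroup.mem_top w)
    split_ifs with hif
    · rw [hif, show 6 + j - 1 = 5 + j by omega, hp5] at h3
      rw [hN, hp6] at h2
      refine le_trans ?_ (Nat.le_add_right _ _)
      exact Nat.pow_le_pow_right (by norm_num) (by omega)
    · rw [zero_add]
      have hf4 : f ≤ 4 + j := by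
        rw [hf] at hif
        by_contra hc
        exact hif (congrArg (2 ^ ·) (by omega))
      have : 2 ^ f ≤ 2 ^ (4 + j) := Nat.pow_le_pow_right (by norm_num) hf4
      rw [hp4, ← hf] at this
      rw [hN, hp6] at h2
      exact Nat.pow_le_pow_right (by norm_num) (by omega)
  refine lt_of_le_of_lt (Finset.sum_le_sum hc) ?_
  rw [Finset.sum_add_distrib, Finset.sum_const, smul_eq_mul, hN, hp6, ← Finset.sum_filter,
    Finset.sum_const, smul_eq_mul]
  have h1 : ((Finset.univ.erase (1 : H)).filter
      fun h => Nat.card (fixS H W h) = 2 ^ (6 + j - 1)).card ≤ 2 ^ (2 * (6 + j)) := by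
    rw [show 2 * (6 + j) = (6 + j) + (6 + j) by omega, pow_add]
    refine le_trans ?_ (hyperplane_count (H := H) (by omega) hexp hcard)
    rw [Nat.card_eq_fintype_card, Fintype.card_subtype]
    exact Finset.card_le_card (Finset.filter_subset_filter _ (Finset.erase_subset _ _))
  have h2 : (Finset.univ.erase (1 : H)).card ≤ 2 ^ (3 * (6 + j)) := by
    refine le_trans ((Finset.card_le_univ _).trans ?_) hH
    rw [Nat.card_eq_fintype_card]
  have e1 : 2 ^ (2 * (6 + j)) * 2 ^ (6 * a - 1) ≤ 2 ^ (8 * a - 3) := by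
    rw [← pow_add]; exact Nat.pow_le_pow_right (by norm_num) (by omega)
  have e2 : 2 ^ (3 * (6 + j)) * 2 ^ (5 * a - 1) ≤ 2 ^ (8 * a - 3) := by
    rw [← pow_add]; exact Nat.pow_le_pow_right (by norm_num) (by omega)
  have e3 : 2 ^ (8 * a - 3) + 2 ^ (8 * a - 3) < 2 ^ (8 * a - 1) := by
    rw [← two_mul, ← pow_succ']
    exact Nat.pow_lt_pow_right (by norm_num) (by omega)
  have := Nat.mul_le_mul_right (2 ^ (6 * a - 1)) h1
  have := Nat.mul_le_mul_right (2 ^ (5 * a - 1)) h2
  omega

/-- Elements of a cyclic semilinear stabiliser share their prime order part. -/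
theorem exists_prime_part {X Q : Type*} [Group X] [Finite X] [Nontrivial X] [Group Q] [Finite Q]
    [IsCyclic Q] (f : X →* Q) (hf : Function.Injective f) {r : ℕ} (hr : r.Prime) {e : ℕ}
    (hQ : Nat.card Q ∣ r ^ e) :
    ∃ t : X, t ≠ 1 ∧ ∀ h : X, h ≠ 1 → t ∈ Subgroup.zpowers h := by
  haveI : Fact r.Prime := ⟨hr⟩
  have hX : IsPGroup r X := by
    intro x
    obtain ⟨i, _, hi⟩ := (Nat.dvd_prime_pow hr).1 ((orderOf_dvd_natCard (f x)).trans hQ)
    exact ⟨i, hf (by rw [map_pow, map_one, ← hi, pow_orderOf_eq_one])⟩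
  have hprime : ∀ h : X, h ≠ 1 → ∃ y ∈ Subgroup.zpowers h, orderOf y = r := by
    intro h hh
    obtain ⟨i, hi⟩ := IsPGroup.iff_orderOf.1 hX h
    rcases Nat.eq_zero_or_pos i with rfl | hi0
    · exact absurd (orderOf_eq_one_iff.1 hi) hh
    refine ⟨h ^ (r ^ (i - 1)), Subgroup.npow_mem_zpowers h _, ?_⟩
    rw [orderOf_pow' _ (by have := hr.pos; positivity), hi]
    rw [Nat.gcd_eq_right (pow_dvd_pow r (by omega : i - 1 ≤ i)), Nat.pow_div (by omega) hr.pos,
      show i - (i - 1) = 1 by omega, pow_one]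
  obtain ⟨h₀, hh₀⟩ := exists_ne (1 : X)
  obtain ⟨t, -, ht⟩ := hprime h₀ hh₀
  refine ⟨t, fun h => hr.ne_one (by rw [← ht, h, orderOf_one]), fun h hh => ?_⟩
  obtain ⟨y, hy, hyo⟩ := hprime h hh
  have hsame : Subgroup.zpowers (f t) = Subgroup.zpowers (f y) := by
    haveI := Fintype.ofFinite Q
    have key : ∀ z : X, orderOf z = r → Subgroup.zpowers (f z) =
        Subgroup.zpowers (f t) ⊔ Subgroup.zpowers (f z) := by
      intro z hz
      refine (le_antisymm le_sup_right ?_)
      refine sup_le ?_ le_rfl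
      rw [Subgroup.zpowers_le]
      classical
      have hcl : (Finset.univ.filter fun q : Q => q ^ r = 1) =
          Finset.univ.filter fun q : Q => q ∈ Subgroup.zpowers (f z) := by
        symm
        refine Finset.eq_of_subset_of_card_le ?_ ?_
        · intro q hq
          simp only [Finset.mem_filter, Finset.mem_univ, true_and] at hq ⊢
          obtain ⟨n, rfl⟩ := Subgroup.mem_zpowers_iff.1 hq
          rw [← zpow_natCast, ← zpow_mul, mul_comm, zpow_mul, zpow_natCast, ← map_pow, ← hz,
            pow_orderOf_eq_one, map_one, one_zpow]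
        · refine (IsCyclic.card_pow_eq_one_le hr.pos).trans ?_
          rw [← Fintype.card_subtype, ← Nat.card_eq_fintype_card]
          change r ≤ Nat.card (Subgroup.zpowers (f z))
          rw [Nat.card_zpowers, orderOf_injective f hf, hz]
      have : f t ∈ (Finset.univ.filter fun q : Q => q ^ r = 1) := by
        simp only [Finset.mem_filter, Finset.mem_univ, true_and]
        rw [← map_pow, ← ht, pow_orderOf_eq_one, map_one]
      rw [hcl] at this
      simpa using this
    refine Subgroup.eq_of_le_of_card_ge ?_ ?_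
    · rw [key y hyo]; exact le_sup_left
    · rw [Nat.card_zpowers, Nat.card_zpowers, orderOf_injective f hf, orderOf_injective f hf, ht, hyo]
  have : f t ∈ (Subgroup.zpowers y).map f := by
    rw [MonoidHom.map_zpowers, ← hsame]; exact Subgroup.mem_zpowers _
  obtain ⟨x, hx, hxt⟩ := this
  exact hf hxt ▸ (Subgroup.zpowers_le.2 hy) hx

/-- Solvable irreducible groups of order prime to 6 or 3 in dimension at most five. -/
theorem regular_subset_small [Group.IsSolvable H] [Nontrivial W] {k : ℕ} (hk : k ≤ 5)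
    (hexp : ∀ w : W, 2 • w = 0) (hcard : Nat.card W = 2 ^ k) (hirr : Irr H W)
    (h3 : ¬ 3 ∣ Nat.card H) :
    ∃ D : Set W, (0 : W) ∉ D ∧ ∀ h : H, (∀ d ∈ D, h • d ∈ D) → h = 1 := by
  classical
  rcases subsingleton_or_nontrivial H with hH1 | hH1
  · exact ⟨∅, id, fun h _ => Subsingleton.elim _ _⟩
  obtain ⟨Z, hZn, hZc, hmax⟩ := exists_maxAbelian (A := H)
  haveI := hZn
  haveI := hZc
  have hZ1 : Z ≠ ⊥ := by
    intro hZ
    obtain ⟨D, hD, hDne, hDc⟩ := exists_abelian_normal (X := H)
    exact hDne ((hmax D hD hDc (hZ ▸ bot_le)).trans hZ)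
  have hno2 : ¬ 2 ∣ Nat.card Z := by
    intro h2
    haveI : Fact (Nat.Prime 2) := ⟨Nat.prime_two⟩
    let N : Subgroup H :=
      { carrier := {z | z ∈ Z ∧ z * z = 1}
        one_mem' := ⟨one_mem _, mul_one 1⟩
        mul_mem' := fun {x y} hx hy => ⟨mul_mem hx.1 hy.1, by
          have hxy : y * x = x * y :=
            congrArg Subtype.val (IsMulCommutative.is_comm.comm (⟨y, hy.1⟩ : Z) ⟨x, hx.1⟩)
          calc x * y * (x * y) = x * (y * x) * y := by group
            _ = (x * x) * (y * y) := by rw [hxy]; group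
            _ = 1 := by rw [hx.2, hy.2, one_mul]⟩
        inv_mem' := fun {x} hx => ⟨inv_mem hx.1, by rw [← mul_inv_rev, hx.2, inv_one]⟩ }
    haveI : N.Normal := ⟨fun x hx g => ⟨hZn.conj_mem x hx.1 g, by
      calc g * x * g⁻¹ * (g * x * g⁻¹) = g * (x * x) * g⁻¹ := by group
        _ = 1 := by rw [hx.2, mul_one, mul_inv_cancel]⟩⟩
    have hN := normal_qgroup_trivial (cr_of_irr hirr) 2 k hcard N (fun x => ⟨1, Subtype.ext (by
      rw [pow_one, pow_two]; exact x.2.2)⟩)
    obtain ⟨z, hz⟩ := exists_prime_orderOf_dvd_card' 2 h2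
    have hzN : (z : H) ∈ N := ⟨z.2, by
      rw [← pow_two, ← SubmonoidClass.coe_pow, ← hz, pow_orderOf_eq_one]; rfl⟩
    rw [hN, Subgroup.mem_bot] at hzN
    rw [show z = 1 from Subtype.ext hzN, orderOf_one] at hz
    norm_num at hz
  have hno3 : ¬ 3 ∣ Nat.card Z := fun h => h3 (h.trans (Subgroup.card_subgroup_dvd_card Z))
  -- the algebra is a field
  have hidem : ∀ e ∈ alg H W Z, e * e = e → e = 0 ∨ e = 1 := by
    intro e he hee
    by_contra hne
    push Not at hne
    obtain ⟨he0, he1⟩ := hne
    let R : AddSubgroup W := (e : W →+ W).range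
    let K : AddSubgroup W := (e : W →+ W).ker
    have hee' : ∀ w, e (e w) = e w := fun w => DFunLike.congr_fun hee w
    have hcz : ∀ z ∈ Z, ∀ w, z • e w = e (z • w) := fun z hz w =>
      DFunLike.congr_fun (commute_alg (le_centralizer_self Z hz) he) w
    have hR : R ≠ ⊥ := fun h => he0 (AddMonoidHom.ext fun w => by
      have : e w ∈ R := ⟨w, rfl⟩
      rw [h, AddSubgroup.mem_bot] at this
      exact this)
    have hK : K ≠ ⊥ := fun h => he1 (AddMonoidHom.ext fun w => by
      have : w - e w ∈ K := by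
        change e (w - e w) = 0
        rw [map_sub, hee', sub_self]
      rw [h, AddSubgroup.mem_bot, sub_eq_zero] at this
      exact this.symm)
    have hprod : Nat.card R * Nat.card K = 2 ^ k := by
      rw [← hcard, ← K.card_mul_index, mul_comm]
      congr 1
      exact (AddSubgroup.index_ker _).symm
    have hU : ∃ U : AddSubgroup W, U ≠ ⊥ ∧ Nat.card U ≤ 4 ∧ ∀ z ∈ Z, ∀ u ∈ U, z • u ∈ U := by
      by_cases hle : Nat.card R ≤ 4
      · exact ⟨R, hR, hle, fun z hz u ⟨w, hw⟩ => ⟨z • w, by
          change e (z • w) = _; rw [← hw]; exact (hcz z hz w).symm⟩⟩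
      · refine ⟨K, hK, ?_, fun z hz u hu => ?_⟩
        · obtain ⟨i, hi, hRi⟩ :=
            (Nat.dvd_prime_pow Nat.prime_two).1 (Dvd.intro _ hprod : Nat.card R ∣ 2 ^ k)
          have h8 : 8 ≤ Nat.card R := by
            have : 3 ≤ i := by
              by_contra hc
              have : 2 ^ i ≤ 2 ^ 2 := Nat.pow_le_pow_right (by norm_num) (by omega)
              rw [← hRi] at this
              omega
            rw [hRi]
            exact le_trans (by norm_num) (Nat.pow_le_pow_right (by norm_num) this)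
          have h32 : 2 ^ k ≤ 32 := le_trans (Nat.pow_le_pow_right (by norm_num) hk) (by norm_num)
          nlinarith
        · change e (z • u) = 0
          rw [← hcz z hz, show e u = 0 from hu, smul_zero]
    obtain ⟨U, hU0, hU4, hUZ⟩ := hU
    have hfixU : ∀ z ∈ Z, ∀ u ∈ U, z • u = u := by
      intro z hz u hu
      rcases eq_or_ne u 0 with rfl | hu0
      · exact smul_zero z
      have hsub : MulAction.orbit Z u ⊆ ((U : Set W) \ {0}) := by
        rintro _ ⟨⟨y, hy⟩, rfl⟩
        exact ⟨hUZ y hy u hu, fun h => hu0 ((smul_eq_zero_iff_eq y).1 h)⟩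
      have h1 : (MulAction.orbit Z u).ncard ≤ 3 := by
        refine (Set.ncard_le_ncard hsub (Set.toFinite _)).trans ?_
        rw [Set.ncard_sdiff (by simpa using U.zero_mem) (Set.toFinite _), Set.ncard_singleton,
          ← Nat.card_coe_set_eq]
        change Nat.card U - 1 ≤ 3
        omega
      have h2 : (MulAction.orbit Z u).ncard ∣ Nat.card Z := by
        rw [← Nat.card_coe_set_eq, Nat.card_congr (MulAction.orbitEquivQuotientStabilizer Z u)]
        exact Subgroup.card_quotient_dvd_card _
      have h0 : 0 < (MulAction.orbit Z u).ncard :=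
        (Set.ncard_pos (Set.toFinite _)).2 ⟨u, MulAction.mem_orbit_self u⟩
      have hone : (MulAction.orbit Z u).ncard = 1 := by
        interval_cases (MulAction.orbit Z u).ncard
        · rfl
        · exact absurd h2 hno2
        · exact absurd h2 hno3
      obtain ⟨a, ha⟩ := Set.ncard_eq_one.1 hone
      have e1 : (⟨z, hz⟩ : Z) • u = a := (ha ▸ MulAction.mem_orbit u (⟨z, hz⟩ : Z) :)
      have e2 : u = a := (ha ▸ MulAction.mem_orbit_self (M := Z) u :)
      exact e1.trans e2.symm
    let F : AddSubgroup W :=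
      { carrier := {w | ∀ z ∈ Z, z • w = w}
        zero_mem' := fun z _ => smul_zero z
        add_mem' := fun {x y} hx hy z hz => by rw [smul_add, hx z hz, hy z hz]
        neg_mem' := fun {x} hx z hz => by rw [smul_neg, hx z hz] }
    rcases hirr F (fun a v hv z hz => by
      have h1 := hv (a⁻¹ * z * a) (by simpa using hZn.conj_mem z hz a⁻¹)
      rw [mul_smul, mul_smul, inv_smul_eq_iff] at h1
      exact h1) with hF | hF
    · exact hU0 ((AddSubgroup.eq_bot_iff_forall _).2 fun u hu =>
        AddSubgroup.mem_bot.1 (hF ▸ (show u ∈ F from fun z hz => hfixU z hz u hu)))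
    · exact hZ1 ((Subgroup.eq_bot_iff_forall _).2 fun z hz => eq_of_smul_eq_smul fun w : W => by
        rw [one_smul]; exact (show w ∈ F from hF ▸ AddSubgroup.mem_top w) z hz)
  have hf := alg_field hirr hidem
  obtain ⟨K, _, _, _, ι, σ, hι, hιv, hσ, hsemi⟩ := exists_field hf
  -- the field is everything
  haveI : Fact (Nat.Prime 2) := ⟨Nat.prime_two⟩
  haveI : CharP K 2 := (CharP.charP_iff_prime_eq_zero Nat.prime_two).2 (by
    obtain ⟨w, hw⟩ := exists_ne (0 : W)
    by_contra h
    refine hw ?_
    have h1 : ((2 : ℕ) : K) • w = 0 := by rw [Nat.cast_smul_eq_nsmul]; exact hexp w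
    exact (smul_eq_zero.1 h1).resolve_left h)
  haveI := Fintype.ofFinite K
  obtain ⟨m, -, hm⟩ := FiniteField.card K 2
  rw [← Nat.card_eq_fintype_card] at hm
  have hZdvd : Nat.card Z ∣ 2 ^ (m : ℕ) - 1 := by
    refine (Subgroup.card_dvd_of_injective ι hι).trans ?_
    rw [Nat.card_units, hm]
  have hZ5 : 5 ≤ Nat.card Z := by
    by_contra hc
    have h1 : 1 < Nat.card Z := (Subgroup.one_lt_card_iff_ne_bot _).2 hZ1
    rcases (show Nat.card Z = 2 ∨ Nat.card Z = 3 ∨ Nat.card Z = 4 by omega) with h | h | h <;>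
      (revert hno2 hno3; rw [h]; norm_num)
  have hm3 : 3 ≤ (m : ℕ) := by
    by_contra hc
    have h1 : (2 : ℕ) ^ (m : ℕ) ≤ 2 ^ 2 := Nat.pow_le_pow_right (by norm_num) (by omega)
    have h0 : 0 < (2 : ℕ) ^ (m : ℕ) - 1 := Nat.sub_pos_of_lt (Nat.one_lt_two_pow m.2.ne')
    have h2 := Nat.le_of_dvd h0 hZdvd
    omega
  have hWK : Nat.card W = Nat.card K ^ Module.finrank K W := Module.natCard_eq_pow_finrank
  have hd1 : Module.finrank K W = 1 := by
    have hpos : 0 < Module.finrank K W := Module.finrank_pos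
    rw [hcard, hm, ← pow_mul] at hWK
    have hkeq := Nat.pow_right_injective le_rfl hWK
    by_contra hne
    have : 2 ≤ Module.finrank K W := by omega
    nlinarith
  rw [hd1, pow_one] at hWK
  have hmk : (m : ℕ) = k := Nat.pow_right_injective le_rfl (hm.symm.trans (hWK.symm.trans hcard))
  obtain ⟨u, hu⟩ := exists_ne (0 : W)
  have hline : ∀ w : W, ∃ c : K, c • u = w := by
    intro w
    exact (finrank_eq_one_iff_of_nonzero' u hu).1 hd1 w
  have hlin : ∀ c ∈ σ.ker, ∀ (x : K) (w : W), c • (x • w) = x • (c • w) := by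
    intro c hc x w
    rw [hsemi, MonoidHom.mem_ker.1 hc]; rfl
  have hsemireg : ∀ c ∈ σ.ker, c • u = u → c = 1 := by
    intro c hc hcu
    refine eq_of_smul_eq_smul fun w : W => ?_
    obtain ⟨x, rfl⟩ := hline w
    rw [hlin c hc, hcu, one_smul]
  choose lam hlam using fun c : σ.ker => hline ((c : H) • u)
  have hlam0 : ∀ c, lam c ≠ 0 := fun c h => hu ((smul_eq_zero_iff_eq (c : H)).1 (by
    rw [← hlam c, h, zero_smul]))
  let L : σ.ker →* Kˣ := MonoidHom.mk' (fun c => Units.mk0 (lam c) (hlam0 c)) fun a b => Units.ext (by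
    apply smul_left_injective K hu
    change lam (a * b) • u = (lam a * lam b) • u
    rw [hlam, Subgroup.coe_mul, mul_smul, ← hlam b, hlin _ a.2, ← hlam a, smul_smul, mul_comm])
  have hL : Function.Injective L := (injective_iff_map_eq_one L).2 fun c hc => by
    have h1 : lam c = 1 := congrArg Units.val hc
    exact Subtype.ext (hsemireg c c.2 (by rw [← hlam c, h1, one_smul]))
  have hCdvd : Nat.card σ.ker ∣ 2 ^ k - 1 := by
    refine (Subgroup.card_dvd_of_injective L hL).trans ?_
    rw [Nat.card_units, hm, hmk]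
  have hC3 : ¬ 3 ∣ Nat.card σ.ker := fun h => h3 (h.trans (Subgroup.card_subgroup_dvd_card _))
  obtain ⟨hcyc, hδ⟩ := ringAut_bound (p := 2) (hm.trans (by rw [hmk])) σ
  have hHcard : Nat.card H = Nat.card σ.ker * Nat.card σ.range := by
    rw [← Subgroup.index_ker, Subgroup.card_mul_index]
  have hk3 : 3 ≤ k := hmk ▸ hm3
  set Hu := MulAction.stabilizer H u with hHu
  by_cases hHu1 : Hu = ⊥
  · refine ⟨{u}, fun h => hu h.symm, fun h hh => ?_⟩
    have : h ∈ Hu := hh u rfl
    rwa [hHu1, Subgroup.mem_bot] at this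
  haveI : Nontrivial Hu := (Subgroup.nontrivial_iff_ne_bot _).2 hHu1
  have hσu : ∀ h : Hu, σ h = 1 → h = 1 := fun h hh => Subtype.ext (hsemireg h hh h.2)
  let f : Hu →* σ.range := σ.rangeRestrict.comp Hu.subtype
  have hf' : Function.Injective f := (injective_iff_map_eq_one f).2 fun h hh =>
    hσu h (congrArg Subtype.val hh)
  obtain ⟨r, e, hr, hre⟩ : ∃ r e : ℕ, r.Prime ∧ Nat.card σ.range ∣ r ^ e := by
    interval_cases k
    · exact ⟨3, 1, by norm_num, by simpa using hδ⟩
    · exact ⟨2, 2, by norm_num, by simpa using hδ⟩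
    · exact ⟨5, 1, by norm_num, by simpa using hδ⟩
  haveI : Finite σ.range := Finite.of_surjective _ σ.rangeRestrict_surjective
  obtain ⟨t, ht1, ht⟩ := exists_prime_part f hf' hr hre
  have htC : (t : H) ∉ Subgroup.centralizer (Z : Set H) := fun h => by
    rw [← hσ] at h
    exact ht1 (hσu t h)
  have hfix := fix_outside (V := W) hf htC
  let I : Set W := (fun h : H => h • u) '' {h | h * h = 1}
  have hvex : ∃ v : W, v ≠ 0 ∧ v ∉ I ∧ (t : H) • v ≠ v := by
    by_contra hc
    push Not at hc
    have hsub : (Set.univ : Set W) ⊆ (fixS H W (t : H) : Set W) ∪ I := by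
      intro v _
      by_cases hv : v ∈ I
      · exact Or.inr hv
      rcases eq_or_ne v 0 with rfl | hv0
      · exact Or.inl (zero_mem _)
      · exact Or.inl (hc v hv0 hv)
    have h1 := (Set.ncard_le_ncard hsub (Set.toFinite _)).trans (Set.ncard_union_le _ _)
    rw [Set.ncard_univ, hcard, ← Nat.card_coe_set_eq (fixS H W (t : H) : Set W)] at h1
    change 2 ^ k ≤ Nat.card (fixS H W (t : H)) + I.ncard at h1
    have h2 : I.ncard ≤ Nat.card {h : H // h * h = 1} :=
      (Set.ncard_image_le (Set.toFinite _)).trans (le_of_eq (Nat.card_coe_set_eq _).symm)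
    rw [hcard] at hfix
    interval_cases k
    · -- dimension three
      have hδ1 : Nat.card σ.range = 1 := by
        rcases (Nat.dvd_prime (by norm_num : Nat.Prime 3)).1 hδ with h | h
        · exact h
        · exact absurd (Dvd.intro_left _ (h ▸ hHcard.symm) : 3 ∣ Nat.card H) h3
      haveI : Subsingleton σ.range := (Nat.card_eq_one_iff_unique.1 hδ1).1
      exact ht1 (hf' (Subsingleton.elim _ _))
    · -- dimension four
      have hC5 : Nat.card σ.ker ≤ 5 := by
        have h15 := hCdvd
        norm_num at h15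
        have : Nat.card σ.ker ∣ 5 :=
          (Nat.Coprime.dvd_of_dvd_mul_left
            ((Nat.Prime.coprime_iff_not_dvd (by norm_num)).2 hC3).symm
            (show Nat.card σ.ker ∣ 3 * 5 from h15))
        exact Nat.le_of_dvd (by norm_num) this
      have h3' : Nat.card {h : H // h * h = 1} ≤ 10 := by
        have hsq : ∀ q : σ.range, q * q = 1 → q ∈ {q : σ.range | q ^ 2 = 1} := fun q hq => by
          rw [Set.mem_setOf_eq, pow_two]; exact hq
        haveI := Fintype.ofFinite σ.range
        have hle : Nat.card {q : σ.range // q ^ 2 = 1} ≤ 2 := by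
          rw [Nat.card_eq_fintype_card, Fintype.card_subtype]
          exact IsCyclic.card_pow_eq_one_le (by norm_num)
        choose g hg using fun q : σ.range => q.2
        refine le_trans (Nat.card_le_card_of_injective
          (fun h : {h : H // h * h = 1} =>
            ((⟨(g (σ.rangeRestrict h.1))⁻¹ * h.1, ?_⟩ : σ.ker),
             (⟨σ.rangeRestrict h.1, ?_⟩ : {q : σ.range // q ^ 2 = 1}))) ?_) ?_
        · rw [MonoidHom.mem_ker, map_mul, map_inv, hg]
          exact inv_mul_cancel (σ h.1)
        · rw [← map_pow, pow_two, h.2, map_one]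
        · intro a b hab
          have e1 := congrArg (fun x => ((x.1 : σ.ker) : H)) hab
          have e2 := congrArg (fun x => ((x.2 : {q : σ.range // q ^ 2 = 1}) : σ.range)) hab
          simp only at e1 e2
          rw [e2] at e1
          exact Subtype.ext (mul_left_cancel e1)
        · rw [Nat.card_prod]
          exact (Nat.mul_le_mul hC5 hle).trans (by norm_num)
      have hf4 : Nat.card (fixS H W (t : H)) ≤ 4 := by nlinarith
      omega
    · -- dimension five
      have hodd : ¬ 2 ∣ Nat.card H := by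
        intro h2'
        rw [hHcard] at h2'
        rcases (Nat.Prime.dvd_mul Nat.prime_two).1 h2' with h | h
        · exact absurd (h.trans hCdvd) (by norm_num)
        · exact absurd (h.trans hδ) (by norm_num)
      haveI : Subsingleton {h : H // h * h = 1} := ⟨fun a b => by
        have : ∀ c : {h : H // h * h = 1}, c.1 = 1 := fun c => by
          have hd : orderOf c.1 ∣ 2 := orderOf_dvd_of_pow_eq_one (by rw [pow_two]; exact c.2)
          rcases (Nat.dvd_prime Nat.prime_two).1 hd with h | h
          · exact orderOf_eq_one_iff.1 h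
          · exact absurd (h ▸ orderOf_dvd_natCard c.1) hodd
        exact Subtype.ext ((this a).trans (this b).symm)⟩
      have h3' : Nat.card {h : H // h * h = 1} ≤ 1 := Finite.card_le_one_iff_subsingleton.2 this
      have hf5 : Nat.card (fixS H W (t : H)) ≤ 5 := by nlinarith
      omega
  obtain ⟨v, hv0, hvI, hvt⟩ := hvex
  have hvu : v ≠ u := fun h => hvI ⟨1, mul_one 1, by rw [h]; exact one_smul H u⟩
  refine ⟨{u, v}, fun h => ?_, fun h hh => ?_⟩
  · rcases h with h | h
    · exact hu h.symm
    · exact hv0 h.symm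
  have hfixu : ∀ g : H, g • u = u → g • v = v → g = 1 := by
    intro g hgu hgv
    by_contra hg
    have h1 := ht ⟨g, hgu⟩ fun he => hg (congrArg Subtype.val he)
    obtain ⟨i, hi⟩ := Subgroup.mem_zpowers_iff.1 h1
    have h2 : g ^ i ∈ MulAction.stabilizer H v := zpow_mem (MulAction.mem_stabilizer_iff.2 hgv) i
    have h3 : (t : H) = g ^ i := by rw [← hi]; rfl
    exact hvt (h3 ▸ MulAction.mem_stabilizer_iff.1 h2)
  have hu' := hh u (Or.inl rfl)
  have hv' := hh v (Or.inr rfl)
  rcases hu' with hu' | hu'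
  · rcases hv' with hv' | hv'
    · exact absurd (MulAction.injective h (hv'.trans hu'.symm)) hvu
    · exact hfixu h hu' hv'
  · rcases hv' with hv' | hv'
    · exfalso
      have h2 : h * h = 1 := hfixu _ (by rw [mul_smul, hu', hv']) (by rw [mul_smul, hv', hu'])
      exact hvI ⟨h, h2, hu'⟩
    · exact absurd (MulAction.injective h (hu'.trans hv'.symm)) hvu.symm

/-- Irreducible solvable groups of order prime to three have regular orbits on sets. -/
theorem regular_subset [Group.IsSolvable H] [Nontrivial W]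
    (hexp : ∀ w : W, 2 • w = 0) (hirr : Irr H W) (h3 : ¬ 3 ∣ Nat.card H) :
    ∃ D : Set W, (0 : W) ∉ D ∧ ∀ h : H, (∀ d ∈ D, h • d ∈ D) → h = 1 := by
  obtain ⟨k, -, hcard⟩ := card_eq_prime_pow Nat.prime_two hexp
  rcases Nat.lt_or_ge k 6 with hk | hk
  · exact regular_subset_small (by omega) hexp hcard hirr h3
  refine regular_subset_big hk hexp hcard ?_
  obtain ⟨x, y, z, hxyz⟩ := below3_all (Nat.card H + 1) H W (Nat.lt_succ_self _) inferInstance
    (cr_of_irr hirr)
  rw [show 3 * k = k + k + k by omega, pow_add, pow_add, ← hcard, ← Nat.card_prod, ← Nat.card_prod]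
  refine Nat.card_le_card_of_injective (fun h : H => ((h • x, h • y), h • z)) ?_
  intro a b hab
  simp only [Prod.mk.injEq] at hab
  obtain ⟨⟨h1, h2⟩, h3⟩ := hab
  refine eq_of_smul_eq_smul fun w : W => ?_
  have h4 := hxyz (b⁻¹ * a) (by rw [mul_smul, h1, inv_smul_smul]) (by rw [mul_smul, h2, inv_smul_smul])
    (by rw [mul_smul, h3, inv_smul_smul]) w
  rwa [mul_smul, inv_smul_eq_iff] at h4

end Cfsg.Lib.CoprimeBase
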