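import Cfsg.Agent.SolvBase.Imprimitive
import Cfsg.Agent.OddBase.Main
import Cfsg.Agent.CoprimeBase.Basic
import Cfsg.Agent.CoprimeBase.RegularSubset

/-!
The imprimitive case: colour a primitive system of imprimitivity with few regular orbits.
-/

set_option autoImplicit false
set_option linter.unusedSectionVars false

namespace Cfsg.Lib.CoprimeBase

open Cfsg.Lib.OddBase Cfsg.Lib.SolvBase

universe u

/-- Three colours distinguish a solvable primitive permutation group of order prime to three. -/
theorem dist_three {G : Type u} {α : Type*} [Group G] [Finite G]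
    [Group.IsSolvable G] [MulAction G α] [FaithfulSMul G α] [Finite α] [Nontrivial α]
    (hprim : MulAction.IsPreprimitive G α) (h3 : ¬ 3 ∣ Nat.card G) :
    ∃ c : α → Fin 3, ∀ g : G, (∀ x, c (g • x) = c x) → g = 1 := by
  classical
  haveI := hprim
  obtain ⟨a, b, hab⟩ := exists_pair_ne α
  obtain ⟨g₀, hg₀⟩ := MulAction.exists_smul_eq G a b
  haveI : Nontrivial G := ⟨g₀, 1, fun h => hab (by rw [← hg₀, h, one_smul])⟩
  obtain ⟨M, -, hMn, hMne, hmin⟩ :=
    Cfsg.Lib.Coprime.exists_minimal_normal (G := G) (K := ⊤) inferInstance top_ne_bot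
  haveI := hMn
  haveI : Nonempty α := ⟨a⟩
  obtain ⟨htr, hst, -⟩ := Cfsg.Agent.S0547.result (G := G) (Ω := α) hprim M hMne hmin
  haveI := htr
  obtain ⟨hcomp, hcent, hirr⟩ := Cfsg.Agent.S0548.result hprim M hMne hmin a
  obtain ⟨hc, q, hq, hMq, hMexp⟩ := Cfsg.Lib.Coprime.minimal_normal_solvable (N := M) inferInstance hMne hmin
  haveI := hc
  let H := MulAction.stabilizer G a
  letI : CommGroup M := { (inferInstance : Group M) with mul_comm := mul_comm' }
  let φ : H →* MulAut M := (MulAut.conjNormal : G →* MulAut M).comp H.subtype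
  letI : DistribMulAction H (Additive M) :=
    { smul := fun h x => Additive.ofMul (φ h (Additive.toMul x))
      one_smul := fun x => by
        change Additive.ofMul (φ 1 (Additive.toMul x)) = x
        rw [map_one]; rfl
      mul_smul := fun g h x => by
        change Additive.ofMul (φ (g * h) (Additive.toMul x)) =
          Additive.ofMul (φ g (φ h (Additive.toMul x)))
        rw [map_mul]; rfl
      smul_zero := fun h => congrArg Additive.ofMul (map_one (φ h))
      smul_add := fun h x y => congrArg Additive.ofMul (map_mul (φ h) _ _) }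
  have hval : ∀ (h : H) (m : M), ((φ h m : M) : G) = (h : G) * m * (h : G)⁻¹ := fun h m =>
    MulAut.conjNormal_apply _ _
  have hirrH : Irr H (Additive M) := fun U hU => by
    let K : Subgroup G := (AddSubgroup.toSubgroup' U).map M.subtype
    have hK : ∀ h : G, h ∈ H → ∀ x ∈ K, h * x * h⁻¹ ∈ K := by
      rintro h hh _ ⟨m, hm, rfl⟩
      exact ⟨φ ⟨h, hh⟩ m, hU ⟨h, hh⟩ (Additive.ofMul m) hm, hval _ _⟩
    rcases hirr K (Subgroup.map_subtype_le _) (fun h hh => Subgroup.mem_normalizer_iff.2 fun x =>
      ⟨hK h hh x, fun hx => by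
        have := hK h⁻¹ (inv_mem hh) _ hx
        simpa [mul_assoc] using this⟩) with hK0 | hK1
    · left
      rw [eq_bot_iff]
      intro m hm
      have : ((Additive.toMul m : M) : G) ∈ K := ⟨Additive.toMul m, hm, rfl⟩
      rw [hK0, Subgroup.mem_bot] at this
      exact AddSubgroup.mem_bot.2 (Additive.toMul.injective (Subtype.ext this))
    · right
      rw [eq_top_iff]
      intro m _
      have : ((Additive.toMul m : M) : G) ∈ K := hK1.ge (Additive.toMul m).2
      obtain ⟨m', hm', he⟩ := this
      have he' : m' = Additive.toMul m := Subtype.ext he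
      rw [he'] at hm'
      exact hm'
  haveI : Fact q.Prime := ⟨hq⟩
  haveI : Nontrivial M := (Subgroup.nontrivial_iff_ne_bot _).2 hMne
  have hexpA : ∀ x : Additive M, q • x = 0 := fun x => Additive.toMul.injective (Subtype.ext (by
    rw [toMul_nsmul, toMul_zero, SubmonoidClass.coe_pow]
    exact hMexp _ (Additive.toMul x).2))
  have hH3 : ¬ 3 ∣ Nat.card H := fun h => h3 (h.trans H.card_subgroup_dvd_card)
  have hq3 : q ≠ 3 := by
    rintro rfl
    obtain ⟨n, hn⟩ := IsPGroup.iff_card.1 hMq
    rcases Nat.eq_zero_or_pos n with rfl | hn0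
    · rw [pow_zero] at hn
      exact absurd hn (Finite.one_lt_card (α := M)).ne'
    · exact h3 (((dvd_pow_self 3 hn0.ne').trans (dvd_of_eq hn.symm)).trans M.card_subgroup_dvd_card)
  haveI : FaithfulSMul H (Additive M) := ⟨fun {g h} hgh => by
    have hg' : ((h⁻¹ * g : H) : G) ∈ MulAction.stabilizer G a ⊓ Subgroup.centralizer (M : Set G) := by
      refine ⟨(h⁻¹ * g).2, Subgroup.mem_centralizer_iff.2 fun x hx => ?_⟩
      have h4 : (h⁻¹ * g) • Additive.ofMul (⟨x, hx⟩ : M) = Additive.ofMul ⟨x, hx⟩ := by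
        rw [mul_smul, hgh, inv_smul_smul]
      have := congrArg (fun z : Additive M => ((Additive.toMul z : M) : G)) h4
      change ((φ (h⁻¹ * g) ⟨x, hx⟩ : M) : G) = x at this
      rw [hval, mul_inv_eq_iff_eq_mul] at this
      exact this.symm
    rw [hcent, Subgroup.mem_bot] at hg'
    exact (inv_mul_eq_one.1 (Subtype.ext hg' : h⁻¹ * g = 1)).symm⟩
  obtain ⟨D, hD0, hD⟩ : ∃ D : Set (Additive M), (0 : Additive M) ∉ D ∧
      ∀ h : H, (∀ d ∈ D, h • d ∈ D) → h = 1 := by
    by_cases hq2 : q = 2
    · subst hq2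
      exact regular_subset hexpA hirrH hH3
    have hq5 : 5 ≤ q := by
      have := hq.two_le
      by_contra hc
      interval_cases q <;> first | omega | exact absurd hq (by decide)
    letI : Module (ZMod q) (Additive M) := AddCommGroup.zmodModule hexpA
    obtain ⟨k, e, -⟩ := exists_coord_module (q := q) (W := Additive M)
    refine ⟨e ⁻¹' chainSet q k true, fun h => zero_notMem_chain (q := q) (k := k) (by omega)
      (by simpa using h), fun h hh => ?_⟩
    let π : (Fin k → ZMod q) →+ (Fin k → ZMod q) :=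
      (e.toAddMonoidHom.comp (DistribSMul.toAddMonoidHom (Additive M) h)).comp e.symm.toAddMonoidHom
    have hπv : ∀ v, π v = e (h • e.symm v) := fun _ => rfl
    have hπ : Function.Injective π := fun v w hvw =>
      e.symm.injective (MulAction.injective h (e.injective hvw))
    have hid := chain_rigid_twice hq5 π hπ fun v hv => by
      rw [hπv]
      exact hh _ (by rwa [Set.mem_preimage, e.apply_symm_apply])
    refine eq_of_smul_eq_smul fun x : Additive M => ?_
    have h1 := hid (e x)
    rw [hπv, e.symm_apply_apply] at h1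
    rw [one_smul]
    exact e.injective h1
  let pt : Additive M → α := fun m => ((Additive.toMul m : M) : G) • a
  have hinj : ∀ x y : M, (x : G) • a = (y : G) • a → x = y := by
    intro x y he
    have : y⁻¹ * x ∈ MulAction.stabilizer M a := by
      rw [MulAction.mem_stabilizer_iff, mul_smul, inv_smul_eq_iff]
      exact he
    rw [hst, Subgroup.mem_bot] at this
    exact (inv_mul_eq_one.1 this).symm
  have hpta : ∀ m ∈ D, pt m ≠ a := fun m hm he => by
    have : Additive.toMul m = 1 := hinj _ 1 (he.trans (one_smul G a).symm)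
    exact hD0 ((Additive.toMul.injective this : m = 0) ▸ hm)
  refine ⟨fun x => if x = a then 0 else if x ∈ pt '' D then 1 else 2, fun g hg => ?_⟩
  have h0 : g • a = a := by
    have h := hg a
    dsimp only at h
    simp only [if_true] at h
    by_contra hne
    rw [if_neg hne] at h
    split_ifs at h <;> simp at h
  let h : H := ⟨g, h0⟩
  have hpt : ∀ m : Additive M, pt (h • m) = g • pt m := by
    intro m
    change ((φ h (Additive.toMul m) : M) : G) • a = g • (((Additive.toMul m : M) : G) • a)
    rw [hval, mul_smul, mul_smul]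
    change g • (((Additive.toMul m : M) : G) • (g⁻¹ • a)) = _
    rw [inv_smul_eq_iff.2 h0.symm]
  have hh : h = 1 := hD h fun d hd => by
    have h1 := hg (pt d)
    have hne : g • pt d ≠ a := fun he => hpta d hd (MulAction.injective g (he.trans h0.symm))
    dsimp only at h1
    have hin' : pt d ∈ pt '' D := ⟨d, hd, rfl⟩
    rw [if_neg hne, if_neg (hpta d hd), if_pos hin'] at h1
    by_cases hin : g • pt d ∈ pt '' D
    · obtain ⟨d', hd', he⟩ := hin
      have : h • d = d' := Additive.toMul.injective (hinj _ _ ((hpt d).trans he.symm))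
      rwa [this]
    · rw [if_neg hin] at h1
      simp at h1
  exact congrArg Subtype.val hh

variable {A V : Type u} [Group A] [Finite A] [AddCommGroup V] [Finite V] [DistribMulAction A V]
  [FaithfulSMul A V]

/-- A primitive system of imprimitivity gives a regular pair. -/
theorem pair_blocks [Group.IsSolvable A] {p : ℕ} [Fact p.Prime] (hp3 : 3 ≤ p)
    (hexp : ∀ x : V, p • x = 0) (hA : ¬ p ∣ Nat.card A) (ih : Small.{u} p (Nat.card V))
    (hirr : Irr A V) {Ω : Type u} [MulAction A Ω] [Fintype Ω] [DecidableEq Ω] [Nontrivial Ω]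
    (hprim : MulAction.IsPreprimitive A Ω) (E : Ω → AddMonoid.End V) (hid : ∀ e, E e * E e = E e)
    (horth : ∀ e f, e ≠ f → E e * E f = 0) (hsum : ∑ e, E e = 1) (hne : ∀ e, E e ≠ 0)
    (heq : ∀ (g : A) (e : Ω) (x : V), g • E e x = E (g • e) (g • x)) : Pair A V := by
  classical
  haveI := hprim
  obtain ⟨b₀, b₁, hb01⟩ := exists_pair_ne Ω
  haveI : Nontrivial V := by
    by_contra h
    rw [not_nontrivial_iff_subsingleton] at h
    exact hne b₀ (AddMonoidHom.ext fun x => Subsingleton.elim _ _)
  let W : AddSubgroup V :=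
    { carrier := {x | E b₀ x = x}
      zero_mem' := map_zero (E b₀)
      add_mem' := fun {x y} hx hy => by
        change E b₀ (x + y) = x + y
        rw [map_add, hx, hy]
      neg_mem' := fun {x} hx => by
        change E b₀ (-x) = -x
        rw [map_neg, hx] }
  let H := MulAction.stabilizer A b₀
  have hmove : ∀ (g : A) (e : Ω) (x : V), E e x = x → E (g • e) (g • x) = g • x := by
    intro g e x hx
    rw [← heq, hx]
  letI : DistribMulAction H W :=
    { smul := fun h x => ⟨(h : A) • (x : V), by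
        have := hmove h b₀ x x.2
        rw [MulAction.mem_stabilizer_iff.1 h.2] at this
        exact this⟩
      one_smul := fun x => Subtype.ext (one_smul A (x : V))
      mul_smul := fun g h x => Subtype.ext (mul_smul (g : A) (h : A) (x : V))
      smul_zero := fun g => Subtype.ext (smul_zero (g : A))
      smul_add := fun g x y => Subtype.ext (smul_add (g : A) (x : V) (y : V)) }
  haveI : Nontrivial W := by
    rw [AddSubgroup.nontrivial_iff_ne_bot]
    intro h
    apply hne b₀
    ext x
    have hx : E b₀ x ∈ W := DFunLike.congr_fun (hid b₀) x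
    rw [h, AddSubgroup.mem_bot] at hx
    exact hx
  have hWlt : Nat.card W < Nat.card V := by
    refine lt_of_le_of_ne (Nat.card_le_card_of_injective _ Subtype.val_injective) fun h => hne b₁ ?_
    ext x
    have hx : E b₀ (E b₁ x) = E b₁ x :=
      (show E b₁ x ∈ W from (AddSubgroup.eq_top_of_card_eq W h).symm ▸ AddSubgroup.mem_top _)
    rw [← hx]
    exact DFunLike.congr_fun (horth b₀ b₁ hb01) x
  let π : H →* (AddMonoid.End W)ˣ := (DistribMulAction.toAddMonoidEnd H W).toHomUnits
  let X := π.range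
  haveI : Finite X := Finite.of_surjective _ π.rangeRestrict_surjective
  haveI : Group.IsSolvable X := Group.isSolvable_of_surjective π.rangeRestrict_surjective
  haveI : FaithfulSMul X W := ⟨fun {s t} h => Subtype.ext (Units.ext (AddMonoidHom.ext h))⟩
  have hWexp : ∀ x : W, p • x = 0 := fun x => Subtype.ext (hexp x)
  obtain ⟨v', w', hvw'⟩ : Pair X W := ih X W hWlt inferInstance hWexp
    fun hd => hA (hd.trans ((Subgroup.card_range_dvd π).trans H.card_subgroup_dvd_card))
  obtain ⟨v, w, hv0, hvw⟩ : ∃ v w : W, v ≠ 0 ∧ ∀ g : X, g • v = v → g • w = w → g = 1 := by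
    have hreg : ∀ g : X, g • v' = v' → g • w' = w' → g = 1 := fun g h1 h2 =>
      eq_of_smul_eq_smul fun x : W => by rw [one_smul]; exact hvw' g h1 h2 x
    by_cases h1 : v' = 0
    · by_cases h2 : w' = 0
      · obtain ⟨x, hx⟩ := exists_ne (0 : W)
        exact ⟨x, 0, hx, fun g _ _ => hreg g (by rw [h1, smul_zero]) (by rw [h2, smul_zero])⟩
      · exact ⟨w', v', h2, fun g a b => hreg g b a⟩
    · exact ⟨v', w', h1, hreg⟩
  letI : Module (ZMod p) W := AddCommGroup.zmodModule hWexp
  have hXp : ¬ p ∣ Nat.card X := fun hd =>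
    hA (hd.trans ((Subgroup.card_range_dvd π).trans H.card_subgroup_dvd_card))
  have hlin : ∀ (g : X) (k : ZMod p) (x : W), g • (k • x) = k • (g • x) := fun g k x =>
    ((DistribSMul.toAddMonoidHom W g).toZModLinearMap p).map_smul k x
  let f : ZMod p → W × W := fun c => (v, w + c • v)
  have hf : ∀ (c : ZMod p) (g : X), g • f c = f c → g = 1 := by
    intro c g hg
    have h1 : g • v = v := congrArg Prod.fst hg
    have h2 : g • (w + c • v) = w + c • v := congrArg Prod.snd hg
    rw [smul_add, hlin, h1, add_left_inj] at h2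
    exact hvw g h1 h2
  have hfne : ∀ (c c' : ZMod p) (g : X), g • f c = f c' → c = c' := by
    intro c c' g hg
    have h1 : g • v = v := congrArg Prod.fst hg
    have h2 : g • (w + c • v) = w + c' • v := congrArg Prod.snd hg
    have h3 : g • ((c' - c) • v) = (c' - c) • v := by rw [hlin, h1]
    have h4 : g • w = w + (c' - c) • v := by
      rw [smul_add, hlin, h1] at h2
      rw [sub_smul, ← add_sub_assoc, eq_sub_iff_add_eq]
      exact h2
    have h5 := no_unipotent hWexp hXp h3 h4
    by_contra hcc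
    exact hv0 (by rw [← inv_smul_smul₀ (sub_ne_zero.2 (Ne.symm hcc)) v, h5, smul_zero])
  let ρ : A →* Equiv.Perm Ω := MulAction.toPermHom A Ω
  haveI : Group.IsSolvable ρ.range := Group.isSolvable_of_surjective ρ.rangeRestrict_surjective
  haveI : MulAction.IsPreprimitive ρ.range Ω := by
    let F : Ω →ₑ[⇑ρ.rangeRestrict] Ω := { toFun := id, map_smul' := fun _ _ => rfl }
    exact MulAction.IsPreprimitive.of_surjective (f := F) Function.surjective_id
  obtain ⟨c, hc⟩ : ∃ c : Ω → ZMod p, ∀ g : ρ.range, (∀ x, c (g • x) = c x) → g = 1 := by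
    haveI : NeZero p := ⟨(Fact.out : p.Prime).pos.ne'⟩
    have hnat : ∀ {n : ℕ}, n ≤ p → Function.Injective (fun i : Fin n => ((i : ℕ) : ZMod p)) := by
      intro n hn i j hij
      refine Fin.ext ?_
      have h1 := congrArg ZMod.val hij
      rwa [ZMod.val_natCast_of_lt (lt_of_lt_of_le i.2 hn),
        ZMod.val_natCast_of_lt (lt_of_lt_of_le j.2 hn)] at h1
    by_cases hp5 : 5 ≤ p
    · obtain ⟨c₀, hc₀⟩ := dist_primitive (below3_all (Nat.card A)) (G := ρ.range) (α := Ω) inferInstance
        (Nat.le_of_dvd Nat.card_pos (Subgroup.card_range_dvd ρ))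
      exact ⟨fun x => ((c₀ x : ℕ) : ZMod p), fun g hg => hc₀ g fun x => hnat hp5 (hg x)⟩
    · have hp' : p = 3 := by
        have h1 := (Fact.out : p.Prime)
        interval_cases p <;> first | rfl | exact absurd h1 (by decide)
      obtain ⟨c₀, hc₀⟩ := dist_three (G := ρ.range) (α := Ω) inferInstance
        (fun h => hA (hp' ▸ h.trans (Subgroup.card_range_dvd ρ)))
      exact ⟨fun x => ((c₀ x : ℕ) : ZMod p), fun g hg => hc₀ g fun x => hnat (by omega) (hg x)⟩
  have hg : ∀ e : Ω, ∃ g : A, g • b₀ = e := MulAction.exists_smul_eq A b₀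
  choose gg hgg using hg
  have hproj : ∀ (z : Ω → W) (e : Ω), E e (∑ f : Ω, gg f • (z f : V)) = gg e • (z e : V) := by
    intro z e
    rw [map_sum, Finset.sum_eq_single e]
    · have := hmove (gg e) b₀ (z e : V) (z e).2
      rw [hgg] at this
      exact this
    · intro f _ hf'
      have h2 := hmove (gg f) b₀ (z f : V) (z f).2
      rw [hgg] at h2
      rw [← h2]
      exact DFunLike.congr_fun (horth e f fun h => hf' h.symm) _
    · simp
  refine ⟨∑ e, gg e • (((f (c e)).1 : W) : V), ∑ e, gg e • (((f (c e)).2 : W) : V),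
    fun a h1 h2 => ?_⟩
  have hh : ∀ e : Ω, (gg (a • e))⁻¹ * a * gg e ∈ H := fun e => by
    rw [MulAction.mem_stabilizer_iff, mul_smul, mul_smul, hgg, inv_smul_eq_iff, hgg]
  have hcomp : ∀ (z : Ω → W), a • (∑ e, gg e • (z e : V)) = ∑ e, gg e • (z e : V) → ∀ e,
      (⟨_, hh e⟩ : H) • z e = z (a • e) := by
    intro z hz e
    apply Subtype.ext
    change ((gg (a • e))⁻¹ * a * gg e) • (z e : V) = _
    rw [mul_smul, mul_smul, inv_smul_eq_iff, ← hproj z (a • e), ← hproj z e, heq, hz]
  have hloc : ∀ e : Ω, (⟨π ⟨_, hh e⟩, ⟨_, hh e⟩, rfl⟩ : X) • f (c e) = f (c (a • e)) := fun e =>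
    Prod.ext (hcomp (fun e => (f (c e)).1) h1 e) (hcomp (fun e => (f (c e)).2) h2 e)
  have hfix : ∀ e : Ω, a • e = e := fun e => by
    have := hc ⟨ρ a, a, rfl⟩ fun e => (hfne _ _ _ (hloc e)).symm
    exact Equiv.Perm.congr_fun (congrArg Subtype.val this) e
  intro z
  have hz : z = ∑ e : Ω, E e z := by
    conv_lhs => rw [show z = (∑ e : Ω, E e) z by rw [hsum]; rfl]
    exact AddMonoidHom.finsetSum_apply _ _ _
  rw [hz, Finset.smul_sum]
  refine Finset.sum_congr rfl fun e _ => ?_
  have h5 : (gg e)⁻¹ • E e z ∈ W := by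
    have h6 := hmove (gg e)⁻¹ e (E e z) (DFunLike.congr_fun (hid e) z)
    rw [show (gg e)⁻¹ • e = b₀ by rw [inv_smul_eq_iff, hgg]] at h6
    exact h6
  have h7 := (hloc e).trans (congrArg (fun q => f (c q)) (hfix e))
  have h8 := hf _ _ h7
  have h10 := congrArg Units.val (congrArg Subtype.val h8)
  have h11 := DFunLike.congr_fun h10 (⟨(gg e)⁻¹ • E e z, h5⟩ : W)
  have h9 : ((gg (a • e))⁻¹ * a * gg e) • ((gg e)⁻¹ • E e z) = (gg e)⁻¹ • E e z :=
    congrArg Subtype.val h11
  rw [mul_smul, mul_smul, hfix e, smul_inv_smul] at h9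
  exact smul_left_cancel _ h9

/-- The imprimitive case: an idempotent other than `0` and `1` in the algebra. -/
theorem pair_of_idem [Group.IsSolvable A] {p : ℕ} [Fact p.Prime] (hp3 : 3 ≤ p)
    (hexp : ∀ x : V, p • x = 0) (hA : ¬ p ∣ Nat.card A) (ih : Small.{u} p (Nat.card V))
    (hirr : Irr A V) (Z : Subgroup A) [Z.Normal] [IsMulCommutative Z]
    (e₀ : AddMonoid.End V) (he₀ : e₀ ∈ alg A V Z) (hid : e₀ * e₀ = e₀) (h0 : e₀ ≠ 0) (h1 : e₀ ≠ 1) :
    Pair A V := by
  classical
  haveI : Finite (AddMonoid.End V) :=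
    Finite.of_injective (fun f : AddMonoid.End V => (f : V → V)) DFunLike.coe_injective
  haveI := Fintype.ofFinite (AddMonoid.End V)
  haveI := Fintype.ofFinite V
  let Idem : AddMonoid.End V → Prop := fun e => e ∈ alg A V Z ∧ e * e = e
  let Atom : AddMonoid.End V → Prop := fun e =>
    Idem e ∧ e ≠ 0 ∧ ∀ f, Idem f → f * e = 0 ∨ f * e = e
  have hmul : ∀ e f, Idem e → Idem f → Idem (e * f) := fun e f he hf => ⟨mul_mem he.1 hf.1, by
    have hc := alg_comm hf.1 he.1
    calc e * f * (e * f) = e * (f * e) * f := by simp only [mul_assoc]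
      _ = e * (e * f) * f := by rw [hc]
      _ = (e * e) * (f * f) := by simp only [mul_assoc]
      _ = e * f := by rw [he.2, hf.2]⟩
  have hbelow : ∀ n e, Nat.card (Set.range (e : AddMonoid.End V)) ≤ n → Idem e → e ≠ 0 →
      ∃ a, Atom a ∧ a * e = a := by
    intro n
    induction n using Nat.strong_induction_on with
    | _ n ih =>
      intro e hn he hne
      by_cases hat : ∀ f, Idem f → f * e = 0 ∨ f * e = e
      · exact ⟨e, ⟨he, hne, hat⟩, he.2⟩
      push Not at hat
      obtain ⟨f, hf, hfe0, hfe⟩ := hat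
      have hlt : Nat.card (Set.range (f * e : AddMonoid.End V)) < Nat.card (Set.range (e : AddMonoid.End V)) := by
        rw [Nat.card_coe_set_eq, Nat.card_coe_set_eq]
        refine Set.ncard_lt_ncard ⟨?_, ?_⟩
        · rintro _ ⟨x, rfl⟩
          exact ⟨f x, by
            rw [show f * e = e * f from alg_comm hf.1 he.1]; rfl⟩
        · intro hsub
          apply hfe
          ext x
          obtain ⟨y, hy⟩ := hsub ⟨x, rfl⟩
          have h3 := (hmul f e hf he).2
          have : (f * e) (e x) = e x := by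
            rw [← hy]
            exact DFunLike.congr_fun h3 y
          calc (f * e) x = (f * (e * e)) x := by rw [he.2]
            _ = (f * e) (e x) := rfl
            _ = e x := this
      obtain ⟨a, ha, hae⟩ := ih _ (lt_of_lt_of_le hlt hn) (f * e) le_rfl (hmul f e hf he) hfe0
      refine ⟨a, ha, ?_⟩
      calc a * e = a * (f * e) * e := by rw [hae]
        _ = a * (f * (e * e)) := by simp only [mul_assoc]
        _ = a := by rw [he.2, hae]
  obtain ⟨a₀, ha₀, -⟩ := hbelow _ e₀ le_rfl ⟨he₀, hid⟩ h0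
  let cj : A → AddMonoid.End V → AddMonoid.End V := fun g e => act A V g * e * act A V g⁻¹
  have hcjm : ∀ g h e, cj (g * h) e = cj g (cj h e) := fun g h e => by
    simp only [cj, mul_inv_rev, map_mul, mul_assoc]
  have hcj1 : ∀ e, cj 1 e = e := fun e => by simp only [cj, inv_one, map_one, mul_one, one_mul]
  have hcjmul : ∀ g e f, cj g (e * f) = cj g e * cj g f := by
    intro g e f
    have hinv : act A V g⁻¹ * act A V g = 1 := by rw [← map_mul, inv_mul_cancel, map_one]
    simp only [cj, mul_assoc]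
    rw [← mul_assoc (act A V g⁻¹) (act A V g), hinv, one_mul]
  have hcjI : ∀ g e, Idem e → Idem (cj g e) := fun g e he =>
    ⟨alg_conj g he.1, by rw [← hcjmul, he.2]⟩
  have hcjA : ∀ g e, Atom e → Atom (cj g e) := by
    intro g e he
    refine ⟨hcjI g e he.1, fun h => he.2.1 ?_, fun f hf => ?_⟩
    · have := congrArg (cj g⁻¹) h
      rw [← hcjm, inv_mul_cancel, hcj1] at this
      rw [this]; simp only [cj, mul_zero, zero_mul]
    · have hfg : cj g (cj g⁻¹ f) = f := by rw [← hcjm, mul_inv_cancel, hcj1]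
      rcases he.2.2 _ (hcjI g⁻¹ f hf) with h | h
      · left; rw [← hfg, ← hcjmul, h]; simp only [cj, mul_zero, zero_mul]
      · right; rw [← hfg, ← hcjmul, h]
  -- the blocks
  let Bl : Type u := {e : AddMonoid.End V // Atom e}
  letI : MulAction A Bl :=
    { smul := fun g e => ⟨cj g e.1, hcjA g e.1 e.2⟩
      one_smul := fun e => Subtype.ext (hcj1 e.1)
      mul_smul := fun g h e => Subtype.ext (hcjm g h e.1) }
  haveI := Fintype.ofFinite Bl
  have horth : ∀ e f : Bl, e ≠ f → e.1 * f.1 = 0 := by
    intro e f hne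
    rcases f.2.2.2 e.1 e.2.1 with h | h
    · exact h
    rcases e.2.2.2 f.1 f.2.1 with h' | h'
    · rw [alg_comm e.2.1.1 f.2.1.1, h']
    · exact absurd (Subtype.ext (by rw [← h', alg_comm f.2.1.1 e.2.1.1, h])) hne
  let S : Finset Bl → AddMonoid.End V := fun s => ∑ e ∈ s, e.1
  have hSmul : ∀ (s : Finset Bl) (e : Bl), S s * e.1 = if e ∈ s then e.1 else 0 := by
    intro s e
    rw [Finset.sum_mul]
    rw [Finset.sum_congr rfl (g := fun f => if f = e then e.1 else 0) ?_]
    · rw [Finset.sum_ite_eq']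
    · intro f _
      by_cases h : f = e
      · rw [if_pos h, h]; exact e.2.1.2
      · rw [if_neg h]; exact horth f e h
  have hSid : ∀ s, Idem (S s) := fun s => ⟨sum_mem fun e _ => e.2.1.1, by
    change S s * (∑ e ∈ s, e.1) = _
    rw [Finset.mul_sum]
    exact Finset.sum_congr rfl fun e he => by rw [hSmul, if_pos he]⟩
  have hsum1 : S Finset.univ = 1 := by
    by_contra hne
    have hI : Idem (1 - S Finset.univ) := ⟨sub_mem (one_mem _) (hSid _).1, by
      rw [mul_sub, sub_mul, one_mul, sub_mul, one_mul, (hSid _).2, mul_one, sub_self, sub_zero]⟩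
    obtain ⟨a, ha, hae⟩ := hbelow _ _ le_rfl hI (sub_ne_zero.2 fun h => hne h.symm)
    apply ha.2.1
    rw [← hae, alg_comm ha.1.1 hI.1, sub_mul, one_mul, hSmul _ ⟨a, ha⟩, if_pos (Finset.mem_univ _),
      sub_self]
  haveI : MulAction.IsPretransitive A Bl := by
    let O : Finset Bl := Finset.univ.filter fun e => e ∈ MulAction.orbit A (⟨a₀, ha₀⟩ : Bl)
    have hO : ∀ g : A, cj g (S O) = S O := by
      intro g
      simp only [cj, S, Finset.mul_sum, Finset.sum_mul]
      refine Finset.sum_equiv (MulAction.toPerm g) (fun e => ?_) (fun e _ => rfl)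
      simp only [O, Finset.mem_filter, Finset.mem_univ, true_and, MulAction.toPerm_apply]
      rw [← MulAction.orbit_eq_iff, ← MulAction.orbit_eq_iff, MulAction.orbit_smul]
    let U : AddSubgroup V := (S O).range
    have hU : U = ⊤ := by
      refine (hirr U ?_).resolve_left fun h => ?_
      · rintro g _ ⟨x, rfl⟩
        refine ⟨g • x, ?_⟩
        conv_lhs => rw [← hO g]
        change act A V g (S O (act A V g⁻¹ (g • x))) = g • S O x
        rw [act_apply, act_apply, inv_smul_smul]
      · apply ha₀.2.1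
        ext x
        have h2 : S O * a₀ = a₀ := by
          rw [hSmul O ⟨a₀, ha₀⟩, if_pos (by simp [O])]
        have hx : a₀ x ∈ U := ⟨a₀ x, DFunLike.congr_fun h2 x⟩
        rw [h, AddSubgroup.mem_bot] at hx
        exact hx
    have hSO : S O = 1 := by
      ext x
      obtain ⟨y, rfl⟩ := (show x ∈ U from hU ▸ AddSubgroup.mem_top x)
      exact DFunLike.congr_fun (hSid O).2 y
    rw [MulAction.isPretransitive_iff_base (⟨a₀, ha₀⟩ : Bl)]
    intro e
    have h2 := hSmul O e
    rw [hSO, one_mul] at h2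
    by_cases he : e ∈ O
    · exact (Finset.mem_filter.1 he).2
    · rw [if_neg he] at h2; exact absurd h2 e.2.2.1
  let b₀ : Bl := ⟨a₀, ha₀⟩
  have hbl2 : ∃ e : Bl, e ≠ b₀ := by
    by_contra h
    push Not at h
    have hall : ∀ e : Bl, S Finset.univ = e.1 := fun e => by
      refine Finset.sum_eq_single e (fun f _ hf => absurd ((h f).trans (h e).symm) hf) (by simp)
    rcases b₀.2.2.2 e₀ ⟨he₀, hid⟩ with h2 | h2 <;> rw [← hall b₀, hsum1, mul_one] at h2
    · exact h0 h2
    · exact h1 h2
  -- coarsen to a primitive system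
  have hstab : MulAction.stabilizer A b₀ ≠ ⊤ := by
    intro h
    obtain ⟨e, he⟩ := hbl2
    obtain ⟨g, hg⟩ := MulAction.exists_smul_eq A b₀ e
    exact he (hg ▸ MulAction.mem_stabilizer_iff.1 (h ▸ Subgroup.mem_top g))
  obtain ⟨M, hM, hle⟩ := (eq_top_or_exists_le_coatom (MulAction.stabilizer A b₀)).resolve_left hstab
  have hg : ∀ e : Bl, ∃ g : A, g • b₀ = e := MulAction.exists_smul_eq A b₀
  choose gg hgg using hg
  let π : Bl → A ⧸ M := fun e => QuotientGroup.mk (gg e)
  have hπ : ∀ (g : A) (e : Bl), π (g • e) = g • π e := by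
    intro g e
    change (QuotientGroup.mk (gg (g • e)) : A ⧸ M) = QuotientGroup.mk (g * gg e)
    rw [QuotientGroup.eq]
    apply hle
    rw [MulAction.mem_stabilizer_iff, mul_smul, mul_smul, hgg, inv_smul_eq_iff, hgg]
  haveI : Nontrivial (A ⧸ M) := by
    rw [← Finite.one_lt_card_iff_nontrivial, ← Subgroup.index_eq_card]
    exact Subgroup.one_lt_index_of_ne_top hM.1
  haveI := Fintype.ofFinite (A ⧸ M)
  have hprim : MulAction.IsPreprimitive A (A ⧸ M) :=
    (MulAction.isCoatom_stabilizer_iff_preprimitive A (QuotientGroup.mk (1 : A) : A ⧸ M)).1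
      (by rw [MulAction.stabilizer_quotient]; exact hM)
  have hfib : ∀ q : A ⧸ M, S (Finset.univ.filter fun e => π e = q) ≠ 0 := by
    intro q h
    obtain ⟨g, rfl⟩ := QuotientGroup.mk_surjective q
    have hmem : π (g • b₀) = QuotientGroup.mk g := by
      change (QuotientGroup.mk (gg (g • b₀)) : A ⧸ M) = QuotientGroup.mk g
      rw [QuotientGroup.eq]
      apply hle
      rw [MulAction.mem_stabilizer_iff, mul_smul, inv_smul_eq_iff, hgg]
    have h2 := hSmul (Finset.univ.filter fun e => π e = QuotientGroup.mk g) (g • b₀)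
    have hin : g • b₀ ∈ Finset.univ.filter fun e => π e = QuotientGroup.mk g := by simp [hmem]
    rw [h, zero_mul, if_pos hin] at h2
    exact (g • b₀).2.2.1 h2.symm
  refine pair_blocks hp3 hexp hA ih hirr hprim (fun q => S (Finset.univ.filter fun e => π e = q))
    (fun q => (hSid _).2) (fun q q' hqq => ?_) ?_ hfib fun g q x => ?_
  · change S _ * (∑ e ∈ (_ : Finset Bl), e.1) = 0
    rw [Finset.mul_sum]
    refine Finset.sum_eq_zero fun e he => ?_
    rw [hSmul, if_neg]
    intro he'
    exact hqq ((Finset.mem_filter.1 he').2.symm.trans (Finset.mem_filter.1 he).2)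
  · rw [← hsum1]
    exact Finset.sum_fiberwise Finset.univ π fun e => e.1
  · change g • (∑ e ∈ (_ : Finset Bl), e.1) x = (∑ e ∈ (_ : Finset Bl), e.1) (g • x)
    refine (congrArg (g • ·) (AddMonoidHom.finsetSum_apply (fun e : Bl => e.1) _ _)).trans ?_
    refine Eq.trans ?_ (AddMonoidHom.finsetSum_apply (fun e : Bl => e.1) _ _).symm
    rw [Finset.smul_sum]
    refine Finset.sum_equiv (MulAction.toPerm g) (fun e => ?_) (fun e _ => ?_)
    · simp only [Finset.mem_filter, Finset.mem_univ, true_and, MulAction.toPerm_apply, hπ]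
      exact (MulAction.injective g).eq_iff.symm
    · change g • e.1 x = act A V g (e.1 (act A V g⁻¹ (g • x)))
      rw [act_apply, act_apply, inv_smul_smul]

end Cfsg.Lib.CoprimeBase
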