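import Cfsg.Agent.CoprimeBase.Linear
import Cfsg.Agent.OddBase.Main

/-!
Solvable groups of order prime to the characteristic have regular pairs.
-/

set_option autoImplicit false
set_option linter.unusedSectionVars false

namespace Cfsg.Lib.CoprimeBase

open Cfsg.Lib.OddBase

universe u v w

/-- The theorem for modules of every size. -/
theorem small_all (p : ℕ) [Fact p.Prime] : ∀ m, Small.{u} p m := by
  intro m
  induction m using Nat.strong_induction_on with
  | _ m ih =>
  intro A V _ _ _ _ _ hlt hsolv hexp hA
  haveI := hsolv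
  by_cases hp2 : p = 2
  · subst hp2
    have hodd : Odd (Nat.card A) := Nat.odd_iff.2 (Nat.two_dvd_ne_zero.1 hA)
    exact below_all (Nat.card A + 1) A V (Nat.lt_succ_self _) hodd (cr_of_coprime hexp hA)
  have hp3 : 3 ≤ p := by have := (Fact.out : p.Prime).two_le; omega
  letI : Module (ZMod p) V := AddCommGroup.zmodModule hexp
  haveI : CharP (ULift.{u} (ZMod p)) p :=
    (CharP.charP_iff_prime_eq_zero Fact.out).2 (ULift.down_injective (ZMod.natCast_self p))
  refine pair_K hp3 hexp (ih _ hlt) (Module.finrank (ULift.{u} (ZMod p)) V) (ULift.{u} (ZMod p)) A hA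
    (fun g k x => ?_) rfl
  exact ((DistribSMul.toAddMonoidHom V g).toZModLinearMap p).map_smul k.down x

/-- Coprime solvable groups acting on an elementary abelian group have a regular pair. -/
theorem pair_coprime {A : Type v} {V : Type w} [Group A] [Finite A] [AddCommGroup V] [Finite V]
    [DistribMulAction A V] (hsolv : Group.IsSolvable A) {p : ℕ} [Fact p.Prime]
    (hexp : ∀ x : V, p • x = 0) (hA : ¬ p ∣ Nat.card A) :
    ∃ x y : V, ∀ a : A, a • x = x → a • y = y → ∀ z : V, a • z = z := by
  let A' := ULift.{max v w} A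
  let V' := ULift.{max v w} V
  letI : DistribMulAction A' V' :=
    { smul := fun a x => ⟨a.down • x.down⟩
      one_smul := fun x => ULift.ext _ _ (one_smul A x.down)
      mul_smul := fun a b x => ULift.ext _ _ (mul_smul a.down b.down x.down)
      smul_zero := fun a => ULift.ext _ _ (smul_zero a.down)
      smul_add := fun a x y => ULift.ext _ _ (smul_add a.down x.down y.down) }
  let e : A →* A' := MonoidHom.mk' (fun a => ULift.up a) fun a b => rfl
  haveI : Group.IsSolvable A' :=
    haveI := hsolv
    Group.isSolvable_of_surjective (f := e) fun a => ⟨a.down, rfl⟩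
  obtain ⟨x, y, hxy⟩ := small_all.{max v w} p (Nat.card V' + 1) A' V' (Nat.lt_succ_self _) inferInstance
    (fun x => ULift.ext _ _ (hexp x.down)) (by
      rw [show Nat.card A' = Nat.card A from Nat.card_congr Equiv.ulift]; exact hA)
  exact ⟨x.down, y.down, fun a h1 h2 z => congrArg ULift.down
    (hxy ⟨a⟩ (ULift.ext _ _ h1) (ULift.ext _ _ h2) ⟨z⟩)⟩

end Cfsg.Lib.CoprimeBase
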