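import Cfsg.Agent.CoprimeBase.FixCount
import Cfsg.Agent.CoprimeBase.Main

/-!
Regular pairs for coprime actions on arbitrary groups, through elementary abelian layers.
-/

set_option autoImplicit false
set_option linter.unusedSectionVars false

namespace Cfsg.Lib.CoprimeBase

open Subgroup

universe u v w w'

/-- An elementary abelian layer. -/
structure Layer (A : Type v) [Group A] : Type (max v (u + 1)) where
  carrier : Type u
  [grp : AddCommGroup carrier]
  [fin : Finite carrier]
  [act : DistribMulAction A carrier]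
  q : ℕ
  hq : q.Prime
  hexp : ∀ x : carrier, q • x = 0
  hcop : ¬ q ∣ Nat.card A

attribute [instance] Layer.grp Layer.fin Layer.act

variable {A : Type v} [Group A]

/-- The number of fixed vectors of a subgroup in a layer. -/
noncomputable def Layer.fixCard (M : Layer.{u} A) (X : Subgroup A) : ℕ :=
  Nat.card {x : M.carrier // ∀ a ∈ X, a • x = x}

/-- The fixed point numbers of the group are products of those of layers. -/
def HasLayers (A : Type v) [Group A] (K : Type u) [Group K] [MulDistribMulAction A K] : Prop :=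
  ∃ L : List (Layer.{u} A), ∀ X : Subgroup A, Nat.card (fixK K X) = (L.map fun M => M.fixCard X).prod

/-- An invariant subgroup with the induced action. -/
@[reducible] def subMulAction {K : Type u} [Group K] [MulDistribMulAction A K] (S : Subgroup K)
    (hS : ∀ a : A, ∀ x ∈ S, a • x ∈ S) : MulDistribMulAction A S where
  smul a x := ⟨a • (x : K), hS a x x.2⟩
  one_smul x := Subtype.ext (one_smul A (x : K))
  mul_smul a b x := Subtype.ext (mul_smul a b (x : K))
  smul_mul a x y := Subtype.ext (smul_mul' a (x : K) y)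
  smul_one a := Subtype.ext (smul_one a)

variable [Finite A]

/-- Layers of a `p`-group. -/
theorem hasLayers_pgroup (hsol : Group.IsSolvable A) {p : ℕ} [Fact p.Prime] (hp : ¬ p ∣ Nat.card A) :
    ∀ (n : ℕ) (P : Type u) [Group P] [Finite P] [MulDistribMulAction A P], Nat.card P = n → IsPGroup p P →
      HasLayers A P := by
  intro n
  induction n using Nat.strong_induction_on with
  | _ n ih =>
  intro P _ _ _ hn hP
  classical
  rcases subsingleton_or_nontrivial P with h1 | h1
  · refine ⟨[], fun X => ?_⟩
    rw [List.map_nil, List.prod_nil, Nat.card_eq_one_iff_unique]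
    exact ⟨inferInstance, ⟨1⟩⟩
  have hΦinv : ∀ a : A, ∀ x ∈ frattini P, a • x ∈ frattini P := fun a x hx =>
    Cfsg.Lib.Coprime.MaximalInvariant.smul_mem_frattini a hx
  have hlt : Nat.card (frattini P) < n := by
    rw [← hn]
    refine lt_of_le_of_ne (frattini P).card_le_card_group fun h => ?_
    have h2 := Subgroup.eq_top_of_card_eq _ h
    exact top_ne_bot ((frattini_nongenerating (K := (⊥ : Subgroup P)) (by rw [bot_sup_eq, h2])).symm)
  have hcop : (Nat.card A).Coprime (Nat.card P) := by
    obtain ⟨i, hi⟩ := IsPGroup.iff_card.1 hP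
    rw [hi]
    exact ((Fact.out : p.Prime).coprime_iff_not_dvd.2 hp).symm.pow_right i
  letI : MulDistribMulAction A (frattini P) := subMulAction _ hΦinv
  obtain ⟨L, hL⟩ := ih _ hlt (frattini P) rfl (hP.to_subgroup _)
  haveI := Cfsg.Lib.PGroups.isMulCommutative_quotient_frattini hP
  letI : CommGroup (P ⧸ frattini P) :=
    { (inferInstance : Group (P ⧸ frattini P)) with mul_comm := fun x y => Std.Commutative.comm x y }
  let σ : A → (P ⧸ frattini P →* P ⧸ frattini P) := fun a =>
    QuotientGroup.map _ _ (MulDistribMulAction.toMonoidHom P a) fun x hx => hΦinv a x hx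
  have hσ : ∀ (a : A) (x : P), σ a (x : P ⧸ frattini P) = ((a • x : P) : P ⧸ frattini P) := fun a x => rfl
  letI : DistribMulAction A (Additive (P ⧸ frattini P)) :=
    { smul := fun a x => Additive.ofMul (σ a (Additive.toMul x))
      one_smul := fun x => by
        obtain ⟨y, hy⟩ := QuotientGroup.mk_surjective (Additive.toMul x)
        change Additive.ofMul (σ 1 (Additive.toMul x)) = x
        rw [← hy, hσ, one_smul, hy]; rfl
      mul_smul := fun a b x => by
        obtain ⟨y, hy⟩ := QuotientGroup.mk_surjective (Additive.toMul x)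
        change Additive.ofMul (σ (a * b) (Additive.toMul x)) = Additive.ofMul (σ a (σ b (Additive.toMul x)))
        rw [← hy, hσ, hσ, hσ, mul_smul]
      smul_zero := fun a => congrArg Additive.ofMul (map_one (σ a))
      smul_add := fun a x y => congrArg Additive.ofMul (map_mul (σ a) _ _) }
  let M : Layer.{u} A :=
    { carrier := Additive (P ⧸ frattini P)
      q := p
      hq := Fact.out
      hexp := fun x => Additive.toMul.injective (by
        rw [toMul_nsmul, toMul_zero]; exact Cfsg.Lib.PGroups.pow_prime_quotient_frattini hP _)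
      hcop := hp }
  refine ⟨M :: L, fun X => ?_⟩
  rw [List.map_cons, List.prod_cons, ← hL]
  let r : fixK P X →* P ⧸ frattini P := (QuotientGroup.mk' _).comp (fixK P X).subtype
  have hker : Nat.card r.ker = Nat.card (fixK (frattini P) X) := by
    refine Nat.card_congr
      { toFun := fun k => ⟨⟨(k.1 : P), (QuotientGroup.eq_one_iff _).1 (k.2 : r k.1 = 1)⟩,
          fun a ha => Subtype.ext (k.1.2 a ha)⟩
        invFun := fun f => ⟨⟨(f.1 : P), fun a ha => congrArg Subtype.val (f.2 a ha)⟩,
          (QuotientGroup.eq_one_iff _).2 f.1.2⟩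
        left_inv := fun k => rfl
        right_inv := fun f => rfl }
  have hrange : Nat.card r.range = M.fixCard X := by
    refine Nat.card_congr (Equiv.subtypeEquiv (p := fun x => x ∈ r.range)
      (q := fun x : M.carrier => ∀ a ∈ X, a • x = x) Additive.ofMul fun x => ?_)
    constructor
    · rintro ⟨k, rfl⟩ a ha
      change Additive.ofMul (σ a ((k : P) : P ⧸ frattini P)) = _
      rw [hσ, k.2 a ha]
      rfl
    · intro h
      obtain ⟨y, rfl⟩ := QuotientGroup.mk_surjective x
      obtain ⟨d, hd, hfix⟩ := exists_fix_in_coset hsol hcop X hΦinv (k := y) fun a ha => by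
        rw [← QuotientGroup.eq]
        exact (Additive.ofMul.injective (h a ha)).symm
      exact ⟨⟨y * d, hfix⟩, (QuotientGroup.eq.2 (by simpa using inv_mem hd) :
        ((y * d : P) : P ⧸ frattini P) = y)⟩
  rw [← r.ker.card_mul_index, Subgroup.index_ker, hker, hrange, mul_comm]

/-- Layers of an arbitrary group with a coprime solvable action. -/
theorem hasLayers (hsol : Group.IsSolvable A) {K : Type u} [Group K] [Finite K] [MulDistribMulAction A K]
    (hcop : (Nat.card A).Coprime (Nat.card K)) : HasLayers A K := by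
  classical
  have key : ∀ s : Finset ℕ, s ⊆ (Nat.card K).primeFactors → ∃ L : List (Layer.{u} A), ∀ X : Subgroup A,
      ∏ p ∈ s, p ^ (Nat.card (fixK K X)).factorization p = (L.map fun M => M.fixCard X).prod := by
    intro s
    induction s using Finset.induction_on with
    | empty => exact fun _ => ⟨[], fun X => by simp⟩
    | insert p s hps ihs =>
      intro hsub
      obtain ⟨L, hL⟩ := ihs fun q hq => hsub (Finset.mem_insert_of_mem hq)
      have hpK := Nat.mem_primeFactors.1 (hsub (Finset.mem_insert_self p s))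
      haveI : Fact p.Prime := ⟨hpK.1⟩
      have hpA : ¬ p ∣ Nat.card A := fun hd => hpK.1.ne_one (Nat.eq_one_of_dvd_coprimes hcop hd hpK.2.1)
      obtain ⟨S, hS, hSi, hinv⟩ :=
        Cfsg.Lib.Coprime.MaximalInvariant.exists_invariant_sylow_ext hcop (Or.inl hsol) p
      letI : MulDistribMulAction A S := subMulAction S hinv
      obtain ⟨L', hL'⟩ := hasLayers_pgroup hsol hpA _ S rfl hS
      refine ⟨L' ++ L, fun X => ?_⟩
      rw [List.map_append, List.prod_append, Finset.prod_insert hps, hL, ← hL',
        ← card_fix_sylow hsol hcop hS hSi hinv X]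
      congr 1
      refine Nat.card_congr
        { toFun := fun k => ⟨⟨(k : K), k.2.1⟩, fun a ha => Subtype.ext (k.2.2 a ha)⟩
          invFun := fun f => ⟨(f.1 : K), f.1.2, fun a ha => congrArg Subtype.val (f.2 a ha)⟩
          left_inv := fun k => rfl
          right_inv := fun f => rfl }
  obtain ⟨L, hL⟩ := key _ le_rfl
  refine ⟨L, fun X => ?_⟩
  rw [← hL]
  conv_lhs => rw [← Nat.prod_factorization_pow_eq_self (Nat.card_pos (α := fixK K X)).ne']
  refine (Finsupp.prod_of_support_subset _ ?_ _ fun i _ => pow_zero i)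
  rw [Nat.support_factorization]
  exact Nat.primeFactors_mono (fixK K X).card_subgroup_dvd_card Nat.card_pos.ne'

/-- Equal fixed point numbers carry regular points over. -/
theorem exists_regular_of_count {S : Type w} {T : Type w'} [MulAction A S] [MulAction A T] [Finite S] [Finite T]
    (h : ∀ X : Subgroup A, Nat.card {s : S // ∀ a ∈ X, a • s = s} = Nat.card {t : T // ∀ a ∈ X, a • t = t})
    (ht : ∃ t : T, MulAction.stabilizer A t = ⊥) : ∃ s : S, MulAction.stabilizer A s = ⊥ := by
  classical
  haveI := Fintype.ofFinite (Subgroup A)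
  haveI := Fintype.ofFinite S
  haveI := Fintype.ofFinite T
  have hfix : ∀ (U : Type (max w w')) [Fintype U] [MulAction A U] (X : Subgroup A),
      Nat.card {u : U // ∀ a ∈ X, a • u = u} = ∑ Y ∈ Finset.univ.filter (fun Y : Subgroup A => X ≤ Y),
        (Finset.univ.filter fun u : U => MulAction.stabilizer A u = Y).card := by
    intro U _ _ X
    rw [Nat.card_eq_fintype_card, Fintype.card_subtype,
      Finset.card_eq_sum_card_fiberwise (f := fun u : U => MulAction.stabilizer A u)
        (t := Finset.univ.filter (fun Y : Subgroup A => X ≤ Y)) ?_]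
    · refine Finset.sum_congr rfl fun Y hY => ?_
      rw [Finset.filter_filter]
      refine congrArg Finset.card (Finset.filter_congr fun u _ => ⟨fun h => h.2, fun h => ⟨?_, h⟩⟩)
      intro a ha
      exact MulAction.mem_stabilizer_iff.1 (h ▸ (Finset.mem_filter.1 hY).2 ha)
    · intro u hu
      simp only [Finset.coe_filter, Finset.mem_univ, true_and, Set.mem_setOf_eq] at hu ⊢
      exact fun a ha => MulAction.mem_stabilizer_iff.2 (hu a ha)
  letI : MulAction A (ULift.{w'} S) :=
    { smul := fun a s => ⟨a • s.down⟩, one_smul := fun s => ULift.ext _ _ (one_smul A s.down),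
      mul_smul := fun a b s => ULift.ext _ _ (mul_smul a b s.down) }
  letI : MulAction A (ULift.{w} T) :=
    { smul := fun a s => ⟨a • s.down⟩, one_smul := fun s => ULift.ext _ _ (one_smul A s.down),
      mul_smul := fun a b s => ULift.ext _ _ (mul_smul a b s.down) }
  let gS : Subgroup A → ℕ := fun Y =>
    (Finset.univ.filter fun u : ULift.{w'} S => MulAction.stabilizer A u = Y).card
  let gT : Subgroup A → ℕ := fun Y =>
    (Finset.univ.filter fun u : ULift.{w} T => MulAction.stabilizer A u = Y).card
  have hsum : ∀ X : Subgroup A, ∑ Y ∈ Finset.univ.filter (fun Y : Subgroup A => X ≤ Y), gS Y =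
      ∑ Y ∈ Finset.univ.filter (fun Y : Subgroup A => X ≤ Y), gT Y := by
    intro X
    rw [← hfix (ULift.{w'} S) X, ← hfix (ULift.{w} T) X]
    refine Eq.trans ?_ ((h X).trans ?_)
    · exact Nat.card_congr (Equiv.subtypeEquiv Equiv.ulift fun u =>
        ⟨fun hu a ha => congrArg ULift.down (hu a ha), fun hu a ha => ULift.ext _ _ (hu a ha)⟩)
    · exact (Nat.card_congr (Equiv.subtypeEquiv Equiv.ulift fun u =>
        ⟨fun hu a ha => congrArg ULift.down (hu a ha), fun hu a ha => ULift.ext _ _ (hu a ha)⟩)).symm
  have hg : ∀ n (X : Subgroup A), Nat.card A - Nat.card X = n → gS X = gT X := by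
    intro n
    induction n using Nat.strong_induction_on with
    | _ n ihn =>
    intro X hX
    have hmem : X ∈ Finset.univ.filter (fun Y : Subgroup A => X ≤ Y) := by simp
    have h1 := hsum X
    rw [← Finset.add_sum_erase _ _ hmem, ← Finset.add_sum_erase _ _ hmem] at h1
    have h2 : ∑ Y ∈ (Finset.univ.filter (fun Y : Subgroup A => X ≤ Y)).erase X, gS Y =
        ∑ Y ∈ (Finset.univ.filter (fun Y : Subgroup A => X ≤ Y)).erase X, gT Y := by
      refine Finset.sum_congr rfl fun Y hY => ?_
      rw [Finset.mem_erase, Finset.mem_filter] at hY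
      have h3 : Nat.card X < Nat.card Y := lt_of_le_of_ne (Subgroup.card_le_of_le hY.2.2)
        fun he => hY.1 (Subgroup.eq_of_le_of_card_ge hY.2.2 he.ge).symm
      have h4 := Y.card_le_card_group
      exact ihn _ (by omega) Y rfl
    omega
  obtain ⟨t, ht⟩ := ht
  have hstT : MulAction.stabilizer A (ULift.up.{w} t) = ⊥ := by
    rw [← ht]
    ext a
    simp only [MulAction.mem_stabilizer_iff]
    exact ⟨fun e => congrArg ULift.down e, fun e => ULift.ext _ _ e⟩
  have h0 : 0 < gT ⊥ := Finset.card_pos.2 ⟨_, Finset.mem_filter.2 ⟨Finset.mem_univ _, hstT⟩⟩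
  rw [← hg _ ⊥ rfl] at h0
  obtain ⟨s, hs⟩ := Finset.card_pos.1 h0
  refine ⟨s.down, ?_⟩
  rw [← (Finset.mem_filter.1 hs).2]
  ext a
  simp only [MulAction.mem_stabilizer_iff]
  exact ⟨fun e => ULift.ext _ _ e, fun e => congrArg ULift.down e⟩

/-- Two points with trivial common stabiliser. -/
theorem exists_pair_group {K : Type u} [Group K] [Finite K] [MulDistribMulAction A K] [FaithfulSMul A K]
    (hsol : Group.IsSolvable A) (hcop : (Nat.card A).Coprime (Nat.card K)) :
    ∃ x y : K, ∀ a : A, a • x = x → a • y = y → a = 1 := by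
  classical
  obtain ⟨L, hL⟩ := hasLayers hsol hcop
  let V : Fin L.length → Type u := fun i => (L.get i).carrier
  have hprod : ∀ X : Subgroup A, Nat.card (fixK K X) = ∏ i, (L.get i).fixCard X := by
    intro X
    rw [hL, ← List.ofFn_get L]
    rw [List.map_ofFn, List.prod_ofFn, List.ofFn_get L]
    rfl
  have hpair : ∀ i, ∃ x y : V i, ∀ a : A, a • x = x → a • y = y → ∀ z : V i, a • z = z := fun i =>
    haveI : Fact (L.get i).q.Prime := ⟨(L.get i).hq⟩
    pair_coprime hsol (L.get i).hexp (L.get i).hcop
  choose px py hpxy using hpair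
  have hT : ∃ t : ((∀ i, V i) × (∀ i, V i)), MulAction.stabilizer A t = ⊥ := by
    refine ⟨(px, py), (Subgroup.eq_bot_iff_forall _).2 fun a ha => ?_⟩
    have ha' := MulAction.mem_stabilizer_iff.1 ha
    have htriv : ∀ i, ∀ z : V i, a • z = z := fun i =>
      hpxy i a (congrFun (congrArg Prod.fst ha') i) (congrFun (congrArg Prod.snd ha') i)
    have hcard : Nat.card (fixK K (Subgroup.zpowers a)) = Nat.card (fixK K (⊥ : Subgroup A)) := by
      rw [hprod, hprod]
      refine Finset.prod_congr rfl fun i _ => ?_
      refine Nat.card_congr (Equiv.subtypeEquivRight fun x => ⟨fun _ b hb => ?_, fun _ b hb => ?_⟩)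
      · rw [Subgroup.mem_bot] at hb; rw [hb, one_smul]
      · exact MulAction.mem_stabilizer_iff.1 (Subgroup.zpowers_le.2
          (MulAction.mem_stabilizer_iff.2 (htriv i x)) hb)
    have hbot : fixK K (⊥ : Subgroup A) = ⊤ := eq_top_iff.2 fun k _ b hb => by
      rw [Subgroup.mem_bot] at hb; rw [hb, one_smul]
    rw [hbot, Subgroup.card_top] at hcard
    have htop := Subgroup.eq_top_of_card_eq _ hcard
    refine eq_of_smul_eq_smul fun k : K => ?_
    rw [one_smul]
    exact (show k ∈ fixK K (Subgroup.zpowers a) from htop ▸ mem_top k) a (Subgroup.mem_zpowers a)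
  suffices hcount : ∀ X : Subgroup A, Nat.card {s : K × K // ∀ a ∈ X, a • s = s} =
      Nat.card {t : (∀ i, V i) × (∀ i, V i) // ∀ a ∈ X, a • t = t} by
    obtain ⟨⟨x, y⟩, hs⟩ := exists_regular_of_count hcount hT
    exact ⟨x, y, fun a h1 h2 => Subgroup.mem_bot.1 (hs ▸ MulAction.mem_stabilizer_iff.2 (Prod.ext h1 h2))⟩
  intro X
  have e1 : Nat.card {s : K × K // ∀ a ∈ X, a • s = s} = Nat.card (fixK K X) * Nat.card (fixK K X) := by
    rw [← Nat.card_prod]
    exact Nat.card_congr
      { toFun := fun s => (⟨s.1.1, fun a ha => congrArg Prod.fst (s.2 a ha)⟩,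
          ⟨s.1.2, fun a ha => congrArg Prod.snd (s.2 a ha)⟩)
        invFun := fun q => ⟨((q.1 : K), (q.2 : K)), fun a ha => Prod.ext (q.1.2 a ha) (q.2.2 a ha)⟩
        left_inv := fun s => rfl
        right_inv := fun q => rfl }
  rw [e1, hprod]
  simp only [Layer.fixCard]
  rw [← Nat.card_pi, ← Nat.card_prod]
  exact Nat.card_congr
    { toFun := fun q => ⟨(fun i => (q.1 i).1, fun i => (q.2 i).1), fun a ha =>
          Prod.ext (funext fun i => (q.1 i).2 a ha) (funext fun i => (q.2 i).2 a ha)⟩
      invFun := fun s => (fun i => ⟨s.1.1 i, fun a ha => congrFun (congrArg Prod.fst (s.2 a ha)) i⟩,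
          fun i => ⟨s.1.2 i, fun a ha => congrFun (congrArg Prod.snd (s.2 a ha)) i⟩)
      left_inv := fun q => rfl
      right_inv := fun s => rfl }

end Cfsg.Lib.CoprimeBase
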