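import Cfsg.Agent.CoprimeBase.SympBridge
import Cfsg.Agent.OddBase.Primitive

/-!
Elements with many fixed vectors in the terminal case, and the counting criterion.
-/

set_option autoImplicit false
set_option linter.unusedSectionVars false

namespace Cfsg.Lib.CoprimeBase

open Cfsg.Lib.OddBase Cfsg.Lib.SolvBase

universe u

/-- Counting: if the non-trivial elements fix fewer pairs than there are, a regular pair exists. -/
theorem pair_of_sum {A V : Type u} [Group A] [AddCommGroup V] [DistribMulAction A V] [Fintype A] [DecidableEq A]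
    [Finite V]
    (h : ∑ a ∈ (Finset.univ.erase (1 : A)), Nat.card (fixS A V a) ^ 2 < Nat.card V ^ 2) : Pair A V := by
  classical
  haveI := Fintype.ofFinite V
  by_contra hno
  have hall : ∀ q : V × V, ∃ a : A, a ≠ 1 ∧ a • q.1 = q.1 ∧ a • q.2 = q.2 := by
    intro q
    by_contra hq
    push Not at hq
    refine hno ⟨q.1, q.2, fun a h1 h2 x => ?_⟩
    by_cases ha : a = 1
    · rw [ha, one_smul]
    · exact absurd h2 (hq a ha h1)
  let F : A → Finset (V × V) := fun a => Finset.univ.filter fun q => a • q.1 = q.1 ∧ a • q.2 = q.2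
  have hcov : (Finset.univ : Finset (V × V)) ⊆ (Finset.univ.erase (1 : A)).biUnion F := by
    intro q _
    obtain ⟨a, ha, h1, h2⟩ := hall q
    simp only [Finset.mem_biUnion, Finset.mem_erase, Finset.mem_univ, and_true]
    exact ⟨a, ha, by simp [F, h1, h2]⟩
  have h1 := (Finset.card_le_card hcov).trans Finset.card_biUnion_le
  have hF : ∀ a : A, (F a).card = Nat.card (fixS A V a) ^ 2 := by
    intro a
    have : F a = (Finset.univ.filter fun x : V => a • x = x) ×ˢ
        (Finset.univ.filter fun x : V => a • x = x) := by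
      ext q; simp [F]
    rw [this, Finset.card_product, pow_two, Nat.card_eq_fintype_card, Fintype.card_subtype]
    rfl
  rw [Finset.card_univ, Fintype.card_prod] at h1
  rw [pow_two (Nat.card V), Nat.card_eq_fintype_card] at h
  simp only [hF] at h1
  exact absurd h (not_lt.2 h1)

variable {A : Type u} [Group A] [Finite A] [Group.IsSolvable A] {Z : Subgroup A} [Z.Normal]
  [IsMulCommutative Z] {K : Type u} [Field K] [Finite K] {V : Type u} [AddCommGroup V] [Finite V]
  [DistribMulAction A V] [Module K V] [FaithfulSMul A V] [Nontrivial V] {p : ℕ} [Fact p.Prime]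
  [CharP K p] {ι : Z →* Kˣ} {R W : Type u} [Group R] [Finite R] [AddCommGroup W] [Finite W]
  [DistribMulAction R W] [FaithfulSMul R W]

/-- A scalar fixing a non-zero vector is trivial. -/
theorem Terminal.eq_one_of_fix (T : Terminal p Z V ι) {z : A} (hz : z ∈ Z) {x : V} (hx : x ≠ 0)
    (h : z • x = x) : z = 1 := by
  have h1 : ((ι ⟨z, hz⟩ : Kˣ) : K) • x = (1 : K) • x := by rw [T.hιv, one_smul]; exact h
  have h2 : ι ⟨z, hz⟩ = 1 := Units.ext (smul_left_injective K hx h1)
  exact congrArg Subtype.val ((map_eq_one_iff ι T.hι).1 h2)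

theorem Terminal.fix_scalar (T : Terminal p Z V ι) {z : A} (hz : z ∈ Z) (hz1 : z ≠ 1) :
    Nat.card (fixS A V z) = 1 := by
  have : fixS A V z = ⊥ := (AddSubgroup.eq_bot_iff_forall _).2 fun x hx => by
    by_contra hx0
    exact hz1 (T.eq_one_of_fix hz hx0 hx)
  rw [this]
  exact AddSubgroup.card_bot

/-- Elements of the socle fix at most the square root. -/
theorem Terminal.fix_soc (T : Terminal p Z V ι) (l : Soc Z) (hl : (l : A) ≠ 1) :
    Nat.card (fixS A V (l : A)) ^ 2 ≤ Nat.card V := by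
  by_cases hlZ : (l : A) ∈ Z
  · rw [T.fix_scalar hlZ hl, one_pow]; exact Nat.card_pos
  obtain ⟨m, hm⟩ : ∃ m : Soc Z, form ι l m ≠ 1 := by
    by_contra hall
    push Not at hall
    exact hlZ (soc_mem_center T.hι T.hmax T.hne l hall)
  have h := fix_commutator_le (V := V) (l : A) (m : A)
  have hz : (l : A) * m * (l : A)⁻¹ * (m : A)⁻¹ ∈ Z :=
    socle_comm (Subgroup.commutator_mem_commutator l.2 m.2)
  rwa [T.fix_scalar hz
    (fun h1 => hm (by
      rw [form, map_eq_one_iff ι T.hι]
      exact Subtype.ext h1)), mul_one] at h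

/-- Some commutator with the socle is not a scalar. -/
theorem Terminal.exists_outside (T : Terminal p Z V ι) {a : A} (ha : a ∉ Soc Z) :
    ∃ l : Soc Z, a * l * a⁻¹ * (l : A)⁻¹ ∉ Z := by
  by_contra hall
  push Not at hall
  exact ha (mem_socle T.hι T.hmax T.hne (T.centralizer_top.ge (Subgroup.mem_top a)) fun l hl => hall ⟨l, hl⟩)

/-- Every non-trivial element fixes at most three quarters. -/
theorem Terminal.fix_le (T : Terminal p Z V ι) {a : A} (ha : a ≠ 1) {s : ℕ} (hs : Nat.card V = s * s) :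
    Nat.card (fixS A V a) ^ 2 ≤ Nat.card V * s := by
  have hs0 : 1 ≤ s := by
    by_contra h
    have : s = 0 := by omega
    rw [this, mul_zero] at hs
    exact (Nat.card_pos (α := V)).ne' hs
  by_cases haL : a ∈ Soc Z
  · exact (T.fix_soc ⟨a, haL⟩ ha).trans (Nat.le_mul_of_pos_right _ hs0)
  obtain ⟨l, hl⟩ := T.exists_outside haL
  refine (fix_commutator_le (V := V) a (l : A)).trans (Nat.mul_le_mul_left _ ?_)
  have hmem : a * l * a⁻¹ * (l : A)⁻¹ ∈ Soc Z :=
    mul_mem ((socle_normal Z _).conj_mem _ l.2 a) (inv_mem l.2)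
  have h := T.fix_soc ⟨_, hmem⟩ fun h1 => hl (by
    change a * l * a⁻¹ * (l : A)⁻¹ = 1 at h1
    rw [h1]; exact one_mem Z)
  rw [hs, pow_two] at h
  exact Nat.mul_self_le_mul_self_iff.1 h

/-- The properties of elements fixing more than half. -/
theorem Terminal.big_props (T : Terminal p Z V ι) (hexp : ∀ l : Soc Z, ((l ^ 2 : Soc Z) : A) ∈ Z)
    (D : Bridge Z ι R W) {a : A} (ha : a ≠ 1) (hbig : Nat.card V < Nat.card (fixS A V a) ^ 2) :
    D.S.Special (D.π a) ∧ D.π a ≠ 1 ∧
      ∀ m : Soc Z, D.π a • D.cl m = D.cl m → a * m = m * a := by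
  have haL : a ∉ Soc Z := fun h => not_lt.2 (T.fix_soc ⟨a, h⟩ ha) hbig
  -- the commutators
  let τ : Soc Z → Soc Z := fun l => conjL a l * l⁻¹
  have hτv : ∀ l, ((τ l : Soc Z) : A) = a * l * a⁻¹ * (l : A)⁻¹ := fun l => rfl
  have hτfix : ∀ l, ∃ x : V, x ≠ 0 ∧ ((τ l : Soc Z) : A) • x = x := by
    intro l
    by_contra hall
    push Not at hall
    have hbot : Nat.card (fixS A V ((τ l : Soc Z) : A)) = 1 := by
      have hb : fixS A V ((τ l : Soc Z) : A) = ⊥ := (AddSubgroup.eq_bot_iff_forall _).2 fun x hx => by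
        by_contra h0; exact hall x h0 hx
      rw [hb]
      exact AddSubgroup.card_bot
    have h := fix_commutator_le (V := V) a (l : A)
    rw [← hτv, hbot, mul_one] at h
    omega
  have hτsq : ∀ l, ((τ l : Soc Z) : A) * τ l = 1 := by
    intro l
    obtain ⟨x, hx0, hx⟩ := hτfix l
    have hz : ((τ l : Soc Z) : A) * τ l ∈ Z := by
      have := hexp (τ l)
      rwa [pow_two, Subgroup.coe_mul] at this
    exact T.eq_one_of_fix hz hx0 (by rw [mul_smul, hx, hx])
  have hτZ : ∀ l, ((τ l : Soc Z) : A) ∈ Z → a * l = l * a := by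
    intro l hl
    obtain ⟨x, hx0, hx⟩ := hτfix l
    have h1 := T.eq_one_of_fix hl hx0 hx
    rw [hτv, mul_inv_eq_one, mul_inv_eq_iff_eq_mul] at h1
    exact h1
  have hcommall : ∀ m : Soc Z, D.π a • D.cl m = D.cl m → a * m = m * a := by
    intro m hm
    refine hτZ m ((D.cl_zero _).1 ?_)
    have h1 : D.cl (m⁻¹) + D.cl m = 0 := by
      rw [← D.cl_mul, inv_mul_cancel]; exact (D.cl_zero 1).2 (one_mem Z)
    rw [D.cl_mul, D.cl_conj, hm, add_comm]
    exact h1
  have hcent : ∀ z ∈ Z, ∀ g : A, z * g = g * z := fun z hz g =>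
    Subgroup.mem_centralizer_iff.1 (T.centralizer_top.ge (Subgroup.mem_top g)) z hz
  -- the commutators commute
  have hτcomm : ∀ l l', ((τ l : Soc Z) : A) * τ l' = τ l' * τ l := by
    intro l l'
    set t := ((τ l : Soc Z) : A) with ht
    set t' := ((τ l' : Soc Z) : A) with ht'
    have hc : (l : A) * t' * (l : A)⁻¹ * t'⁻¹ ∈ Z :=
      socle_comm (Subgroup.commutator_mem_commutator l.2 (τ l').2)
    set c := (l : A) * t' * (l : A)⁻¹ * t'⁻¹ with hcdef
    have h1 : c * t' = (l : A) * t' * (l : A)⁻¹ := by rw [hcdef, inv_mul_cancel_right]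
    have hmul : ((τ (l * l') : Soc Z) : A) = t * (c * t') := by
      rw [h1, ht, ht', hτv, hτv, hτv, Subgroup.coe_mul]
      group
    have hc2 : c * c = 1 := by
      have h2 : (c * t') * (c * t') = 1 := by
        rw [h1]
        calc (l : A) * t' * (l : A)⁻¹ * ((l : A) * t' * (l : A)⁻¹) = (l : A) * (t' * t') * (l : A)⁻¹ := by group
          _ = 1 := by rw [hτsq, mul_one, mul_inv_cancel]
      calc c * c = (c * c) * (t' * t') := by rw [hτsq, mul_one]
        _ = c * (c * t') * t' := by group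
        _ = c * (t' * c) * t' := by rw [hcent c hc t']
        _ = (c * t') * (c * t') := by group
        _ = 1 := h2
    have h2 := hτsq (l * l')
    rw [hmul] at h2
    have hmul' : t * (c * t') = c * (t * t') := by rw [← mul_assoc, ← hcent c hc t, mul_assoc]
    rw [hmul'] at h2
    have hu : t * t' * (t * t') = 1 := by
      calc t * t' * (t * t') = c * c * (t * t' * (t * t')) := by rw [hc2, one_mul]
        _ = c * (c * (t * t')) * (t * t') := by group
        _ = c * ((t * t') * c) * (t * t') := by rw [hcent c hc (t * t')]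
        _ = (c * (t * t')) * (c * (t * t')) := by group
        _ = 1 := h2
    calc t * t' = (t * t')⁻¹ := (inv_eq_of_mul_eq_one_left hu).symm
      _ = t'⁻¹ * t⁻¹ := mul_inv_rev t t'
      _ = t' * t := by rw [inv_eq_of_mul_eq_one_left (hτsq l'), inv_eq_of_mul_eq_one_left (hτsq l)]
  set g := D.π a with hg
  have hclτ : ∀ l, D.cl (τ l) = disp W g (D.cl l) := by
    intro l
    have h1 : D.cl (τ l) + D.cl l = g • D.cl l := by
      rw [← D.cl_mul, inv_mul_cancel_right, D.cl_conj]
    rw [disp_apply, ← h1, add_sub_cancel_right]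
  have hdd : ∀ x, g • disp W g x = disp W g x := by
    intro x
    have hiso : ∀ y, D.S.B (disp W g x) (disp W g y) = 0 := by
      intro y
      obtain ⟨l, rfl⟩ := D.cl_surj x
      obtain ⟨l', rfl⟩ := D.cl_surj y
      rw [← hclτ, ← hclτ, D.form_iff, form_eq_one T.hι]
      exact hτcomm l l'
    refine D.S.eq_of_forall fun z => ?_
    have h1 := hiso (g⁻¹ • z)
    rw [disp_apply g (g⁻¹ • z), smul_inv_smul, map_sub, sub_eq_zero] at h1
    rw [D.S.symm z, D.S.symm z]
    calc D.S.B (g • disp W g x) z = D.S.B (g • disp W g x) (g • g⁻¹ • z) := by rw [smul_inv_smul]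
      _ = D.S.B (disp W g x) (g⁻¹ • z) := D.S.inv _ _ _
      _ = D.S.B (disp W g x) z := h1.symm
  have hcomτ : ∀ l, a * τ l = τ l * a := fun l => hcommall _ (by
    rw [hclτ]; exact hdd _)
  have ha2 : a * a = 1 := by
    have hZ : a * a ∈ Z := by
      refine centralizer_socle T.hmax T.hne (T.centralizer_top.ge (Subgroup.mem_top _))
        (Subgroup.mem_centralizer_iff.2 fun m hm => ?_)
      have h1 : a * m = ((τ ⟨m, hm⟩ : Soc Z) : A) * m * a := by rw [hτv]; group
      calc m * (a * a) = ((τ ⟨m, hm⟩ : Soc Z) : A) * τ ⟨m, hm⟩ * m * (a * a) := by rw [hτsq, one_mul]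
        _ = (τ ⟨m, hm⟩ : Soc Z) * ((τ ⟨m, hm⟩ : Soc Z) * m * a) * a := by group
        _ = (τ ⟨m, hm⟩ : Soc Z) * (a * m) * a := by rw [← h1]
        _ = a * ((τ ⟨m, hm⟩ : Soc Z) * m * a) := by
          rw [← mul_assoc _ a m, ← hcomτ]; group
        _ = a * a * m := by rw [← h1]; group
    obtain ⟨x, hx0, hx⟩ : ∃ x : V, x ≠ 0 ∧ a • x = x := by
      by_contra hall
      push Not at hall
      have hbot : Nat.card (fixS A V a) = 1 := by
        have hb : fixS A V a = ⊥ := (AddSubgroup.eq_bot_iff_forall _).2 fun x hx => by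
          by_contra h0; exact hall x h0 hx
        rw [hb]
        exact AddSubgroup.card_bot
      rw [hbot, one_pow] at hbig
      have : 0 < Nat.card V := Nat.card_pos
      omega
    exact T.eq_one_of_fix hZ hx0 (by rw [mul_smul, hx, hx])
  refine ⟨⟨fun w => by rw [← mul_smul, hg, ← map_mul, ha2, map_one, one_smul], fun w => ?_⟩,
    fun h => haL (D.π_ker.le h), hcommall⟩
  obtain ⟨l, rfl⟩ := D.cl_surj w
  have h1 : D.S.B (D.cl l) (disp W g (D.cl l)) = 0 := by
    rw [← hclτ, D.form_iff, form_eq_one T.hι]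
    set t := ((τ l : Soc Z) : A) with ht
    have hl2 : (l : A) * l ∈ Z := by
      have := hexp l
      rwa [pow_two, Subgroup.coe_mul] at this
    have hinv : a⁻¹ = a := inv_eq_of_mul_eq_one_right ha2
    have hal : a * (l : A) * a = t * l := by rw [ht, hτv, hinv]; group
    calc (l : A) * t = (l : A) * t * l * (l : A)⁻¹ := by group
      _ = (l : A) * (a * l * a) * (l : A)⁻¹ := by rw [hal]; group
      _ = a * (a * l * a) * (l * a) * (l : A)⁻¹ := by
        calc (l : A) * (a * l * a) * (l : A)⁻¹ = (a * a) * (l : A) * (a * l * a) * (l : A)⁻¹ := by rw [ha2, one_mul]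
          _ = _ := by group
      _ = a * (t * l) * (l * a) * (l : A)⁻¹ := by rw [hal]
      _ = a * t * (((l : A) * l) * a) * (l : A)⁻¹ := by group
      _ = a * t * (a * ((l : A) * l)) * (l : A)⁻¹ := by rw [hcent _ hl2 a]
      _ = (a * t) * a * l := by group
      _ = t * (a * a) * l := by rw [ht, hcomτ]; group
      _ = t * l := by rw [ha2, mul_one]
  rw [disp_apply, map_sub, D.S.alt, sub_zero] at h1
  exact h1

/-- The counting criterion. -/
theorem Terminal.pair_of_counting (T : Terminal p Z V ι) (hexp : ∀ l : Soc Z, ((l ^ 2 : Soc Z) : A) ∈ Z)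
    (D : Bridge Z ι R W) {s I d : ℕ} (hs : Nat.card V = s * s)
    (hI : {g : R | D.S.Special g ∧ g ≠ 1}.ncard ≤ I)
    (hd : ∀ g : R, D.S.Special g → g ≠ 1 → Nat.card (disp W g).range ≤ d)
    (h : Nat.card A + I * d * s < Nat.card V) : Pair A V := by
  classical
  haveI := Fintype.ofFinite A
  haveI := Fintype.ofFinite W
  refine pair_of_sum ?_
  let B := (Finset.univ.erase (1 : A)).filter fun a => Nat.card V < Nat.card (fixS A V a) ^ 2
  have hB : B.card ≤ I * d := by
    haveI := Fintype.ofFinite R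
    have hSg : ({g : R | D.S.Special g ∧ g ≠ 1} : Set R).toFinset.card ≤ I := by
      rw [← Set.ncard_eq_toFinset_card']; exact hI
    refine le_trans (Finset.card_le_mul_card_image_of_maps_to (f := fun a => D.π a)
      (t := ({g : R | D.S.Special g ∧ g ≠ 1} : Set R).toFinset) (fun a ha => ?_) d fun g hg => ?_) ?_
    · rw [Finset.mem_filter, Finset.mem_erase] at ha
      rw [Set.mem_toFinset]
      exact ⟨(T.big_props hexp D ha.1.1 ha.2).1, (T.big_props hexp D ha.1.1 ha.2).2.1⟩
    · rw [Set.mem_toFinset] at hg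
      rcases (B.filter fun a => D.π a = g).eq_empty_or_nonempty with he | ⟨b, hb⟩
      · rw [he]; simp
      refine le_trans ?_ (hd g hg.1 hg.2)
      have hperp : Nat.card (D.S.perp (disp W g).ker) ≤ Nat.card (disp W g).range := by
        have h1 := D.S.card_perp_le (disp W g).ker
        rw [← D.S.card_ker_mul g, mul_comm (Nat.card (disp W g).ker)] at h1
        exact Nat.le_of_mul_le_mul_right h1 Nat.card_pos
      refine le_trans ?_ hperp
      simp only [B, Finset.mem_filter, Finset.mem_erase] at hb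
      obtain ⟨⟨⟨hb1, -⟩, hbbig⟩, hbg⟩ := hb
      have hmem : ∀ a ∈ B.filter (fun a => D.π a = g), b⁻¹ * a ∈ Soc Z := fun a ha => by
        rw [← D.π_ker, MonoidHom.mem_ker, map_mul, map_inv, (Finset.mem_filter.1 ha).2, hbg, inv_mul_cancel]
      rw [← Nat.card_eq_finsetCard]
      refine Nat.card_le_card_of_injective (fun a => (⟨D.cl ⟨b⁻¹ * a, hmem a a.2⟩, fun y hy => ?_⟩ :
        D.S.perp (disp W g).ker)) fun a a' hh => ?_
      · obtain ⟨m, rfl⟩ := D.cl_surj y
        have hm : g • D.cl m = D.cl m := sub_eq_zero.1 hy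
        obtain ⟨⟨⟨ha1, -⟩, habig⟩, hag⟩ := (by
          simpa only [B, Finset.mem_filter, Finset.mem_erase] using a.2 :
          ((((a : A) ≠ 1) ∧ (a : A) ∈ Finset.univ) ∧ Nat.card V < Nat.card (fixS A V (a : A)) ^ 2) ∧ D.π a = g)
        have e1 := (T.big_props hexp D hb1 hbbig).2.2 m (by rw [hbg]; exact hm)
        have e2 := (T.big_props hexp D ha1 habig).2.2 m (by rw [hag]; exact hm)
        rw [D.form_iff, form_eq_one T.hι]
        change b⁻¹ * (a : A) * m = m * (b⁻¹ * a)
        rw [mul_assoc, e2, ← mul_assoc, ← mul_assoc]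
        congr 1
        rw [inv_mul_eq_iff_eq_mul, ← mul_assoc, e1, mul_inv_cancel_right]
      · have heq : D.cl ⟨b⁻¹ * a, hmem a a.2⟩ = D.cl ⟨b⁻¹ * a', hmem a' a'.2⟩ := congrArg Subtype.val hh
        by_contra hne
        have hz : (a : A)⁻¹ * a' ∈ Z := by
          have h0 : D.cl (⟨b⁻¹ * a, hmem a a.2⟩⁻¹ * ⟨b⁻¹ * a', hmem a' a'.2⟩) = 0 := by
            rw [D.cl_mul, ← heq, ← D.cl_mul, inv_mul_cancel]
            exact (D.cl_zero 1).2 (one_mem Z)
          have h1 := (D.cl_zero _).1 h0
          change (b⁻¹ * (a : A))⁻¹ * (b⁻¹ * a') ∈ Z at h1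
          rwa [mul_inv_rev, inv_inv, mul_assoc, mul_inv_cancel_left] at h1
        obtain ⟨⟨-, habig⟩, -⟩ := (by
          simpa only [B, Finset.mem_filter] using a.2 :
          (((a : A) ∈ Finset.univ.erase 1) ∧ Nat.card V < Nat.card (fixS A V (a : A)) ^ 2) ∧ D.π a = g)
        obtain ⟨⟨-, habig'⟩, -⟩ := (by
          simpa only [B, Finset.mem_filter] using a'.2 :
          (((a' : A) ∈ Finset.univ.erase 1) ∧ Nat.card V < Nat.card (fixS A V (a' : A)) ^ 2) ∧ D.π a' = g)
        have hle : Nat.card (fixS A V (a : A)) * Nat.card (fixS A V (a' : A)) ≤ Nat.card V := by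
          rw [← Nat.card_prod]
          refine Nat.card_le_card_of_injective (fun q => (q.1 : V) + (q.2 : V)) fun q q' hq => ?_
          have h1 : (q.1 : V) - q'.1 = (q'.2 : V) - q.2 := by
            rw [sub_eq_sub_iff_add_eq_add, add_comm (q'.2 : V)]; exact hq
          have hd0 : (q.1 : V) - q'.1 = 0 := by
            by_contra h0
            have e1 : (a : A) • ((q.1 : V) - q'.1) = (q.1 : V) - q'.1 := (sub_mem q.1.2 q'.1.2 :)
            have e2 : (a' : A) • ((q.1 : V) - q'.1) = (q.1 : V) - q'.1 := by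
              rw [h1]; exact (sub_mem q'.2.2 q.2.2 :)
            have h3 := T.eq_one_of_fix hz h0 (by rw [mul_smul, e2]; exact inv_smul_eq_iff.2 e1.symm)
            exact hne (Subtype.ext (inv_mul_eq_one.1 h3))
          rw [hd0] at h1
          exact Prod.ext (Subtype.ext (sub_eq_zero.1 hd0)) (Subtype.ext (sub_eq_zero.1 h1.symm).symm)
        have hh := Nat.mul_lt_mul'' habig habig'
        rw [← mul_pow, ← pow_two] at hh
        exact absurd (Nat.pow_le_pow_left hle 2) (not_le.2 hh)
    · rw [mul_comm I d]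
      exact Nat.mul_le_mul_left d hSg
  have hterm : ∀ a ∈ Finset.univ.erase (1 : A), Nat.card (fixS A V a) ^ 2 ≤
      Nat.card V + (if Nat.card V < Nat.card (fixS A V a) ^ 2 then Nat.card V * s else 0) := by
    intro a ha
    split_ifs with hb
    · exact (T.fix_le (Finset.ne_of_mem_erase ha) hs).trans (Nat.le_add_left _ _)
    · omega
  refine lt_of_le_of_lt (Finset.sum_le_sum hterm) ?_
  rw [Finset.sum_add_distrib, Finset.sum_const, smul_eq_mul, ← Finset.sum_filter, Finset.sum_const, smul_eq_mul]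
  have h1 : (Finset.univ.erase (1 : A)).card ≤ Nat.card A := by
    rw [Nat.card_eq_fintype_card]; exact Finset.card_le_univ _
  have hV : 0 < Nat.card V := Nat.card_pos
  calc _ ≤ Nat.card A * Nat.card V + I * d * (Nat.card V * s) :=
        Nat.add_le_add (Nat.mul_le_mul_right _ h1) (Nat.mul_le_mul_right _ hB)
    _ = (Nat.card A + I * d * s) * Nat.card V := by ring
    _ < Nat.card V * Nat.card V := Nat.mul_lt_mul_of_pos_right h hV
    _ = _ := (pow_two _).symm

end Cfsg.Lib.CoprimeBase
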