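import Cfsg.Agent.CoprimeBase.SympField
import Cfsg.Agent.OddBase.Primitive
import Cfsg.Agent.SolvBase.Lagrangian

/-!
Orders of irreducible solvable groups preserving an alternating form in dimension at most ten.
-/

set_option autoImplicit false
set_option linter.unusedSectionVars false

namespace Cfsg.Lib.CoprimeBase

open Cfsg.Lib.OddBase Cfsg.Lib.SolvBase

universe u

variable {R W : Type u} [Group R] [Finite R] [Group.IsSolvable R] [AddCommGroup W] [Finite W]
  [DistribMulAction R W] [FaithfulSMul R W] [Nontrivial W]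

/-- An irreducible group on a large module is non-trivial. -/
theorem exists_abelian_ne_bot (hirr : Irr R W) (hexp : ∀ x : W, 2 • x = 0) (h3 : 3 ≤ Nat.card W) :
    ∃ Z : Subgroup R, Z.Normal ∧ IsMulCommutative Z ∧ MaxAbelian Z ∧ Z ≠ ⊥ := by
  obtain ⟨Z, hZn, hZc, hmax⟩ := exists_maxAbelian (A := R)
  refine ⟨Z, hZn, hZc, hmax, fun hZ => ?_⟩
  rcases subsingleton_or_nontrivial R with hR | hR
  · obtain ⟨x, hx⟩ := exists_ne (0 : W)
    rcases hirr (AddSubgroup.zmultiples x) (fun a v hv => by
      rw [Subsingleton.elim a 1, one_smul]; exact hv) with h | h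
    · exact hx (AddSubgroup.mem_bot.1 (h ▸ AddSubgroup.mem_zmultiples x))
    · have h1 : Nat.card (AddSubgroup.zmultiples x) = addOrderOf x := Nat.card_zmultiples x
      rw [h, AddSubgroup.card_top] at h1
      have h2 := Nat.le_of_dvd (by norm_num) (addOrderOf_dvd_of_nsmul_eq_zero (hexp x))
      omega
  · obtain ⟨D, hD, hDne, hDc⟩ := exists_abelian_normal (X := R)
    exact hDne ((hmax D hD hDc (hZ ▸ bot_le)).trans hZ)

variable {Z : Subgroup R} [Z.Normal] [IsMulCommutative Z] {K : Type u} [Field K] [Finite K] [Module K W]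

/-- On a line the centraliser is the abelian subgroup. -/
theorem centralizer_le_of_line (hmax : MaxAbelian Z)
    (hlin : ∀ g ∈ Subgroup.centralizer (Z : Set R), ∀ (c : K) (v : W), g • (c • v) = c • (g • v))
    (hd : Module.finrank K W = 1) : Subgroup.centralizer (Z : Set R) ≤ Z := by
  obtain ⟨u, hu⟩ := exists_ne (0 : W)
  have hline : ∀ w : W, ∃ c : K, c • u = w := fun w => (finrank_eq_one_iff_of_nonzero' u hu).1 hd w
  refine (hmax _ inferInstance ⟨⟨fun x y => Subtype.ext (eq_of_smul_eq_smul fun w : W => ?_)⟩⟩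
    (self_le_centralizer Z)).le
  obtain ⟨a, ha⟩ := hline ((x : R) • u)
  obtain ⟨b, hb⟩ := hline ((y : R) • u)
  obtain ⟨c, rfl⟩ := hline w
  simp only [Subgroup.coe_mul, mul_smul]
  rw [hlin _ y.2, hlin _ x.2 c, ← hb, hlin _ x.2 b, ← ha, hlin _ x.2 c, hlin _ y.2 c, ← ha, hlin _ y.2 a,
    ← hb, smul_comm a b]

/-- The degree of the socle divides the dimension. -/
theorem socle_degree_dvd (hlin : ∀ g ∈ Subgroup.centralizer (Z : Set R), ∀ (c : K) (v : W),
      g • (c • v) = c • (g • v)) {ι : Z →* Kˣ} (hι : Function.Injective ι)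
    (hιv : ∀ (z : Z) (v : W), ((ι z : Kˣ) : K) • v = (z : R) • v) (hmax : MaxAbelian Z)
    (hne : ¬ Subgroup.centralizer (Z : Set R) ≤ Z) {r : ℕ}
    (hr : Z.relIndex (socle Z (Subgroup.centralizer (Z : Set R))) = r * r) :
    r ∣ Module.finrank K W := by
  classical
  set L := socle Z (Subgroup.centralizer (Z : Set R)) with hL
  have hcommL : ∀ (l : L) (c : K) (v : W), l • (c • v) = c • (l • v) := fun l => hlin _ (socle_le Z _ l.2)
  have hZL : Z ≤ L := (exists_socle hne).le
  have hscal : ∀ l : L, (l : R) ∈ Z ↔ Scal K W (l : L) := by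
    intro l
    constructor
    · intro h
      exact ⟨(ι ⟨l, h⟩ : Kˣ), fun v => (hιv ⟨l, h⟩ v).symm⟩
    · rintro ⟨c, hc⟩
      refine (socle_center hmax hne).le ⟨l.2, Subgroup.mem_centralizer_iff.2 fun m hm => ?_⟩
      refine eq_of_smul_eq_smul fun v : W => ?_
      have hc' : ∀ w : W, (l : R) • w = c • w := hc
      rw [mul_smul, mul_smul, hc', hc', hlin m (socle_le Z _ hm)]
  obtain ⟨n, φ, hφ, hn, -, hn1⟩ := exists_matrix_hom hcommL (⊤ : Subgroup L)
    (fun l _ m _ => by
      have h : (m : R) * l * (m : R)⁻¹ * (l : R)⁻¹ ∈ Z :=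
        socle_comm (Subgroup.commutator_mem_commutator m.2 l.2)
      refine ⟨(ι ⟨_, h⟩ : Kˣ), fun v => ?_⟩
      change (m : R) • (l : R) • v = _
      change _ = ((ι ⟨_, h⟩ : Kˣ) : K) • ((l : R) • (m : R) • v)
      rw [hιv, ← mul_smul, ← mul_smul, ← mul_smul]
      congr 1
      group)
    (fun l _ h => (hscal l).1 ((socle_center hmax hne).le ⟨l.2, Subgroup.mem_centralizer_iff.2 fun m hm =>
      eq_of_smul_eq_smul fun v : W => by
        rw [mul_smul, mul_smul]; exact h ⟨m, hm⟩ (Subgroup.mem_top _) v⟩))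
    ((Z.subgroupOf L).subgroupOf ⊤) (fun l => hscal (l : L))
  obtain ⟨d, -, -, hdim, -⟩ := exists_centralizer_hom hn1 φ
  have hn' : n * n = r * r := by
    rw [hn, ← hr]
    change (Z.subgroupOf L).relIndex ⊤ = (Z.subgroupOf L).index
    exact Subgroup.relIndex_top_right _
  rw [← Nat.mul_self_inj.1 hn', hdim]
  exact dvd_mul_right n d

/-- The centraliser when the socle has order twenty-seven. -/
theorem centralizer_card_le {ι : Z →* Kˣ} (hι : Function.Injective ι) (hmax : MaxAbelian Z)
    (hne : ¬ Subgroup.centralizer (Z : Set R) ≤ Z) (hZ3 : Nat.card Z = 3)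
    (hr : Z.relIndex (socle Z (Subgroup.centralizer (Z : Set R))) = 3 * 3) :
    Nat.card (Subgroup.centralizer (Z : Set R)) ≤ 648 := by
  classical
  set C := Subgroup.centralizer (Z : Set R) with hC
  set L := socle Z C with hL
  have hZL : Z ≤ L := (exists_socle hne).le
  have hL27 : Nat.card L = 27 := by
    rw [← Subgroup.card_mul_index (Z.subgroupOf L), Nat.card_congr (Subgroup.subgroupOfEquivOfLe hZL).toEquiv,
      hZ3]
    change 3 * Z.relIndex L = 27
    rw [hr]
  obtain ⟨x, hx⟩ : ∃ x : L, (x : R) ∉ Z := by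
    by_contra hall
    push Not at hall
    exact not_le_of_gt (exists_socle hne) fun l hl => hall ⟨l, hl⟩
  obtain ⟨y, hy⟩ : ∃ y : L, form ι x y ≠ 1 := by
    by_contra hall
    push Not at hall
    exact hx (soc_mem_center hι hmax hne x hall)
  set w := form ι x y with hw
  have hconj : ∀ (c : R), c ∈ C → ∀ l m : L,
      form ι ⟨c * l * c⁻¹, (socle_normal Z C).conj_mem _ l.2 c⟩
        ⟨c * m * c⁻¹, (socle_normal Z C).conj_mem _ m.2 c⟩ = form ι l m := by
    intro c hc l m
    rw [form, form]
    congr 1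
    apply Subtype.ext
    have h : (l : R) * m * (l : R)⁻¹ * (m : R)⁻¹ ∈ Z :=
      socle_comm (Subgroup.commutator_mem_commutator l.2 m.2)
    have hcc := Subgroup.mem_centralizer_iff.1 hc _ h
    calc c * ↑l * c⁻¹ * (c * ↑m * c⁻¹) * (c * ↑l * c⁻¹)⁻¹ * (c * ↑m * c⁻¹)⁻¹
        = c * ((l : R) * m * (l : R)⁻¹ * (m : R)⁻¹) * c⁻¹ := by group
      _ = (l : R) * m * (l : R)⁻¹ * (m : R)⁻¹ := by rw [← hcc, mul_inv_cancel_right]
  let P := {q : L × L // form ι q.1 q.2 = w}
  haveI : Nonempty C := ⟨1⟩
  let F : C → P := fun c => ⟨(⟨_, (socle_normal Z C).conj_mem _ x.2 c⟩,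
    ⟨_, (socle_normal Z C).conj_mem _ y.2 c⟩), hconj c c.2 x y⟩
  have hfib : ∀ c c' : C, F c = F c' → ((c : R)⁻¹ * c') ∈ Z := by
    intro c c' h
    have h1 : (c : R) * x * (c : R)⁻¹ = c' * x * (c' : R)⁻¹ :=
      congrArg (fun q : P => (q.1.1 : R)) h
    have h2 : (c : R) * y * (c : R)⁻¹ = c' * y * (c' : R)⁻¹ :=
      congrArg (fun q : P => (q.1.2 : R)) h
    set u := (c : R)⁻¹ * c' with hu
    have huC : u ∈ C := mul_mem (inv_mem c.2) c'.2
    let H : Subgroup L := (Subgroup.centralizer ({u} : Set R)).subgroupOf L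
    have hmemH : ∀ l : L, (c : R) * l * (c : R)⁻¹ = c' * l * (c' : R)⁻¹ → l ∈ H := by
      intro l hl
      rw [Subgroup.mem_subgroupOf, Subgroup.mem_centralizer_singleton_iff, hu]
      calc (l : R) * ((c : R)⁻¹ * c') = (c : R)⁻¹ * ((c : R) * l * (c : R)⁻¹) * c' := by group
        _ = (c : R)⁻¹ * c' * l := by rw [hl]; group
    let H1 : Subgroup L := Z.subgroupOf L ⊔ Subgroup.zpowers x
    have hZH : Z.subgroupOf L ≤ H := fun l hl => by
      rw [Subgroup.mem_subgroupOf, Subgroup.mem_centralizer_singleton_iff]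
      exact Subgroup.mem_centralizer_iff.1 huC _ hl
    have hH1 : H1 ≤ H := sup_le hZH (Subgroup.zpowers_le.2 (hmemH x h1))
    have hyH1 : y ∉ H1 := by
      intro hy1
      refine hy ?_
      let ker : Subgroup L := ((formHom ι) x).ker
      have hle : H1 ≤ ker := sup_le (fun l hl => (form_eq_one hι x l).2 (socle_central x.2 hl).symm)
        (Subgroup.zpowers_le.2 ((form_eq_one hι x x).2 rfl))
      exact hle hy1
    have hlt1 : Z.subgroupOf L < H1 := lt_of_le_of_ne le_sup_left fun he =>
      hx (he.ge (Subgroup.mem_sup_right (Subgroup.mem_zpowers x)) :)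
    have hlt2 : H1 < H := lt_of_le_of_ne hH1 fun he => hyH1 (he.ge (hmemH y h2))
    have hcZ : Nat.card (Z.subgroupOf L) = 3 := by
      rw [Nat.card_congr (Subgroup.subgroupOfEquivOfLe hZL).toEquiv, hZ3]
    have hd1 := H1.card_subgroup_dvd_card
    have hd2 := H.card_subgroup_dvd_card
    rw [hL27] at hd1 hd2
    have hcl : ∀ {a b : Subgroup L}, a < b → Nat.card a < Nat.card b := fun h =>
      lt_of_le_of_ne (Subgroup.card_le_of_le h.le) fun he => h.ne (Subgroup.eq_of_le_of_card_ge h.le he.ge)
    have hl1 := hcl hlt1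
    have hl2 := hcl hlt2
    have hH : H = ⊤ := by
      refine Subgroup.eq_top_of_card_eq _ ?_
      rw [hL27]
      obtain ⟨e1, -, f1⟩ := (Nat.dvd_prime_pow Nat.prime_three).1 (show Nat.card H1 ∣ 3 ^ 3 from hd1)
      obtain ⟨e2, he2, f2⟩ := (Nat.dvd_prime_pow Nat.prime_three).1 (show Nat.card H ∣ 3 ^ 3 from hd2)
      rw [hcZ] at hl1
      rw [f1] at hl1 hl2
      rw [f2] at hl2 ⊢
      have g1 : 1 < e1 := (Nat.pow_lt_pow_iff_right (by norm_num : 1 < 3)).1 (by simpa using hl1)
      have g2 : e1 < e2 := (Nat.pow_lt_pow_iff_right (by norm_num : 1 < 3)).1 hl2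
      rw [show e2 = 3 by omega]; norm_num
    refine centralizer_socle hmax hne huC (Subgroup.mem_centralizer_iff.2 fun m hm => ?_)
    have hm' : (⟨m, hm⟩ : L) ∈ H := hH ▸ Subgroup.mem_top _
    rw [Subgroup.mem_subgroupOf, Subgroup.mem_centralizer_singleton_iff] at hm'
    exact hm'
  have hPC : Nat.card C ≤ Nat.card P * Nat.card Z := by
    rw [← Nat.card_prod]
    have hg : ∀ c, F (Function.invFun F (F c)) = F c := fun c => Function.invFun_eq ⟨c, rfl⟩
    refine Nat.card_le_card_of_injective (fun c => (F c,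
      (⟨((Function.invFun F (F c) : C) : R)⁻¹ * c, hfib _ c (hg c)⟩ : Z))) fun c c' h => ?_
    simp only [Prod.mk.injEq, Subtype.mk.injEq] at h
    obtain ⟨h1, h2⟩ := h
    rw [h1] at h2
    exact Subtype.ext (mul_left_cancel h2)
  have hP : Nat.card P ≤ 216 := by
    haveI := Fintype.ofFinite L
    have hfibre : ∀ X : L, (Finset.univ.filter fun Y : L => form ι X Y = w).card ≤ 9 := by
      intro X
      rcases (Finset.univ.filter fun Y : L => form ι X Y = w).eq_empty_or_nonempty with h | ⟨Y0, hY0⟩
      · rw [h]; simp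
      rw [Finset.mem_filter] at hY0
      let χ : L →* Kˣ := (formHom ι) X
      have hχ : ∀ Y, χ Y = form ι X Y := fun Y => rfl
      have h1 : Nat.card χ.ker * χ.ker.index = 27 := hL27 ▸ χ.ker.card_mul_index
      have h2 : χ.ker.index ≠ 1 := by
        intro h
        rw [Subgroup.index_eq_one] at h
        exact hy (hw ▸ hY0.2.symm.trans ((hχ Y0).symm.trans (h ▸ Subgroup.mem_top Y0 : Y0 ∈ χ.ker)))
      have h3 : Nat.card χ.ker ≤ 9 := by
        obtain ⟨e, he, hek⟩ := (Nat.dvd_prime_pow Nat.prime_three).1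
          (show Nat.card χ.ker ∣ 3 ^ 3 from Dvd.intro _ h1)
        rcases Nat.lt_or_ge e 3 with h | h
        · rw [hek]; exact le_trans (Nat.pow_le_pow_right (by norm_num) (by omega : e ≤ 2)) (by norm_num)
        · rw [hek, show e = 3 by omega] at h1
          omega
      refine le_trans ?_ h3
      rw [← Fintype.card_subtype, ← Nat.card_eq_fintype_card]
      refine Nat.card_le_card_of_injective (fun Y => (⟨Y0⁻¹ * Y.1, ?_⟩ : χ.ker)) ?_
      · rw [MonoidHom.mem_ker, map_mul, map_inv, hχ, hχ, hY0.2, Y.2, inv_mul_cancel]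
      · intro Y Y' h
        exact Subtype.ext (mul_left_cancel (congrArg Subtype.val h))
    let T := Finset.univ.filter fun X : L => (X : R) ∉ Z
    have hT : T.card ≤ 24 := by
      have h1 := Finset.card_filter_add_card_filter_not (s := (Finset.univ : Finset L))
        (fun X : L => (X : R) ∈ Z)
      have h2 : (Finset.univ.filter fun X : L => (X : R) ∈ Z).card = 3 := by
        rw [← Fintype.card_subtype, ← Nat.card_eq_fintype_card, ← hZ3]
        exact Nat.card_congr (Subgroup.subgroupOfEquivOfLe hZL).toEquiv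
      rw [Finset.card_univ, ← Nat.card_eq_fintype_card, hL27, h2] at h1
      change (Finset.univ.filter fun X : L => (X : R) ∉ Z).card ≤ 24
      omega
    rw [Nat.card_eq_fintype_card, Fintype.card_subtype]
    rw [Finset.card_eq_sum_card_fiberwise (f := Prod.fst) (t := T) ?_]
    · refine le_trans (Finset.sum_le_card_nsmul _ _ 9 fun X _ => ?_) ?_
      · refine le_trans (Finset.card_le_card_of_injOn Prod.snd ?_ ?_) (hfibre X)
        · intro q hq
          simp only [Finset.coe_filter, Finset.mem_filter, Finset.mem_univ, true_and, Set.mem_setOf_eq] at hq ⊢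
          rw [← hq.2]; exact hq.1
        · intro q hq q' hq' h
          simp only [Finset.coe_filter, Finset.mem_filter, Finset.mem_univ, true_and, Set.mem_setOf_eq] at hq hq'
          exact Prod.ext (hq.2.trans hq'.2.symm) h
      · rw [smul_eq_mul]; omega
    · intro q hq
      simp only [Finset.coe_filter, Finset.mem_univ, true_and, Set.mem_setOf_eq, T] at hq ⊢
      intro hZ'
      exact hy (hw ▸ hq.symm.trans ((form_eq_one hι q.1 q.2).2 (socle_central q.2.2 hZ')))
  exact hPC.trans ((Nat.mul_le_mul hP hZ3.le).trans (by norm_num))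

/-- Few special elements in dimension three over four elements. -/
theorem Symp.special_le (S : Symp R W) (hirr : Irr R W) (hZ3 : Nat.card Z = 3) (hcard : Nat.card W = 4 ^ 3)
    (hK4 : Nat.card K = 4) {ι : Z →* Kˣ} (hι : Function.Injective ι)
    (hιv : ∀ (z : Z) (v : W), ((ι z : Kˣ) : K) • v = (z : R) • v) {σ : R →* RingAut K}
    (hσ : σ.ker = Subgroup.centralizer (Z : Set R))
    (hsemi : ∀ (g : R) (c : K) (v : W), g • (c • v) = σ g c • (g • v)) :
    {g : R | S.Special g ∧ g ≠ 1}.ncard ≤ 21 := by
  classical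
  have hZ1 : Z ≠ ⊥ := fun h => by rw [h, Subgroup.card_bot] at hZ3; omega
  have hr : ∀ g : R, S.Special g → g ≠ 1 → Nat.card (disp W g).range = 4 := by
    intro g hg hg1
    have h1 : Nat.card (disp W g).range ≠ 1 := fun h => hg1 (eq_of_smul_eq_smul fun x : W => by
      have hb := AddSubgroup.eq_bot_of_card_eq _ h
      have hx : disp W g x ∈ (disp W g).range := ⟨x, rfl⟩
      rw [hb, AddSubgroup.mem_bot, disp_apply, sub_eq_zero] at hx
      rw [hx, one_smul])
    have h2 := hg.card_sq_le
    rw [hcard] at h2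
    obtain ⟨h3, h4⟩ := hg.card_range
    obtain ⟨e, -, he⟩ := (Nat.dvd_prime_pow Nat.prime_two).1
      (show Nat.card (disp W g).range ∣ 2 ^ 6 from by
        rw [show 2 ^ 6 = Nat.card W by rw [hcard]; norm_num]; exact AddSubgroup.card_addSubgroup_dvd_card _)
    have h5 : Nat.card (disp W g).range ≤ 8 := by
      by_contra hc
      have := Nat.mul_le_mul (show 9 ≤ Nat.card (disp W g).range by omega)
        (show 9 ≤ Nat.card (disp W g).range by omega)
      omega
    have he3 : e ≤ 3 := by
      by_contra hc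
      have := Nat.pow_le_pow_right (n := 2) (by norm_num) (show 4 ≤ e by omega)
      omega
    interval_cases e <;> omega
  have hkerc : ∀ g : R, S.Special g → g ≠ 1 → Nat.card (disp W g).ker = 16 := by
    intro g hg hg1
    have := S.card_ker_mul g
    rw [hr g hg hg1, hcard] at this
    omega
  obtain ⟨c0, hc0, hc1⟩ : ∃ c : K, c ≠ 0 ∧ c ≠ 1 := by
    haveI := Fintype.ofFinite K
    by_contra hall
    push Not at hall
    have h : (Finset.univ : Finset K) ⊆ {0, 1} := fun x _ => by
      rcases eq_or_ne x 0 with h | h <;> simp [h, hall x]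
    have h2 := (Finset.card_le_card h).trans Finset.card_le_two
    rw [Finset.card_univ, ← Nat.card_eq_fintype_card, hK4] at h2
    omega
  obtain ⟨u0, hu0⟩ := exists_ne (0 : W)
  have hall4 : ∀ x : K, x = 0 ∨ x = 1 ∨ x = c0 ∨ x = 1 + c0 := by
    haveI := Fintype.ofFinite K
    have hone : (1 : K) + c0 ≠ 0 ∧ (1 : K) + c0 ≠ 1 ∧ (1 : K) + c0 ≠ c0 := by
      refine ⟨fun h => hc1 ?_, fun h => hc0 (by linear_combination h), fun h => one_ne_zero (by linear_combination h)⟩
      have h2 : (1 : K) + 1 = 0 := smul_left_injective K hu0 (by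
        change ((1 : K) + 1) • u0 = (0 : K) • u0
        rw [add_smul, one_smul, zero_smul]; exact S.add_self u0)
      linear_combination h - h2
    have hcd : ({0, 1, c0, 1 + c0} : Finset K) = Finset.univ := by
      refine Finset.eq_univ_of_card _ ?_
      rw [← Nat.card_eq_fintype_card, hK4]
      rw [Finset.card_insert_of_notMem (by simp [hc0.symm, hone.1.symm]),
        Finset.card_insert_of_notMem (by simp [hc1.symm, hone.2.1.symm]),
        Finset.card_pair hone.2.2.symm]
    intro x
    have hx := Finset.mem_univ x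
    rw [← hcd] at hx
    simpa using hx
  have hCg : ∀ g : R, S.Special g → g ≠ 1 → σ g = 1 := by
    intro g hg hg1
    by_contra hne
    have hkk : ∀ x : K, σ g x = x → x = 0 ∨ x = 1 := by
      intro x hx
      rcases hall4 x with h | h | h | h
      · exact Or.inl h
      · exact Or.inr h
      all_goals
        exfalso
        refine hne (RingEquiv.ext fun t => ?_)
        change σ g t = t
        have hc : σ g c0 = c0 := by
          subst h
          first
            | exact hx
            | (rw [map_add, map_one, add_right_inj] at hx; exact hx)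
        rcases hall4 t with rfl | rfl | rfl | rfl <;> simp [map_add, hc]
    set P := (disp W g).ker
    have hP : ∀ x ∈ P, g • x = x := fun x hx => sub_eq_zero.1 hx
    have hPP : ∀ x ∈ P, c0 • x ∈ P → x = 0 := by
      intro x hx hcx
      by_contra hx0
      have h := hP _ hcx
      rw [hsemi, hP x hx] at h
      rcases hkk c0 (smul_left_injective K hx0 h) with h | h
      · exact hc0 h
      · exact hc1 h
    have hinj : Nat.card (P × P) ≤ Nat.card W := by
      refine Nat.card_le_card_of_injective (fun q => (q.1 : W) + c0 • (q.2 : W)) fun q q' h => ?_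
      have h1 : c0 • ((q.2 : W) - q'.2) = (q'.1 : W) - q.1 := by
        rw [smul_sub, sub_eq_sub_iff_add_eq_add, add_comm, add_comm (q'.1 : W)]
        simpa only [add_comm] using h
      have h2 := hPP _ (sub_mem q.2.2 q'.2.2) (h1 ▸ sub_mem q'.1.2 q.1.2)
      rw [h2, smul_zero] at h1
      exact Prod.ext (Subtype.ext (sub_eq_zero.1 h1.symm).symm) (Subtype.ext (sub_eq_zero.1 h2))
    rw [Nat.card_prod, hkerc g hg hg1, hcard] at hinj
    omega
  have hline : ∀ g : R, S.Special g → g ≠ 1 → ∀ v ∈ (disp W g).range, v ≠ 0 → ∀ x ∈ (disp W g).range,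
      ∃ c : K, c • v = x := by
    intro g hg hg1 v hv hv0 x hx
    have hcl : ∀ c : K, c • v ∈ (disp W g).range := by
      obtain ⟨z, rfl⟩ := hv
      intro c
      refine ⟨c • z, ?_⟩
      rw [disp_apply, disp_apply, hsemi, hCg g hg hg1, smul_sub]; rfl
    let f : K → (disp W g).range := fun c => ⟨c • v, hcl c⟩
    have hf : Function.Injective f := fun a b h => smul_left_injective K hv0 (congrArg Subtype.val h)
    obtain ⟨c, hc⟩ := (hf.bijective_of_nat_card_le (by rw [hr g hg hg1, hK4])).2 ⟨x, hx⟩
    exact ⟨c, congrArg Subtype.val hc⟩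
  have huniq : ∀ g g' : R, S.Special g → g ≠ 1 → S.Special g' → g' ≠ 1 →
      (disp W g).range = (disp W g').range → g = g' := by
    intro g g' hg hg1 hg' hg1' hX
    have hker : ∀ {g : R}, S.Special g → g ≠ 1 → (disp W g).ker = S.perp (disp W g).range := by
      intro g hg hg1
      refine AddSubgroup.eq_of_le_of_card_ge hg.range_le_perp ?_
      have h1 := S.card_perp_le (disp W g).range
      rw [hr g hg hg1, hcard] at h1
      rw [hkerc g hg hg1]
      omega
    have hkk : (disp W g).ker = (disp W g').ker := by rw [hker hg hg1, hker hg' hg1', hX]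
    have hiff : ∀ {g : R}, S.Special g → g ≠ 1 → ∀ x y,
        S.form g x y = 1 ↔ (x ∉ (disp W g).ker ∧ y ∉ (disp W g).ker ∧ x - y ∉ (disp W g).ker) := by
      intro g hg hg1 x y
      constructor
      · intro h
        refine ⟨fun hx => ?_, fun hy => ?_, fun hxy => ?_⟩
        · rw [hg.form_symm, S.form_eq_zero_of_ker g hx] at h
          exact one_ne_zero h.symm
        · rw [S.form_eq_zero_of_ker g hy] at h
          exact one_ne_zero h.symm
        · have h0 := S.form_eq_zero_of_ker g hxy y
          rw [hg.form_symm, sub_eq_add_neg, show -y = y from neg_eq_of_add_eq_zero_right (S.add_self y),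
            S.form_add_left, hg.form_self, add_zero, h] at h0
          exact one_ne_zero h0
      · rintro ⟨hx, hy, hxy⟩
        by_contra hne
        have h0 := (zmod_two_cases _).resolve_right hne
        refine hy (S.mem_ker_of_form fun z => ?_)
        -- the quotient has four classes
        set P := (disp W g).ker with hP
        have hc4 : Nat.card (W ⧸ P) = 4 := by
          rw [← AddSubgroup.index_eq_card, hP, AddSubgroup.index_ker, hr g hg hg1]
        haveI := Fintype.ofFinite (W ⧸ P)
        have hd : ∀ a b : W, (a : W ⧸ P) = (b : W ⧸ P) ↔ a - b ∈ P := fun a b => by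
          rw [QuotientAddGroup.eq_iff_sub_mem]
        have hadd : x + y ∉ P := by
          rwa [← show x - y = x + y by rw [sub_eq_add_neg, neg_eq_of_add_eq_zero_right (S.add_self y)]]
        have hset : ({((0 : W) : W ⧸ P), (x : W ⧸ P), (y : W ⧸ P), ((x + y : W) : W ⧸ P)} : Finset (W ⧸ P)) =
            Finset.univ := by
          refine Finset.eq_univ_of_card _ ?_
          rw [← Nat.card_eq_fintype_card, hc4]
          rw [Finset.card_insert_of_notMem, Finset.card_insert_of_notMem, Finset.card_pair]
          · rw [Ne, hd, sub_add_cancel_right]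
            exact fun h => hx (by simpa using h)
          · simp only [Finset.mem_insert, Finset.mem_singleton, not_or, hd, sub_add_cancel_left]
            exact ⟨hxy, fun h => hy (by simpa using h)⟩
          · simp only [Finset.mem_insert, Finset.mem_singleton, not_or, hd, zero_sub, neg_mem_iff]
            exact ⟨hx, hy, hadd⟩
        have hz := Finset.mem_univ (z : W ⧸ P)
        rw [← hset] at hz
        simp only [Finset.mem_insert, Finset.mem_singleton, hd] at hz
        have key : ∀ t : W, z - t ∈ P → S.form g t y = 0 → S.form g z y = 0 := by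
          intro t hzt ht
          rw [← sub_add_cancel z t, S.form_add_left, ht, add_zero, hg.form_symm]
          exact S.form_eq_zero_of_ker g hzt y
        rcases hz with hz | hz | hz | hz
        · exact key 0 hz (by rw [Symp.form, map_zero, AddMonoidHom.zero_apply])
        · exact key x hz h0
        · exact key y hz (hg.form_self y)
        · exact key (x + y) hz (by rw [S.form_add_left, h0, hg.form_self, add_zero])
    refine eq_of_smul_eq_smul fun y : W => ?_
    have h1 : disp W g y = disp W g' y := by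
      refine S.eq_of_forall fun x => ?_
      have h2 := hiff hg hg1 x y
      rw [hkk, ← hiff hg' hg1' x y] at h2
      rcases zmod_two_cases (S.form g x y) with e | e
      · rcases zmod_two_cases (S.form g' x y) with e' | e'
        · exact e.trans e'.symm
        · exact absurd (e.symm.trans (h2.2 e')) zero_ne_one
      · exact e.trans (h2.1 e).symm
    rw [disp_apply, disp_apply] at h1
    exact sub_left_injective h1
  set T := {g : R | S.Special g ∧ g ≠ 1}
  haveI : Finite T := Subtype.finite
  have hcount : Nat.card (Σ g : T, {v : (disp W (g : R)).range // v ≠ 0}) ≤ Nat.card {w : W // w ≠ 0} := by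
    refine Nat.card_le_card_of_injective
      (fun q => ⟨((q.2.1 : (disp W (q.1 : R)).range) : W), fun h => q.2.2 (Subtype.ext h)⟩) ?_
    rintro ⟨g, v⟩ ⟨g', v'⟩ h
    have hv : ((v.1 : (disp W (g : R)).range) : W) = ((v'.1 : (disp W (g' : R)).range) : W) :=
      congrArg Subtype.val h
    have hgg : g = g' := by
      refine Subtype.ext (huniq _ _ g.2.1 g.2.2 g'.2.1 g'.2.2 ?_)
      refine AddSubgroup.eq_of_le_of_card_ge (fun x hx => ?_) (by
        rw [hr _ g.2.1 g.2.2, hr _ g'.2.1 g'.2.2])
      obtain ⟨c, rfl⟩ := hline _ g.2.1 g.2.2 _ v.1.2 (fun h0 => v.2 (Subtype.ext h0)) x hx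
      obtain ⟨z, hz⟩ := v'.1.2
      refine ⟨c • z, ?_⟩
      rw [disp_apply] at hz ⊢
      rw [hsemi, hCg _ g'.2.1 g'.2.2, hv, ← hz, smul_sub]; rfl
    subst hgg
    rw [show v = v' from Subtype.ext (Subtype.ext hv)]
  haveI := Fintype.ofFinite T
  rw [Nat.card_sigma] at hcount
  have h3 : ∀ g : T, Nat.card {v : (disp W (g : R)).range // v ≠ 0} = 3 := by
    intro g
    haveI := Fintype.ofFinite (disp W (g : R)).range
    rw [Nat.card_eq_fintype_card, Fintype.card_subtype_compl, Fintype.card_subtype_eq,
      ← Nat.card_eq_fintype_card, hr _ g.2.1 g.2.2]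
  have hW0 : Nat.card {w : W // w ≠ 0} = 63 := by
    haveI := Fintype.ofFinite W
    rw [Nat.card_eq_fintype_card, Fintype.card_subtype_compl, Fintype.card_subtype_eq,
      ← Nat.card_eq_fintype_card, hcard]
    norm_num
  rw [Finset.sum_congr rfl (fun g _ => h3 g), Finset.sum_const, smul_eq_mul, hW0, Finset.card_univ,
    ← Nat.card_eq_fintype_card, Nat.card_coe_set_eq] at hcount
  omega

omit [Z.Normal] [IsMulCommutative Z] in
/-- The orders in dimensions four to ten. -/
theorem Symp.order_bounds (S : Symp R W) (hnp : S.NoParts) (hirr : Irr R W) {p : ℕ}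
    (hp : p = 3 ∨ p = 5) (hpR : ¬ p ∣ Nat.card R) {k : ℕ} (hk2 : 2 ≤ k) (hk5 : k ≤ 5)
    (hcard : Nat.card W = 4 ^ k) :
    (k = 2 → p = 3 ∧ Nat.card R ≤ 20 ∧ {g : R | S.Special g ∧ g ≠ 1}.ncard ≤ 5 ∧
      (∀ H : Subgroup R, ¬ 5 ∣ Nat.card H → IsCyclic H) ∧
      ∃ g : R, orderOf g = 5 ∧ ∀ w : W, g • w = w → w = 0) ∧
    (k = 3 → (p = 3 → Nat.card R ≤ 14) ∧
      (Nat.card R ≤ 54 ∨ (Nat.card R ≤ 1296 ∧ {g : R | S.Special g ∧ g ≠ 1}.ncard ≤ 21))) ∧
    (k = 4 → Nat.card R ≤ 200) ∧ (k = 5 → Nat.card R ≤ 330) := by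
  classical
  have h16 : 16 ≤ Nat.card W := by
    rw [hcard]; exact le_trans (by norm_num) (Nat.pow_le_pow_right (by norm_num) hk2)
  obtain ⟨Z, hZn, hZc, hmax, hZ1⟩ := exists_abelian_ne_bot hirr S.exp (by omega)
  haveI := hZn
  haveI := hZc
  have hpdvd : ∀ n, n ∣ Nat.card R → p ∣ n → False := fun n h1 h2 => hpR (h2.trans h1)
  by_cases hidem : ∀ e ∈ alg R W Z, e * e = e → e = 0 ∨ e = 1
  swap
  · -- two isotropic spaces
    push Not at hidem
    obtain ⟨e, he, hee, he0, he1⟩ := hidem
    obtain ⟨hk3, a, N, δ, ha, hN, hδ, hR⟩ := S.pair_case hnp hirr hZ1 he hee he0 he1 hk5 hcard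
    have hRb : Nat.card R ≤ 2 * ((2 ^ k - 1) * k) := by
      rw [hR]
      refine Nat.mul_le_mul ha (Nat.mul_le_mul (Nat.le_of_dvd ?_ hN) (Nat.le_of_dvd (by omega) hδ))
      have := Nat.one_lt_two_pow (show k ≠ 0 by omega)
      omega
    refine ⟨fun h => by omega, fun h => ⟨fun h3 => ?_, Or.inl ?_⟩, fun h => ?_, fun h => ?_⟩ <;>
      subst h
    · subst h3
      rw [hR]
      have hN7 : N ≤ 7 := Nat.le_of_dvd (by norm_num) hN
      have hδ1 : δ = 1 := by
        rcases (Nat.dvd_prime Nat.prime_three).1 hδ with h | h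
        · exact h
        · exact (hpR (by rw [hR, h]; exact Dvd.intro (a * N) (by ring))).elim
      subst hδ1
      calc a * (N * 1) ≤ 2 * (7 * 1) := Nat.mul_le_mul ha (Nat.mul_le_mul hN7 le_rfl)
        _ = 14 := rfl
    all_goals (norm_num at hRb; omega)
  -- the field
  have hf := alg_field hirr hidem
  obtain ⟨K, _, _, _, ι, σ, i, hι, hιv, hσ, hsemi, hi1, hK, hki, hZdvd⟩ := S.field_data hirr hZ1 hf hcard
  have hlin : ∀ g ∈ Subgroup.centralizer (Z : Set R), ∀ (c : K) (v : W), g • (c • v) = c • (g • v) := by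
    intro g hg c v
    rw [hsemi, MonoidHom.mem_ker.1 (hσ.ge hg)]; rfl
  haveI : Fact (Nat.Prime 2) := ⟨Nat.prime_two⟩
  have hKpow : Nat.card K = 2 ^ (2 * i) := by rw [hK, pow_mul]; norm_num
  obtain ⟨hcyc, hδdvd⟩ := ringAut_bound (p := 2) hKpow σ
  have hRcard : Nat.card R = Nat.card σ.ker * Nat.card σ.range := by
    rw [← Subgroup.index_ker, Subgroup.card_mul_index]
  have hd0 : 0 < Module.finrank K W := Module.finrank_pos
  have hZdR : Nat.card Z ∣ Nat.card R := Subgroup.card_subgroup_dvd_card Z
  have hZgt : 1 < Nat.card Z := (Subgroup.one_lt_card_iff_ne_bot _).2 hZ1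
  have hpZ : ¬ p ∣ Nat.card Z := fun h => hpdvd _ hZdR h
  by_cases hne : Subgroup.centralizer (Z : Set R) ≤ Z
  · -- the centraliser is abelian
    have hker : σ.ker = Z := by rw [hσ]; exact le_antisymm hne (self_le_centralizer Z)
    have hRb : Nat.card R ≤ Nat.card Z * (2 * i) := by
      rw [hRcard, hker]
      exact Nat.mul_le_mul_left _ (Nat.le_of_dvd (by omega) hδdvd)
    have hile : i ≤ k := Nat.le_of_dvd (by omega) (Dvd.intro _ hki.symm)
    have hZle : Nat.card Z ≤ 2 ^ i + 1 := Nat.le_of_dvd (by positivity) hZdvd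
    refine ⟨fun hk => ?_, fun hk => ?_, fun hk => ?_, fun hk => ?_⟩
    · subst hk
      have hi : i = 2 := by
        by_contra hne2
        obtain rfl : i = 1 := by omega
        have hZ3 : Nat.card Z = 3 := by
          rcases (Nat.dvd_prime Nat.prime_three).1 (by simpa using hZdvd) with h | h
          · omega
          · exact h
        -- every orbit lies in a line
        have hR6 : Nat.card R ∣ 6 := by
          rw [hRcard, hker, hZ3]
          exact Nat.mul_dvd_mul_left 3 (by simpa using hδdvd)
        obtain ⟨w, hw0, hw⟩ : ∃ w : W, w ≠ 0 ∧ ∀ g : R, ∃ c : K, g • w = c • w := by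
          have hZline : ∀ (z : R), z ∈ Z → ∀ w : W, ∃ c : K, z • w = c • w := fun z hz w =>
            ⟨(ι ⟨z, hz⟩ : Kˣ), (hιv ⟨z, hz⟩ w).symm⟩
          by_cases hall : ∀ g : R, g ∈ Z
          · obtain ⟨w, hw⟩ := exists_ne (0 : W)
            exact ⟨w, hw, fun g => hZline g (hall g) w⟩
          push Not at hall
          obtain ⟨g0, hg0⟩ := hall
          have h2R : 2 ∣ Nat.card R := by
            have h3R : 3 ∣ Nat.card R := hZ3 ▸ hZdR
            obtain ⟨c, hc⟩ := h3R
            have h6 := Nat.le_of_dvd (by norm_num) hR6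
            have hlt : Nat.card Z < Nat.card R := by
              refine lt_of_le_of_ne Z.card_le_card_group fun h => hg0 ?_
              rw [Subgroup.eq_top_of_card_eq Z h]; trivial
            omega
          obtain ⟨τ, hτ⟩ := exists_prime_orderOf_dvd_card' (G := R) 2 h2R
          have hτ2 : τ * τ = 1 := by rw [← pow_two, ← hτ, pow_orderOf_eq_one]
          have hτZ : τ ∉ Z := fun h => by
            have := orderOf_dvd_natCard (⟨τ, h⟩ : Z)
            rw [Subgroup.orderOf_mk, hτ, hZ3] at this
            omega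
          obtain ⟨w, hw0, hwfix⟩ : ∃ w : W, w ≠ 0 ∧ τ • w = w := by
            obtain ⟨x, hx⟩ := exists_ne (0 : W)
            by_cases h : τ • x = x
            · exact ⟨x, hx, h⟩
            · refine ⟨τ • x - x, sub_ne_zero.2 h, ?_⟩
              rw [smul_sub, ← mul_smul, hτ2, one_smul]
              calc x - τ • x = (x + x) - (τ • x + x) := by abel
                _ = τ • x - x := by
                  rw [S.add_self, zero_sub, neg_add', neg_eq_of_add_eq_zero_right (S.add_self _)]
          have hidx : Z.index = 2 := by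
            have h1 := Z.card_mul_index
            rw [hZ3] at h1
            have h2i : Z.index ∣ 2 := Nat.dvd_of_mul_dvd_mul_left (by norm_num)
              (h1.symm ▸ hR6 : 3 * Z.index ∣ 3 * 2)
            rcases (Nat.dvd_prime Nat.prime_two).1 h2i with h | h
            · exact absurd ((Subgroup.index_eq_one.1 h).symm ▸ Subgroup.mem_top g0) hg0
            · exact h
          refine ⟨w, hw0, fun g => ?_⟩
          by_cases hg : g ∈ Z
          · exact hZline g hg w
          · obtain ⟨c, hc⟩ := hZline _ ((Subgroup.mul_mem_iff_of_index_two hidx).2 (iff_of_false hg hτZ)) w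
            exact ⟨c, by rw [← hc, mul_smul, hwfix]⟩
        let U : AddSubgroup W :=
          { carrier := {x | ∃ c : K, c • w = x}
            zero_mem' := ⟨0, zero_smul K w⟩
            add_mem' := fun {a b} ha hb => by
              obtain ⟨c, rfl⟩ := ha
              obtain ⟨d, rfl⟩ := hb
              exact ⟨c + d, add_smul c d w⟩
            neg_mem' := fun {a} ha => by
              obtain ⟨c, rfl⟩ := ha
              exact ⟨-c, neg_smul c w⟩ }
        rcases hirr U (fun g v hv => by
          obtain ⟨c, rfl⟩ := hv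
          obtain ⟨d, hd⟩ := hw g
          exact ⟨σ g c * d, by rw [hsemi, hd, smul_smul]⟩) with hU | hU
        · exact hw0 (AddSubgroup.mem_bot.1 (hU ▸ (show w ∈ U from ⟨1, one_smul K w⟩)))
        · have hle : Nat.card W ≤ Nat.card K := Nat.card_le_card_of_surjective (fun c : K => c • w)
            fun x => (show x ∈ U from hU ▸ AddSubgroup.mem_top x)
          rw [hK] at hle
          omega
      subst hi
      have hZ5 : Nat.card Z = 5 := by
        rcases (Nat.dvd_prime (by norm_num : Nat.Prime 5)).1 (by simpa using hZdvd) with h | h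
        · omega
        · exact h
      have hδ4 : Nat.card σ.range ∣ 4 := by simpa using hδdvd
      refine ⟨?_, ?_, ?_, fun H hH => ?_, ?_⟩
      · rcases hp with h | h
        · exact h
        · exact absurd (h ▸ hZ5.symm.dvd) hpZ
      · rw [hRcard, hker, hZ5]
        have := Nat.le_of_dvd (by norm_num) hδ4
        omega
      · refine le_trans ?_ hZ5.le
        by_cases hT : {g : R | S.Special g ∧ g ≠ 1} = ∅
        · rw [hT]; simp
        obtain ⟨g0, hg0⟩ := Set.nonempty_iff_ne_empty.2 hT
        have hsq : ∀ g : R, S.Special g → g * g = 1 := fun g hg =>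
          eq_of_smul_eq_smul fun x : W => by rw [mul_smul, hg.1, one_smul]
        have hout : ∀ g : R, S.Special g → g ≠ 1 → σ g ≠ 1 := by
          intro g hg hg1 h
          have hgZ : g ∈ Z := hker ▸ MonoidHom.mem_ker.2 h
          refine hg1 ?_
          have h2 : orderOf g ∣ 2 := orderOf_dvd_of_pow_eq_one (by rw [pow_two]; exact hsq g hg)
          have h5 : orderOf g ∣ 5 := hZ5 ▸ Subgroup.orderOf_mk g hgZ ▸ orderOf_dvd_natCard _
          exact orderOf_eq_one_iff.1 (Nat.eq_one_of_dvd_coprimes (by norm_num) h2 h5)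
        haveI : Finite σ.range := Finite.of_surjective _ σ.rangeRestrict_surjective
        haveI := Fintype.ofFinite σ.range
        have hsame : ∀ g : R, S.Special g → g ≠ 1 → σ g = σ g0 := by
          intro g hg hg1
          by_contra hne2
          have hmem : ∀ h : R, S.Special h → σ.rangeRestrict h ∈
              (Finset.univ.filter fun q : σ.range => q ^ 2 = 1) := fun h hh => by
            rw [Finset.mem_filter, ← map_pow, pow_two, hsq h hh, map_one]
            exact ⟨Finset.mem_univ _, rfl⟩
          have hsub : ({1, σ.rangeRestrict g, σ.rangeRestrict g0} : Finset σ.range) ⊆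
              Finset.univ.filter fun q : σ.range => q ^ 2 = 1 := by
            intro q hq
            simp only [Finset.mem_insert, Finset.mem_singleton] at hq
            rcases hq with rfl | rfl | rfl
            · simp
            · exact hmem g hg
            · exact hmem g0 hg0.1
          have h3 := (Finset.card_le_card hsub).trans (IsCyclic.card_pow_eq_one_le (by norm_num))
          rw [Finset.card_eq_three.2 ⟨_, _, _, fun h => hout g hg hg1 (congrArg Subtype.val h.symm),
            fun h => hout g0 hg0.1 hg0.2 (congrArg Subtype.val h.symm),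
            fun h => hne2 (congrArg Subtype.val h), rfl⟩] at h3
          omega
        refine Set.ncard_le_ncard_of_injOn (fun g => g0⁻¹ * g) ?_
          (fun a _ b _ h => mul_left_cancel h) (Set.toFinite _) |>.trans
          (le_of_eq (Nat.card_coe_set_eq (Z : Set R)).symm)
        intro g hg
        change g0⁻¹ * g ∈ Z
        rw [← hker, MonoidHom.mem_ker, map_mul, map_inv, hsame g hg.1 hg.2, inv_mul_cancel]
      · haveI : IsCyclic σ.range := hcyc
        refine isCyclic_of_injective (σ.rangeRestrict.comp H.subtype)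
          ((injective_iff_map_eq_one _).2 fun h hh => ?_)
        have hhZ : (h : R) ∈ Z := hker ▸ MonoidHom.mem_ker.2 (congrArg Subtype.val hh)
        have h5 : orderOf h ∣ 5 := by
          rw [← Subgroup.orderOf_coe h, ← Subgroup.orderOf_mk (h : R) hhZ, ← hZ5]
          exact orderOf_dvd_natCard _
        rcases (Nat.dvd_prime (by norm_num : Nat.Prime 5)).1 h5 with h1 | h1
        · exact orderOf_eq_one_iff.1 h1
        · exact absurd (h1 ▸ orderOf_dvd_natCard h) hH
      · haveI : Fact (Nat.Prime 5) := ⟨by norm_num⟩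
        obtain ⟨z, hz⟩ := exists_prime_orderOf_dvd_card' (G := Z) 5 hZ5.symm.dvd
        refine ⟨z, by rw [Subgroup.orderOf_coe, hz], fun w hw => eq_zero_of_smul_eq hf z.2 (fun h => ?_) hw⟩
        rw [show z = 1 from Subtype.ext h, orderOf_one] at hz
        norm_num at hz
    · subst hk
      refine ⟨fun h3 => ?_, Or.inl ?_⟩
      · subst h3
        exfalso
        interval_cases i
        · exact hpZ (by
            rcases (Nat.dvd_prime Nat.prime_three).1 (by simpa using hZdvd) with h | h
            · omega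
            · rw [h])
        · omega
        · have h9 : Nat.card Z ∣ 3 ^ 2 := by simpa using hZdvd
          obtain ⟨e, -, he⟩ := (Nat.dvd_prime_pow Nat.prime_three).1 h9
          rcases Nat.eq_zero_or_pos e with rfl | he0
          · rw [pow_zero] at he; omega
          · exact hpZ (he ▸ dvd_pow_self 3 he0.ne')
      · have : 2 ^ i ≤ 2 ^ 3 := Nat.pow_le_pow_right (by norm_num) hile
        calc Nat.card R ≤ Nat.card Z * (2 * i) := hRb
          _ ≤ 9 * 6 := Nat.mul_le_mul (by omega) (by omega)
          _ = 54 := rfl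
    · subst hk
      have : 2 ^ i ≤ 2 ^ 4 := Nat.pow_le_pow_right (by norm_num) hile
      calc Nat.card R ≤ Nat.card Z * (2 * i) := hRb
        _ ≤ 17 * 8 := Nat.mul_le_mul (by omega) (by omega)
        _ ≤ 200 := by norm_num
    · subst hk
      have : 2 ^ i ≤ 2 ^ 5 := Nat.pow_le_pow_right (by norm_num) hile
      calc Nat.card R ≤ Nat.card Z * (2 * i) := hRb
        _ ≤ 33 * 10 := Nat.mul_le_mul (by omega) (by omega)
        _ = 330 := rfl
  -- a socle
  obtain ⟨r, hr⟩ := socle_index_square hι hmax hne
  have hrd := socle_degree_dvd hlin hι hιv hmax hne hr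
  have hle := le_finrank hlin hι hιv hmax hne
  rw [hr] at hle
  have hr0 : r ≠ 0 := fun h => by
    rw [h, mul_zero] at hr
    exact Subgroup.index_ne_zero_of_finite hr
  have hr1 : r ≠ 1 := fun h => not_le_of_gt (exists_socle hne)
    (Subgroup.relIndex_eq_one.1 (hr.trans (by rw [h])))
  obtain ⟨q, hq, hqr⟩ := Nat.exists_prime_and_dvd (n := r) hr1
  have hqZ : q ∣ Nat.card Z := prime_dvd_card hι hmax hne q hq (hr ▸ hqr.mul_right r)
  have hqd : q ∣ Module.finrank K W := hqr.trans hrd
  have hd1 : Module.finrank K W ≠ 1 := fun h => hne (centralizer_le_of_line hmax hlin h)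
  have hd2 : 2 ≤ Module.finrank K W := by omega
  have hi2 : i ≤ 2 := by
    by_contra hc
    nlinarith
  obtain rfl : i = 1 := by
    by_contra hne1
    obtain rfl : i = 2 := by omega
    have hd : Module.finrank K W = 2 := by omega
    rw [hd] at hqd
    obtain rfl : q = 2 := (Nat.prime_dvd_prime_iff_eq hq Nat.prime_two).1 hqd
    exact absurd (hqZ.trans hZdvd) (by norm_num)
  have hZ3 : Nat.card Z = 3 := by
    rcases (Nat.dvd_prime Nat.prime_three).1 (by simpa using hZdvd) with h | h
    · omega
    · exact h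
  obtain rfl : q = 3 := (Nat.prime_dvd_prime_iff_eq hq Nat.prime_three).1 (hZ3 ▸ hqZ)
  have hk : k = 3 := by
    rw [one_mul] at hki
    rw [← hki] at hqd
    interval_cases k <;> omega
  subst hk
  rw [one_mul] at hki
  obtain rfl : r = 3 := by
    have h1 := Nat.le_of_dvd (by omega) hrd
    have h2 := Nat.le_of_dvd (by omega) hqr
    omega
  refine ⟨fun h => by omega, fun _ => ⟨fun h3 => absurd (h3 ▸ hZ3.symm.dvd) hpZ, Or.inr ⟨?_, ?_⟩⟩,
    fun h => by omega, fun h => by omega⟩
  · rw [hRcard, hσ]
    exact (Nat.mul_le_mul (centralizer_card_le hι hmax hne hZ3 hr)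
      (Nat.le_of_dvd (by norm_num) hδdvd)).trans (by norm_num)
  · exact S.special_le hirr hZ3 hcard (by rw [hK, pow_one]) hι hιv hσ hsemi

end Cfsg.Lib.CoprimeBase
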