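import Cfsg.Agent.CoprimeBase.Primitive
import Cfsg.Agent.CoprimeBase.SmallCount
import Cfsg.Agent.CoprimeBase.SympBounds
import Cfsg.Agent.SolvBase.Main
import Cfsg.Agent.SolvBase.SocleBound

/-!
The small fields: counting.
-/

set_option autoImplicit false
set_option linter.unusedSectionVars false

namespace Cfsg.Lib.CoprimeBase

open Cfsg.Lib.OddBase Cfsg.Lib.SolvBase

universe u

variable {A : Type u} [Group A] [Finite A] [Group.IsSolvable A] {Z : Subgroup A} [Z.Normal]
  [IsMulCommutative Z] {K : Type u} [Field K] [Finite K] {V : Type u} [AddCommGroup V] [Finite V]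
  [DistribMulAction A V] [Module K V] [FaithfulSMul A V] [Nontrivial V]
  {p : ℕ} [Fact p.Prime] [CharP K p] {ι : Z →* Kˣ}

/-- Dimension four over three elements: abelian stabilisers. -/
theorem Terminal.pair_lever (T : Terminal p Z V ι) {R W : Type u} [Group R] [Finite R] [AddCommGroup W]
    [Finite W] [DistribMulAction R W] [FaithfulSMul R W] (D : Bridge Z ι R W)
    (hexp : ∀ l : Soc Z, ((l ^ 2 : Soc Z) : A) ∈ Z) (hexpV : ∀ v : V, p • v = 0)
    (hQ : Nat.card K = 3) (hV : Nat.card V = 81) (hW : Nat.card W = 16)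
    (hcycl : ∀ H : Subgroup R, ¬ 5 ∣ Nat.card H → IsCyclic H)
    (hg : ∃ g : R, orderOf g = 5 ∧ ∀ w : W, g • w = w → w = 0) : Pair A V := by
  classical
  haveI : Fact (Nat.Prime 5) := ⟨by norm_num⟩
  obtain ⟨x, hx⟩ := exists_ne (0 : V)
  set St := MulAction.stabilizer A x with hSt
  have h5 : ¬ 5 ∣ Nat.card St := by
    intro h
    obtain ⟨b, hb⟩ := exists_prime_orderOf_dvd_card' (G := St) 5 h
    let P : Subgroup A := Subgroup.zpowers (b : A)
    have hP : IsPGroup 5 P := IsPGroup.of_card (n := 1) (by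
      rw [Nat.card_zpowers, Subgroup.orderOf_coe, hb, pow_one])
    have hmod := hP.card_modEq_card_fixedPoints V
    set F := fixS A V (b : A) with hF
    have hfix : MulAction.fixedPoints P V = (F : Set V) := by
      ext v
      constructor
      · intro hv
        exact hv ⟨(b : A), Subgroup.mem_zpowers _⟩
      · rintro hv ⟨y, n, rfl⟩
        exact MulAction.mem_stabilizer_iff.1 (zpow_mem (MulAction.mem_stabilizer_iff.2 (hv : (b : A) • v = v)) n)
    rw [hfix, hV] at hmod
    change 81 % 5 = Nat.card F % 5 at hmod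
    obtain ⟨i, hi, hFi⟩ := (Nat.dvd_prime_pow Nat.prime_three).1
      (show Nat.card F ∣ 3 ^ 4 from by
        rw [show 3 ^ 4 = Nat.card V by rw [hV]; norm_num]; exact F.card_addSubgroup_dvd_card)
    have hF1 : Nat.card F ≠ 1 := fun h1 => hx (by
      have hb0 := AddSubgroup.eq_bot_of_card_eq F h1
      have hxF : x ∈ F := MulAction.mem_stabilizer_iff.1 b.2
      rwa [hb0, AddSubgroup.mem_bot] at hxF)
    have hF81 : Nat.card F = Nat.card V := by
      rw [hFi] at hmod hF1 ⊢
      rw [hV]
      interval_cases i <;> simp_all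
    have htop := AddSubgroup.eq_top_of_card_eq F hF81
    have hb1 : (b : A) = 1 := eq_of_smul_eq_smul fun v : V => by
      rw [one_smul]; exact show v ∈ F from htop ▸ AddSubgroup.mem_top v
    rw [← Subgroup.orderOf_coe, hb1, orderOf_one] at hb
    norm_num at hb
  let f : St →* R := D.π.comp St.subtype
  haveI : IsCyclic f.range := hcycl _ fun h => h5 (h.trans (Subgroup.card_range_dvd f))
  have hkerZ : ∀ l : f.ker, ((l : St) : A) ∈ Soc Z := fun l => D.π_ker.le (l.2 : D.π ((l : St) : A) = 1)
  have hkfix : ∀ l : f.ker, ((l : St) : A) • x = x := fun l => MulAction.mem_stabilizer_iff.1 (l : St).2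
  by_cases hk2 : Nat.card f.ker ≤ 2
  · refine pair_of_comm_stabilizer hexpV T.hA x fun a b ha hb v => ?_
    have hc : f.rangeRestrict.ker ≤ Subgroup.center St := by
      rw [MonoidHom.ker_rangeRestrict]
      intro l hl
      rw [Subgroup.mem_center_iff]
      intro g
      by_contra hne
      have hl1 : l ≠ 1 := fun h => hne (by rw [h, mul_one, one_mul])
      have hconj : g * l * g⁻¹ ∈ f.ker := f.normal_ker.conj_mem l hl g
      have hne' : g * l * g⁻¹ ≠ l := fun h => hne (by rwa [mul_inv_eq_iff_eq_mul] at h)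
      have hne1 : g * l * g⁻¹ ≠ 1 := fun h => hl1 (by
        rw [mul_inv_eq_one] at h
        exact mul_left_cancel (h.trans (mul_one g).symm))
      haveI := Fintype.ofFinite f.ker
      have h3 : ({(1 : f.ker), ⟨l, hl⟩, ⟨g * l * g⁻¹, hconj⟩} : Finset f.ker).card = 3 :=
        Finset.card_eq_three.2 ⟨_, _, _, fun h => hl1 (congrArg Subtype.val h).symm,
          fun h => hne1 (congrArg Subtype.val h).symm, fun h => hne' (congrArg Subtype.val h).symm, rfl⟩
      have := Finset.card_le_univ ({(1 : f.ker), ⟨l, hl⟩, ⟨g * l * g⁻¹, hconj⟩} : Finset f.ker)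
      rw [h3, ← Nat.card_eq_fintype_card] at this
      omega
    have h := commutative_of_cyclic_center_quotient f.rangeRestrict hc
      (⟨a, ha⟩ : St) ⟨b, hb⟩
    rw [← mul_smul, ← mul_smul]
    exact congrArg (· • v) (congrArg Subtype.val h)
  -- a Lagrangian of singular vectors
  exfalso
  have hzsq : ∀ z ∈ Z, z * z = 1 := by
    intro z hz
    have h1 : (ι ⟨z, hz⟩) ^ 2 = 1 := by
      have h2 : Nat.card Kˣ = 2 := by rw [Nat.card_units, hQ]
      rw [← h2]; exact pow_card_eq_one'
    rw [← map_pow] at h1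
    have h3 := congrArg Subtype.val ((map_eq_one_iff ι T.hι).1 h1)
    rwa [pow_two] at h3
  let cS : f.ker → Soc Z := fun l => ⟨((l : St) : A), hkerZ l⟩
  have hS1 : ∀ l : f.ker, ((cS l : Soc Z) : A) ∈ Z → l = 1 := fun l hl =>
    Subtype.ext (Subtype.ext (T.eq_one_of_fix hl hx (hkfix l)))
  let q : W → ZMod 2 := fun w => if ∃ l : Soc Z, D.cl l = w ∧ (l : A) * l = 1 then 0 else 1
  have hlift : ∀ l l' : Soc Z, D.cl l = D.cl l' → ((l' : A) * l' = 1 → (l : A) * l = 1) := by
    intro l l' h h'
    have h0 : D.cl (l'⁻¹ * l) = 0 := by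
      rw [D.cl_mul, h, ← D.cl_mul, inv_mul_cancel]; exact (D.cl_zero 1).2 (one_mem Z)
    have hz := (D.cl_zero _).1 h0
    set z := ((l'⁻¹ * l : Soc Z) : A) with hzdef
    have hl : (l : A) = l' * z := by rw [hzdef, Subgroup.coe_mul, Subgroup.coe_inv, mul_inv_cancel_left]
    have hcz : z * (l' : A) = (l' : A) * z :=
      Subgroup.mem_centralizer_iff.1 (T.centralizer_top.ge (Subgroup.mem_top _)) z hz
    rw [hl]
    calc (l' : A) * z * ((l' : A) * z) = (l' : A) * (z * (l' : A)) * z := by group
      _ = ((l' : A) * l') * (z * z) := by rw [hcz]; group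
      _ = 1 := by rw [h', hzsq z hz, one_mul]
  have hq0 : ∀ l : Soc Z, q (D.cl l) = 0 ↔ (l : A) * l = 1 := by
    intro l
    simp only [q]
    constructor
    · intro h
      by_contra hne
      rw [if_neg] at h
      · exact one_ne_zero h
      · rintro ⟨l', h1, h2⟩
        exact hne (hlift l l' h1.symm h2)
    · intro h
      rw [if_pos ⟨l, rfl, h⟩]
  let U : AddSubgroup W :=
    { carrier := {w | ∃ l : f.ker, D.cl (cS l) = w}
      zero_mem' := ⟨1, (D.cl_zero _).2 (one_mem Z)⟩
      add_mem' := fun {a b} ha hb => by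
        obtain ⟨l, rfl⟩ := ha
        obtain ⟨m, rfl⟩ := hb
        exact ⟨l * m, D.cl_mul (cS l) (cS m)⟩
      neg_mem' := fun {a} ha => by
        obtain ⟨l, rfl⟩ := ha
        exact ⟨l, (neg_eq_of_add_eq_zero_right (D.S.add_self _)).symm⟩ }
  have hSsq : ∀ l : f.ker, ((cS l : Soc Z) : A) * cS l = 1 := by
    intro l
    have hz : ((cS l : Soc Z) : A) * cS l ∈ Z := by
      have := hexp (cS l)
      rwa [pow_two, Subgroup.coe_mul] at this
    exact T.eq_one_of_fix hz hx (by rw [mul_smul]; exact (congrArg _ (hkfix l)).trans (hkfix l))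
  have hqU : ∀ u ∈ U, q u = 0 := by
    rintro _ ⟨l, rfl⟩
    exact (hq0 _).2 (hSsq l)
  have hUiso : ∀ u ∈ U, ∀ u' ∈ U, D.S.B u u' = 0 := by
    rintro _ ⟨l, rfl⟩ _ ⟨m, rfl⟩
    rw [D.form_iff, form_eq_one T.hι]
    have hz : ((cS l : Soc Z) : A) * cS m * ((cS l : Soc Z) : A)⁻¹ * ((cS m : Soc Z) : A)⁻¹ ∈ Z :=
      socle_comm (Subgroup.commutator_mem_commutator (cS l).2 (cS m).2)
    have hlx : ((cS l : Soc Z) : A) • x = x := hkfix l
    have hmx : ((cS m : Soc Z) : A) • x = x := hkfix m
    have h1 := T.eq_one_of_fix hz hx (by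
      rw [mul_smul, mul_smul, mul_smul, inv_smul_eq_iff.2 hmx.symm, inv_smul_eq_iff.2 hlx.symm, hmx, hlx])
    rw [mul_inv_eq_one, mul_inv_eq_iff_eq_mul] at h1
    exact h1
  have hU3 : 3 ≤ Nat.card U := by
    refine le_trans (by omega : 3 ≤ Nat.card f.ker)
      (Nat.card_le_card_of_injective (fun l => (⟨D.cl (cS l), l, rfl⟩ : U)) fun l m h => ?_)
    have h0 : D.cl (cS l⁻¹) + D.cl (cS m) = 0 := by
      rw [show D.cl (cS m) = D.cl (cS l) from (congrArg Subtype.val h).symm]
      change D.cl (cS l⁻¹) + D.cl (cS l) = 0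
      rw [← D.cl_mul]
      exact (D.cl_zero _).2 (by
        change ((l⁻¹ : f.ker) : St).1 * ((l : St) : A) ∈ Z
        simp)
    rw [← D.cl_mul] at h0
    have h1 : l⁻¹ * m = 1 := hS1 (l⁻¹ * m) ((D.cl_zero _).1 h0)
    exact inv_mul_eq_one.1 h1
  have hU4 : Nat.card U = 4 := by
    have h1 : Nat.card U * Nat.card U ≤ 16 := by
      rw [← hW]
      exact le_trans (Nat.mul_le_mul_right _ (AddSubgroup.card_le_of_le
        (K := D.S.perp U) fun u hu y hy => hUiso u hu y hy)) (D.S.card_perp_le U)
    have h2 := hW ▸ U.card_addSubgroup_dvd_card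
    have h4 : Nat.card U ≤ 4 := by nlinarith
    interval_cases h : Nat.card U <;> omega
  have hperp : D.S.perp U = U := by
    refine (AddSubgroup.eq_of_le_of_card_ge
      (show U ≤ D.S.perp U from fun u hu y hy => hUiso u hu y hy) ?_).symm
    have := D.S.card_perp_le U
    rw [hW, hU4] at this
    omega
  have hqadd : ∀ w, ∀ u ∈ U, q (w + u) = q w + D.S.B w u := by
    intro w u hu
    obtain ⟨l, rfl⟩ := D.cl_surj w
    obtain ⟨m, rfl⟩ := hu
    rw [← D.cl_mul]
    have hm := hSsq m
    set a := (l : A) with ha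
    set b := ((cS m : Soc Z) : A) with hb
    have hcm : b * a * b⁻¹ * a⁻¹ ∈ Z := socle_comm (Subgroup.commutator_mem_commutator (cS m).2 l.2)
    set c := b * a * b⁻¹ * a⁻¹ with hc
    have hcl : c * a = a * c := Subgroup.mem_centralizer_iff.1 (T.centralizer_top.ge (Subgroup.mem_top a)) c hcm
    have hsq : (a * b) * (a * b) = a * a * c := by
      have hba : b * a = c * (a * b) := by rw [hc]; group
      calc (a * b) * (a * b) = a * (b * a) * b := by group
        _ = a * (c * (a * b)) * b := by rw [hba]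
        _ = (a * c) * a * (b * b) := by group
        _ = (a * c) * a := by rw [hm, mul_one]
        _ = a * (c * a) := mul_assoc _ _ _
        _ = a * a * c := by rw [hcl, mul_assoc]
    have hB : D.S.B (D.cl l) (D.cl (cS m)) = 0 ↔ c = 1 := by
      rw [D.form_iff, form_eq_one T.hι]
      change a * b = b * a ↔ _
      rw [hc, mul_inv_eq_one, mul_inv_eq_iff_eq_mul]
      exact eq_comm
    have hll : a * a ∈ Z := by
      have := hexp l
      rwa [pow_two, Subgroup.coe_mul] at this
    have h1 : q (D.cl (l * cS m)) = 0 ↔ a * a * c = 1 := by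
      rw [hq0, Subgroup.coe_mul]
      exact ⟨fun h => hsq.symm.trans h, fun h => hsq.trans h⟩
    have htwo : ∀ z ∈ Z, ∀ z' ∈ Z, z ≠ 1 → z' ≠ 1 → z * z' = 1 := by
      intro z hz z' hz' hne hne'
      have hZ2 : Nat.card Z = 2 := by
        rw [Nat.card_congr (Equiv.ofBijective ι ⟨T.hι, T.hιs⟩), Nat.card_units, hQ]
      haveI := Fintype.ofFinite Z
      have : (⟨z, hz⟩ : Z) = ⟨z', hz'⟩ := by
        by_contra hne2
        have h3 : ({1, ⟨z, hz⟩, ⟨z', hz'⟩} : Finset Z).card = 3 := Finset.card_eq_three.2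
          ⟨_, _, _, fun h => hne (congrArg Subtype.val h).symm, fun h => hne' (congrArg Subtype.val h).symm, hne2, rfl⟩
        have := Finset.card_le_univ ({1, ⟨z, hz⟩, ⟨z', hz'⟩} : Finset Z)
        rw [h3, ← Nat.card_eq_fintype_card, hZ2] at this
        omega
      have e : z = z' := congrArg Subtype.val this
      rw [← e]
      exact hzsq z hz
    have hcases : ∀ u v w : ZMod 2, (w = 0 ↔ (u = 0 ↔ v = 0)) → w = u + v := by decide
    refine hcases _ _ _ ?_
    rw [h1, hq0, hB]
    constructor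
    · intro h
      exact ⟨fun h' => by rwa [h', one_mul] at h, fun h' => by rwa [h', mul_one] at h⟩
    · intro h
      by_cases h' : a * a = 1
      · rw [h', h.1 h', one_mul]
      · exact htwo _ hll c hcm h' fun hc1 => h' (h.2 hc1)
  haveI := Fintype.ofFinite W
  haveI := Fintype.ofFinite U
  let Sg := Finset.univ.filter fun w : W => q w = 0
  have hcount : Sg.card = 10 := by
    have e1 : ∀ w : W, (Finset.univ.filter fun u : U => q (w + u) = 0).card = if w ∈ U then 4 else 2 := by
      intro w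
      split_ifs with hw
      · rw [Finset.filter_true_of_mem fun u _ => hqU _ (add_mem hw u.2), Finset.card_univ,
          ← Nat.card_eq_fintype_card, hU4]
      · let χ : U →+ ZMod 2 := (D.S.B w).comp U.subtype
        have hχ : ∀ u : U, q (w + u) = q w + χ u := fun u => hqadd w u u.2
        obtain ⟨u0, hu0⟩ : ∃ u0 : U, χ u0 ≠ 0 := by
          by_contra hall
          push Not at hall
          exact hw (hperp ▸ (show w ∈ D.S.perp U from fun y hy => hall ⟨y, hy⟩))
        have hswap : (Finset.univ.filter fun u : U => q (w + u) = 0).card =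
            (Finset.univ.filter fun u : U => ¬ q (w + u) = 0).card := by
          refine Finset.card_equiv (Equiv.addRight u0) fun u => ?_
          simp only [Finset.mem_filter, Finset.mem_univ, true_and, Equiv.coe_addRight, hχ, map_add]
          rcases zmod_two_cases (χ u0) with h | h
          · exact absurd h hu0
          · rw [h]
            generalize q w = a
            generalize χ u = b
            revert a b
            decide
        have h4 := Finset.card_filter_add_card_filter_not (s := (Finset.univ : Finset U))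
          (fun u : U => q (w + u) = 0)
        rw [← hswap, Finset.card_univ, ← Nat.card_eq_fintype_card, hU4] at h4
        omega
    have e2 : ∑ w : W, (Finset.univ.filter fun u : U => q (w + u) = 0).card = 4 * Sg.card := by
      simp only [Finset.card_filter]
      rw [Finset.sum_comm]
      have : ∀ u : U, ∑ w : W, (if q (w + u) = 0 then 1 else 0) = Sg.card := fun u => by
        rw [Finset.card_filter]
        exact Fintype.sum_equiv (Equiv.addRight (u : W)) _ _ fun w => rfl
      rw [Finset.sum_congr rfl fun u _ => this u, Finset.sum_const, Finset.card_univ,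
        ← Nat.card_eq_fintype_card, hU4, smul_eq_mul]
    rw [Finset.sum_congr rfl fun w _ => e1 w, Finset.sum_ite, Finset.sum_const, Finset.sum_const,
      smul_eq_mul, smul_eq_mul] at e2
    have h5 := Finset.card_filter_add_card_filter_not (s := (Finset.univ : Finset W)) (fun w : W => w ∈ U)
    have h6 : (Finset.univ.filter fun w : W => w ∈ U).card = 4 := by
      rw [← Fintype.card_subtype, ← Nat.card_eq_fintype_card]
      exact hU4
    rw [Finset.card_univ, ← Nat.card_eq_fintype_card, hW] at h5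
    omega
  obtain ⟨g, hg5, hgfix⟩ := hg
  have hinv : ∀ (r : R) w, q w = 0 → q (r • w) = 0 := by
    intro r w hw
    obtain ⟨a, rfl⟩ := D.π_surj r
    obtain ⟨l, rfl⟩ := D.cl_surj w
    rw [← D.cl_conj, hq0]
    change a * l * a⁻¹ * (a * l * a⁻¹) = 1
    calc a * (l : A) * a⁻¹ * (a * l * a⁻¹) = a * ((l : A) * l) * a⁻¹ := by group
      _ = 1 := by rw [(hq0 l).1 hw, mul_one, mul_inv_cancel]
  let P : Subgroup R := Subgroup.zpowers g
  have hP : IsPGroup 5 P := IsPGroup.of_card (n := 1) (by rw [Nat.card_zpowers, hg5, pow_one])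
  letI : MulAction P {w : W // q w = 0 ∧ w ≠ 0} :=
    { smul := fun r w => ⟨(r : R) • (w : W), hinv r _ w.2.1, fun h => w.2.2 ((smul_eq_zero_iff_eq (r : R)).1 h)⟩
      one_smul := fun w => Subtype.ext (one_smul R (w : W))
      mul_smul := fun r r' w => Subtype.ext (mul_smul (r : R) (r' : R) (w : W)) }
  have hmod := hP.card_modEq_card_fixedPoints {w : W // q w = 0 ∧ w ≠ 0}
  haveI : IsEmpty (MulAction.fixedPoints P {w : W // q w = 0 ∧ w ≠ 0}) := ⟨fun w =>
    w.1.2.2 (hgfix _ (congrArg Subtype.val (w.2 ⟨g, Subgroup.mem_zpowers g⟩)))⟩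
  have h9 : Nat.card {w : W // q w = 0 ∧ w ≠ 0} = 9 := by
    rw [Nat.card_eq_fintype_card, Fintype.card_subtype, ← Finset.filter_filter, Finset.filter_ne',
      Finset.card_erase_of_mem (by simp [hqU 0 (zero_mem U)])]
    change Sg.card - 1 = 9
    omega
  rw [h9, Nat.card_of_isEmpty] at hmod
  exact absurd hmod (by decide)

/-- Socle index two to a power over a field with three, five or nine elements. -/
theorem Terminal.pair_small (T : Terminal p Z V ι) {r k : ℕ}
    (hr : Z.relIndex (socle Z (Subgroup.centralizer (Z : Set A))) = r * r)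
    (hdim : Module.finrank K V = r) (hk : r = 2 ^ k)
    (hexp : ∀ l : Soc Z, ((l ^ 2 : Soc Z) : A) ∈ Z)
    (hQ : Nat.card K = 3 ∨ Nat.card K = 5 ∨ Nat.card K = 9) : Pair A V := by
  classical
  have hexpV : ∀ v : V, p • v = 0 := fun v => by
    rw [← Nat.cast_smul_eq_nsmul K, CharP.cast_eq_zero, zero_smul]
  have hr2 := (T.socle_hom hr).1
  have hk0 : k ≠ 0 := fun h => by rw [h, pow_zero] at hk; omega
  by_cases hk1 : k = 1
  · exact pair_le_two T.hA hexpV T.hcomm (by rw [hdim, hk, hk1]; norm_num)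
  have hk2 : 2 ≤ k := by omega
  obtain ⟨R, W, _, _, _, _, _, _, _, D, hW⟩ := T.exists_bridge hr hexp
  have hW4 : Nat.card W = 4 ^ k := by rw [hW, hk, ← mul_pow]; norm_num
  haveI : Nontrivial W := by
    rw [← Finite.one_lt_card_iff_nontrivial, hW4]; exact Nat.one_lt_pow hk0 (by norm_num)
  rcases T.pair_or_irr hr D hW with h | ⟨hirr, hnp⟩
  · exact h
  set L := Soc Z with hL
  have hZL : Z ≤ L := (exists_socle T.hne).le
  have hRdvd : Nat.card R ∣ Nat.card A := Subgroup.card_dvd_of_surjective D.π D.π_surj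
  have hpR : ¬ p ∣ Nat.card R := fun h => T.hA (h.trans hRdvd)
  have hRidx : L.index = Nat.card R := by
    rw [hL, ← D.π_ker, Subgroup.index_ker, MonoidHom.range_eq_top.2 D.π_surj, Subgroup.card_top]
  have hAcard : Nat.card A = Nat.card R * ((Nat.card K - 1) * 4 ^ k) := by
    rw [← Subgroup.card_mul_index L, hRidx, mul_comm, ← Subgroup.card_mul_index (Z.subgroupOf L),
      Nat.card_congr (Subgroup.subgroupOfEquivOfLe hZL).toEquiv,
      Nat.card_congr (Equiv.ofBijective ι ⟨T.hι, T.hιs⟩), Nat.card_units]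
    congr 2
    rw [← hW4, hW]
    exact hr
  have hVcard : Nat.card V = Nat.card K ^ 2 ^ k := by
    rw [Module.natCard_eq_pow_finrank (K := K), hdim, hk]
  have hVs : Nat.card V = Nat.card K ^ 2 ^ (k - 1) * Nat.card K ^ 2 ^ (k - 1) := by
    rw [hVcard, ← pow_add, ← two_mul, ← pow_succ']
    congr 2
    omega
  have hd : ∀ g : R, D.S.Special g → g ≠ 1 → Nat.card (disp W g).range ≤ 2 ^ k ∧
      (k ≤ 3 → Nat.card (disp W g).range ≤ 4) := by
    intro g hg _
    have h1 := hg.card_sq_le
    rw [hW4, show (4 : ℕ) ^ k = 2 ^ k * 2 ^ k by rw [← mul_pow]; norm_num] at h1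
    have h2 := Nat.mul_self_le_mul_self_iff.1 h1
    refine ⟨h2, fun hk3 => ?_⟩
    have h8 := hg.card_range.2
    obtain ⟨e, -, he⟩ := (Nat.dvd_prime_pow Nat.prime_two).1
      (show Nat.card (disp W g).range ∣ 2 ^ (2 * k) from by
        rw [show (2 : ℕ) ^ (2 * k) = Nat.card W by rw [hW4, pow_mul]; norm_num]
        exact AddSubgroup.card_addSubgroup_dvd_card _)
    rw [he] at h2 h8 ⊢
    have he2 : e ≤ k := (Nat.pow_le_pow_iff_right (by norm_num : 1 < 2)).1 h2
    have he3 : e ≠ 3 := fun h => h8 (by rw [h]; norm_num)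
    exact le_trans (Nat.pow_le_pow_right (by norm_num) (show e ≤ 2 by omega)) (by norm_num)
  have hIR : {g : R | D.S.Special g ∧ g ≠ 1}.ncard ≤ Nat.card R := Set.ncard_le_card _
  rcases Nat.lt_or_ge 5 k with hk6 | hk5
  · -- large dimension
    have hRb : Nat.card R ≤ 2 ^ (6 * k) := by
      have h := (socle_bound (below3_all (Nat.card A)) le_rfl T.hι T.hmax T.hne hr).2.1
      change L.relIndex (Subgroup.centralizer (Z : Set A)) ≤ r ^ 6 at h
      rw [T.centralizer_top, Subgroup.relIndex_top_right, hRidx, hk, ← pow_mul] at h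
      rwa [mul_comm]
    refine T.pair_of_counting hexp D hVs hIR (d := 2 ^ k) (fun g a b => (hd g a b).1) ?_
    obtain ⟨j, rfl⟩ := Nat.exists_eq_add_of_le (show 6 ≤ k by omega)
    set s := Nat.card K ^ 2 ^ (6 + j - 1) with hs
    rw [hVs, hAcard]
    have hQ3 : 3 ≤ Nat.card K := by omega
    have hQ9 : Nat.card K - 1 ≤ 2 ^ 3 := by omega
    have hs1 : 2 ^ (3 * 2 ^ (4 + j)) ≤ s := by
      rw [hs, show 6 + j - 1 = (4 + j) + 1 by omega, pow_succ' 2 (4 + j), pow_mul, pow_mul]
      refine Nat.pow_le_pow_left ?_ _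
      calc 2 ^ 3 ≤ 3 ^ 2 := by norm_num
        _ ≤ Nat.card K ^ 2 := Nat.pow_le_pow_left hQ3 2
    have hj : j < 2 ^ j := Nat.lt_two_pow_self
    have hexp' : 7 * (6 + j) + 1 < 3 * 2 ^ (4 + j) := by rw [pow_add]; omega
    have h4 : (4 : ℕ) ^ (6 + j) = 2 ^ (6 + j) * 2 ^ (6 + j) := by rw [← mul_pow]; norm_num
    have h8 : (Nat.card K - 1) * 2 ^ (6 + j) ≤ s := by
      refine le_trans (Nat.mul_le_mul_right _ hQ9) (le_trans ?_ hs1)
      rw [← pow_add]
      exact Nat.pow_le_pow_right (by norm_num) (by omega)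
    calc Nat.card R * ((Nat.card K - 1) * 4 ^ (6 + j)) + Nat.card R * 2 ^ (6 + j) * s
        = Nat.card R * 2 ^ (6 + j) * ((Nat.card K - 1) * 2 ^ (6 + j)) + Nat.card R * 2 ^ (6 + j) * s := by
          rw [h4]; ring
      _ ≤ Nat.card R * 2 ^ (6 + j) * s + Nat.card R * 2 ^ (6 + j) * s :=
          Nat.add_le_add_right (Nat.mul_le_mul_left _ h8) _
      _ = Nat.card R * (2 ^ (6 + j) * 2) * s := by ring
      _ ≤ 2 ^ (7 * (6 + j) + 1) * s := by
          refine Nat.mul_le_mul_right _ ((Nat.mul_le_mul_right _ hRb).trans (le_of_eq ?_))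
          rw [← pow_succ, ← pow_add]; congr 1; omega
      _ < s * s := by
          refine Nat.mul_lt_mul_of_pos_right (lt_of_lt_of_le ?_ hs1) (lt_of_lt_of_le ?_ hs1)
          · exact Nat.pow_lt_pow_right (by norm_num) hexp'
          · exact Nat.two_pow_pos _
  have hp : p = 3 ∨ p = 5 := by
    haveI := Fintype.ofFinite K
    obtain ⟨n, -, hn⟩ := FiniteField.card K p
    rw [← Nat.card_eq_fintype_card] at hn
    have hdvd : p ∣ Nat.card K := hn ▸ dvd_pow_self p n.2.ne'
    rcases hQ with h | h | h <;> rw [h] at hdvd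
    · exact Or.inl ((Nat.prime_dvd_prime_iff_eq Fact.out Nat.prime_three).1 hdvd)
    · exact Or.inr ((Nat.prime_dvd_prime_iff_eq Fact.out (by norm_num)).1 hdvd)
    · exact Or.inl ((Nat.prime_dvd_prime_iff_eq Fact.out Nat.prime_three).1
        ((Fact.out : p.Prime).dvd_of_dvd_pow (show p ∣ 3 ^ 2 from hdvd)))
  have hp39 : Nat.card K = 3 ∨ Nat.card K = 9 → p = 3 := by
    intro h
    rcases hp with h' | h'
    · exact h'
    · exfalso
      haveI := Fintype.ofFinite K
      obtain ⟨n, -, hn⟩ := FiniteField.card K p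
      rw [← Nat.card_eq_fintype_card] at hn
      have hdvd : 5 ∣ Nat.card K := hn ▸ h' ▸ dvd_pow_self p n.2.ne'
      rcases h with h | h <;> rw [h] at hdvd <;> norm_num at hdvd
  have hp5 : Nat.card K = 5 → p = 5 := by
    intro h
    rcases hp with h' | h'
    · exfalso
      haveI := Fintype.ofFinite K
      obtain ⟨n, -, hn⟩ := FiniteField.card K p
      rw [← Nat.card_eq_fintype_card] at hn
      have hdvd : 3 ∣ Nat.card K := hn ▸ h' ▸ dvd_pow_self p n.2.ne'
      rw [h] at hdvd
      norm_num at hdvd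
    · exact h'
  obtain ⟨b2, b3, b4, b5⟩ := D.S.order_bounds hnp hirr hp hpR hk2 hk5 hW4
  interval_cases k
  · obtain ⟨hp3, hR20, hI5, hcycl, hg⟩ := b2 rfl
    rcases hQ with h | h | h
    · exact T.pair_lever D hexp hexpV h (by rw [hVcard, h]; norm_num) (by rw [hW4]; norm_num) hcycl hg
    · exact absurd (hp3.symm.trans (hp5 h)) (by norm_num)
    · refine T.pair_of_counting hexp D hVs hI5 (d := 4) (fun g a b => (hd g a b).2 (by norm_num)) ?_
      rw [hVcard, hAcard, h]
      norm_num
      omega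
  · obtain ⟨hR14, hR⟩ := b3 rfl
    rcases hQ with h | h | h
    · refine T.pair_of_counting hexp D hVs hIR (d := 4) (fun g a b => (hd g a b).2 le_rfl) ?_
      have := hR14 (hp39 (Or.inl h))
      rw [hVcard, hAcard, h]
      norm_num
      omega
    · rcases hR with hR54 | ⟨hR1296, hI21⟩
      · refine T.pair_of_counting hexp D hVs hIR (d := 4) (fun g a b => (hd g a b).2 le_rfl) ?_
        rw [hVcard, hAcard, h]
        norm_num
        omega
      · refine T.pair_of_counting hexp D hVs hI21 (d := 4) (fun g a b => (hd g a b).2 le_rfl) ?_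
        rw [hVcard, hAcard, h]
        norm_num
        omega
    · refine T.pair_of_counting hexp D hVs hIR (d := 4) (fun g a b => (hd g a b).2 le_rfl) ?_
      have := hR14 (hp39 (Or.inr h))
      rw [hVcard, hAcard, h]
      norm_num
      omega
  · have := b4 rfl
    refine T.pair_of_counting hexp D hVs hIR (d := 16) (fun g a b => (hd g a b).1.trans (by norm_num)) ?_
    rcases hQ with h | h | h <;> rw [hVcard, hAcard, h] <;> norm_num <;> omega
  · have := b5 rfl
    refine T.pair_of_counting hexp D hVs hIR (d := 32) (fun g a b => (hd g a b).1.trans (by norm_num)) ?_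
    rcases hQ with h | h | h <;> rw [hVcard, hAcard, h] <;> norm_num <;> omega

end Cfsg.Lib.CoprimeBase
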