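import Cfsg.Agent.CoprimeBase.Imprimitive
import Cfsg.Agent.CoprimeBase.Small

/-!
Linear groups over all finite fields of odd characteristic, by induction on the dimension.
-/

set_option autoImplicit false
set_option linter.unusedSectionVars false

namespace Cfsg.Lib.CoprimeBase

open Cfsg.Lib.OddBase Cfsg.Lib.SolvBase

universe u

/-- The centre lies in a maximal abelian normal subgroup. -/
theorem center_le_maxAbelian {G : Type*} [Group G] (Z : Subgroup G) [Z.Normal] [IsMulCommutative Z]
    (hmax : ∀ N : Subgroup G, N.Normal → IsMulCommutative N → Z ≤ N → N = Z) :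
    Subgroup.center G ≤ Z := by
  have hcc : ∀ S : Set G, Subgroup.center G ≤ Subgroup.centralizer S := fun S x hx =>
    Subgroup.mem_centralizer_iff.2 fun y _ => Subgroup.mem_center_iff.1 hx y
  have hZZ : Z ≤ Subgroup.centralizer (Z : Set G) := fun x hx => Subgroup.mem_centralizer_iff.2
    fun y hy => congrArg Subtype.val (IsMulCommutative.is_comm.comm (⟨y, hy⟩ : Z) ⟨x, hx⟩)
  have h1 : Z ⊔ Subgroup.center G ≤
      Subgroup.centralizer ((Z ⊔ Subgroup.center G : Subgroup G) : Set G) :=
    sup_le (Subgroup.le_centralizer_iff.1 (sup_le hZZ (hcc _))) (hcc _)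
  have h2 := hmax (Z ⊔ Subgroup.center G) inferInstance
    ⟨⟨fun x y => Subtype.ext (Subgroup.mem_centralizer_iff.1 (h1 x.2) y y.2).symm⟩⟩ le_sup_left
  exact le_sup_right.trans h2.le

section

variable {A V : Type u} [Group A] [Finite A] [Group.IsSolvable A] [AddCommGroup V] [Finite V]
  [DistribMulAction A V] {K : Type u} [Field K] [Finite K] [Module K V] {p : ℕ} [Fact p.Prime]
  [CharP K p]

/-- Faithful groups containing all scalars. -/
theorem pair_full [FaithfulSMul A V] (hp3 : 3 ≤ p) (hexp : ∀ x : V, p • x = 0)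
    (hA : ¬ p ∣ Nat.card A) (ih : Small.{u} p (Nat.card V))
    (hcomm : ∀ (g : A) (k : K) (v : V), g • (k • v) = k • (g • v))
    (hscal : ∀ c : Kˣ, ∃ a : A, ∀ v : V, a • v = (c : K) • v)
    (rec : ∀ (K' : Type u) [Field K'] [Finite K'] [Module K' V] [CharP K' p]
      (B : Type u) [Group B] [Finite B] [Group.IsSolvable B] [DistribMulAction B V],
      ¬ p ∣ Nat.card B → (∀ (g : B) (k : K') (v : V), g • (k • v) = k • (g • v)) →
      Module.finrank K' V < Module.finrank K V → Pair B V) : Pair A V := by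
  classical
  rcases subsingleton_or_nontrivial V with hs | hnt
  · exact ⟨0, 0, fun a _ _ w => Subsingleton.elim _ _⟩
  by_cases hirr : Irr A V
  swap
  · simp only [Irr, not_forall, not_or] at hirr
    obtain ⟨U, hU, h0, h1⟩ := hirr
    exact pair_reducible hexp hA ih hU h0 h1
  obtain ⟨Z, hZn, hZc, hmax⟩ := exists_maxAbelian (A := A)
  haveI := hZn
  haveI := hZc
  by_cases hidem : ∀ e ∈ alg A V Z, e * e = e → e = 0 ∨ e = 1
  swap
  · push Not at hidem
    obtain ⟨e, he, hid, h0, h1⟩ := hidem
    exact pair_of_idem hp3 hexp hA ih hirr Z e he hid h0 h1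
  have hf := alg_field hirr hidem
  obtain ⟨K', _, _, _, ι, σ, hι, hιv, hσ, hsemi⟩ := exists_field hf
  haveI : CharP K' p := (CharP.charP_iff_prime_eq_zero Fact.out).2 (by
    obtain ⟨x, hx⟩ := exists_ne (0 : V)
    by_contra h
    refine hx ((smul_eq_zero.1 (show ((p : ℕ) : K') • x = 0 from ?_)).resolve_left h)
    rw [Nat.cast_smul_eq_nsmul]; exact hexp x)
  choose s hs using hscal
  obtain ⟨u, hu⟩ := exists_ne (0 : V)
  have hsZ : ∀ c, s c ∈ Z := fun c => center_le_maxAbelian Z hmax <| Subgroup.mem_center_iff.2 fun g =>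
    eq_of_smul_eq_smul fun v : V => by rw [mul_smul, mul_smul, hs, hs, hcomm]
  have hsinj : Function.Injective fun c => (⟨s c, hsZ c⟩ : Z) := by
    intro c d h
    have h1 : s c = s d := congrArg Subtype.val h
    exact Units.ext (smul_left_injective K hu (by
      change (c : K) • u = (d : K) • u
      rw [← hs, ← hs, h1]))
  have hK : Nat.card K - 1 ≤ Nat.card Z := by
    rw [← Nat.card_units]; exact Nat.card_le_card_of_injective _ hsinj
  have hK' : Nat.card Z ≤ Nat.card K' - 1 := by
    rw [← Nat.card_units]; exact Nat.card_le_card_of_injective _ hι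
  have h2K : 2 ≤ Nat.card K := Finite.one_lt_card
  have h2K' : 2 ≤ Nat.card K' := Finite.one_lt_card
  by_cases hlt : Nat.card K < Nat.card K'
  · refine pair_of_semilinear (p := p) hA σ hsemi (rec K' σ.ker
      (fun hd => hA (hd.trans (Subgroup.card_subgroup_dvd_card _))) (fun g k v => ?_) ?_)
    · change (g : A) • (k • v) = _
      rw [hsemi, MonoidHom.mem_ker.1 g.2]; rfl
    · have h1 : Nat.card V = Nat.card K ^ Module.finrank K V := Module.natCard_eq_pow_finrank
      have h2 : Nat.card V = Nat.card K' ^ Module.finrank K' V := Module.natCard_eq_pow_finrank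
      have hpos : 0 < Module.finrank K V := Module.finrank_pos
      by_contra hge
      push Not at hge
      have h3 : Nat.card K ^ Module.finrank K V < Nat.card K' ^ Module.finrank K V :=
        Nat.pow_lt_pow_left hlt (by omega)
      have h4 : Nat.card K' ^ Module.finrank K V ≤ Nat.card K' ^ Module.finrank K' V :=
        Nat.pow_le_pow_right (by omega) hge
      omega
  have hbij : Function.Bijective fun c => (⟨s c, hsZ c⟩ : Z) :=
    hsinj.bijective_of_nat_card_le (by rw [Nat.card_units]; omega)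
  let e : Kˣ ≃ Z := Equiv.ofBijective _ hbij
  have hzs : ∀ (z : Z) (v : V), (z : A) • v = ((e.symm z : Kˣ) : K) • v := by
    intro z v
    conv_lhs => rw [← e.apply_symm_apply z]
    exact hs _ v
  have hinjv : ∀ c d : Kˣ, (∀ v : V, (c : K) • v = (d : K) • v) → c = d := fun c d h =>
    Units.ext (smul_left_injective K hu (h u))
  let ι₀ : Z →* Kˣ := MonoidHom.mk' (fun z => e.symm z) fun z w => hinjv _ _ fun v => by
    rw [← hzs, Subgroup.coe_mul, mul_smul, hzs z, hzs w, Units.val_mul, mul_smul]
  have hcen : Subgroup.centralizer (Z : Set A) = ⊤ := eq_top_iff.2 fun g _ =>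
    Subgroup.mem_centralizer_iff.2 fun z hz => eq_of_smul_eq_smul fun v : V => by
      rw [mul_smul, mul_smul, hzs ⟨z, hz⟩, hzs ⟨z, hz⟩, hcomm]
  by_cases hne : Subgroup.centralizer (Z : Set A) ≤ Z
  · refine ⟨u, u, fun a ha _ v => ?_⟩
    have haZ : a ∈ Z := hne (hcen ▸ Subgroup.mem_top a)
    have h1 : ((e.symm ⟨a, haZ⟩ : Kˣ) : K) • u = (1 : K) • u := by
      rw [← hzs ⟨a, haZ⟩ u, one_smul]; exact ha
    have h2 := hzs ⟨a, haZ⟩ v
    rw [smul_left_injective K hu h1, one_smul] at h2
    exact h2
  have T : Terminal p Z V ι₀ :=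
    { hA := hA
      ih := ih
      hcomm := hcomm
      hι := e.symm.injective
      hιs := e.symm.surjective
      hιv := fun z v => (hzs z v).symm
      hmax := hmax
      hne := hne }
  obtain ⟨r, hr⟩ := socle_index_square T.hι hmax hne
  obtain ⟨hr2, -⟩ := T.socle_hom hr
  rcases T.pair_or_dim hr with h | hdim
  · exact h
  obtain ⟨q, hq, hqr⟩ := Nat.exists_prime_and_dvd (n := r) (by omega)
  rcases T.pair_or_exp hr hq hqr with h | ⟨hexpq, k, hk⟩
  · exact h
  have hodd : Odd (Nat.card K) := by
    haveI := Fintype.ofFinite K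
    obtain ⟨n, -, hn⟩ := FiniteField.card K p
    rw [Nat.card_eq_fintype_card, hn]
    exact ((Fact.out : p.Prime).odd_of_ne_two (by omega)).pow
  by_cases hQ : q = 2 ∧ (Nat.card K = 3 ∨ Nat.card K = 5 ∨ Nat.card K = 9)
  · obtain ⟨rfl, hQ⟩ := hQ
    exact T.pair_small hr hdim hk hexpq hQ
  · exact T.pair_frame hr hdim hq hqr hexpq hodd fun hq2 => by
      push Not at hQ
      exact hQ hq2

end

/-- Coprime solvable linear groups have pairs, given the theorem for smaller modules. -/
theorem pair_K {p : ℕ} [Fact p.Prime] (hp3 : 3 ≤ p) {V : Type u} [AddCommGroup V] [Finite V]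
    (hexp : ∀ x : V, p • x = 0) (ih : Small.{u} p (Nat.card V)) :
    ∀ (d : ℕ) (K : Type u) [Field K] [Finite K] [Module K V] [CharP K p]
      (A : Type u) [Group A] [Finite A] [Group.IsSolvable A] [DistribMulAction A V],
      ¬ p ∣ Nat.card A → (∀ (g : A) (k : K) (v : V), g • (k • v) = k • (g • v)) →
      Module.finrank K V = d → Pair A V := by
  intro d
  induction d using Nat.strong_induction_on with
  | _ d IH =>
  intro K _ _ _ _ A _ _ _ _ hA hcomm hd
  classical
  letI : DistribMulAction (A × Kˣ) V :=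
    { smul := fun b v => (b.2 : K) • (b.1 • v)
      one_smul := fun v => by
        change ((1 : Kˣ) : K) • ((1 : A) • v) = v
        rw [one_smul, Units.val_one, one_smul]
      mul_smul := fun b c v => by
        change ((b.2 * c.2 : Kˣ) : K) • ((b.1 * c.1) • v) =
          (b.2 : K) • (b.1 • ((c.2 : K) • (c.1 • v)))
        rw [hcomm, mul_smul, Units.val_mul, mul_smul]
      smul_zero := fun b => by
        change (b.2 : K) • (b.1 • (0 : V)) = 0
        rw [smul_zero, smul_zero]
      smul_add := fun b v w => by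
        change (b.2 : K) • (b.1 • (v + w)) = (b.2 : K) • (b.1 • v) + (b.2 : K) • (b.1 • w)
        rw [smul_add, smul_add] }
  let π : A × Kˣ →* (AddMonoid.End V)ˣ :=
    (DistribMulAction.toAddMonoidEnd (A × Kˣ) V).toHomUnits
  let X := π.range
  haveI : Finite X := Finite.of_surjective _ π.rangeRestrict_surjective
  haveI : Group.IsSolvable Kˣ := Group.isSolvable_of_comm mul_comm
  haveI : Group.IsSolvable (A × Kˣ) := inferInstance
  haveI : Group.IsSolvable X := Group.isSolvable_of_surjective π.rangeRestrict_surjective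
  haveI : FaithfulSMul X V := ⟨fun {s t} h => Subtype.ext (Units.ext (AddMonoidHom.ext h))⟩
  refine pair_of_image (π.rangeRestrict.comp (MonoidHom.inl A Kˣ)) (fun a v => ?_) ?_
  · change ((1 : Kˣ) : K) • (a • v) = a • v
    rw [Units.val_one, one_smul]
  have hX : ¬ p ∣ Nat.card X := by
    intro hd
    have h1 := hd.trans (Subgroup.card_range_dvd π)
    rw [Nat.card_prod] at h1
    rcases (Fact.out : p.Prime).dvd_mul.1 h1 with h | h
    · exact hA h
    · haveI := Fintype.ofFinite K
      obtain ⟨n, -, hn⟩ := FiniteField.card K p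
      rw [Nat.card_units, Nat.card_eq_fintype_card, hn] at h
      have h2 : p ∣ p ^ (n : ℕ) := dvd_pow_self p n.2.ne'
      have h3 : p ∣ 1 := by
        have hle : 1 ≤ p ^ (n : ℕ) := Nat.one_le_pow _ _ (Fact.out : p.Prime).pos
        have := Nat.dvd_sub h2 h
        rwa [Nat.sub_sub_self hle] at this
      exact (Fact.out : p.Prime).not_dvd_one h3
  refine pair_full (K := K) hp3 hexp hX ih ?_ ?_ ?_
  · rintro ⟨_, ⟨a, c⟩, rfl⟩ k v
    change (c : K) • (a • (k • v)) = k • ((c : K) • (a • v))
    rw [hcomm, smul_comm]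
  · intro c
    refine ⟨π.rangeRestrict (1, c), fun v => ?_⟩
    change (c : K) • ((1 : A) • v) = _
    rw [one_smul]
  · intro K' _ _ _ _ B _ _ _ _ hB hlin hlt
    exact IH _ (hd ▸ hlt) K' B hB hlin rfl

end Cfsg.Lib.CoprimeBase
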