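import Cfsg.Agent.CoprimeBase.Basic
import Cfsg.Agent.OddBase.Semilinear

/-!
Invariant projections onto a line: semilinear groups and planes.
-/

set_option autoImplicit false
set_option linter.unusedSectionVars false

namespace Cfsg.Lib.CoprimeBase

open Cfsg.Lib.OddBase

universe u

variable {A V : Type u} [Group A] [Finite A] [AddCommGroup V] [Finite V] [DistribMulAction A V]
  {K : Type u} [Field K] [Finite K] [Module K V] {p : ℕ} [Fact p.Prime] [CharP K p]

/-- A projection onto a line commuting with the stabiliser of its generator. -/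
theorem exists_proj (hA : ¬ p ∣ Nat.card A) (σ : A → K → K)
    (hsemi : ∀ (g : A) (k : K) (v : V), g • (k • v) = σ g k • (g • v)) {x : V} (hx : x ≠ 0) :
    ∃ P : V →ₗ[K] V, P x = x ∧ (∀ v, ∃ c : K, P v = c • x) ∧
      ∀ g : A, g • x = x → ∀ v, P (g • v) = g • P v := by
  classical
  obtain ⟨f0, hf0⟩ := Module.Projective.exists_dual_ne_zero K hx
  let f : V →ₗ[K] K := (f0 x)⁻¹ • f0
  have hf : f x = 1 := by simp [f, inv_mul_cancel₀ hf0]
  let H := MulAction.stabilizer A x
  haveI : Fintype H := Fintype.ofFinite H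
  haveI := Fintype.ofFinite A
  let c : K := (Nat.card H : K)⁻¹
  have hc : c * (Nat.card H : K) = 1 := inv_mul_cancel₀ fun h =>
    hA (((CharP.cast_eq_zero_iff K p _).1 h).trans (Subgroup.card_subgroup_dvd_card H))
  have hσsurj : ∀ (g : A) (k : K) (v : V), g⁻¹ • (k • v) = σ g⁻¹ k • (g⁻¹ • v) := fun g => hsemi g⁻¹
  let Q : V → V := fun v => c • ∑ g : H, (g : A) • (f ((g : A)⁻¹ • v) • x)
  have hQadd : ∀ v w, Q (v + w) = Q v + Q w := fun v w => by
    simp only [Q, smul_add, map_add, add_smul, Finset.sum_add_distrib]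
  have hQsmul : ∀ (k : K) v, Q (k • v) = k • Q v := by
    intro k v
    simp only [Q, Finset.smul_sum, smul_comm k c]
    refine Finset.sum_congr rfl fun g _ => congrArg (c • ·) ?_
    rw [hσsurj, map_smul, smul_eq_mul, mul_smul, hsemi]
    congr 1
    -- the twist cancels
    have hxg : (g : A) • x = x := MulAction.mem_stabilizer_iff.1 g.2
    have h1 := congrArg ((g : A) • ·) (hσsurj (g : A) k x)
    simp only [smul_inv_smul] at h1
    rw [inv_smul_eq_iff.2 hxg.symm, hsemi, hxg] at h1
    exact (smul_left_injective K hx h1).symm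
  let P : V →ₗ[K] V := { toFun := Q, map_add' := hQadd, map_smul' := hQsmul }
  refine ⟨P, ?_, fun v => ?_, fun g hg v => ?_⟩
  · change Q x = x
    simp only [Q]
    rw [Finset.sum_congr rfl (g := fun _ => x) fun g _ => ?_, Finset.sum_const, Finset.card_univ,
      ← Nat.card_eq_fintype_card, ← Nat.cast_smul_eq_nsmul K, smul_smul, hc, one_smul]
    have hxg : (g : A) • x = x := MulAction.mem_stabilizer_iff.1 g.2
    rw [inv_smul_eq_iff.2 hxg.symm, hf, one_smul, hxg]
  · refine ⟨c * ∑ g : H, σ (g : A) (f ((g : A)⁻¹ • v)), ?_⟩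
    change Q v = _
    simp only [Q, mul_smul, Finset.sum_smul]
    refine congrArg (c • ·) (Finset.sum_congr rfl fun g _ => ?_)
    rw [hsemi, MulAction.mem_stabilizer_iff.1 g.2]
  · change Q (g • v) = g • Q v
    simp only [Q]
    have hσc : σ g c = c := by
      refine smul_left_injective K hx ?_
      have h1 : g • (c • x) = σ g c • x := by rw [hsemi, hg]
      have h2 : ((Nat.card H) • (c • x) : V) = x := by
        rw [← Nat.cast_smul_eq_nsmul K, smul_smul, mul_comm, hc, one_smul]
      have h3 : (Nat.card H) • (g • (c • x)) = x := by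
        rw [← DistribSMul.toAddMonoidHom_apply V g, ← map_nsmul, h2, DistribSMul.toAddMonoidHom_apply, hg]
      rw [h1, ← Nat.cast_smul_eq_nsmul K, smul_smul] at h3
      have h4 : (Nat.card H : K) * σ g c = 1 := smul_left_injective K hx (h3.trans (one_smul K x).symm)
      rw [show σ g c = c * ((Nat.card H : K) * σ g c) by rw [← mul_assoc, hc, one_mul], h4, mul_one]
    rw [hsemi, hσc, Finset.smul_sum (r := g)]
    refine congrArg (c • ·) ?_
    refine Fintype.sum_equiv (Equiv.mulLeft (⟨g, MulAction.mem_stabilizer_iff.2 hg⟩ : H)⁻¹) _ _ fun h => ?_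
    simp only [Equiv.coe_mulLeft, Subgroup.coe_mul, Subgroup.coe_inv, mul_inv_rev, inv_inv, mul_smul,
      smul_inv_smul]

/-- A semilinear group has a pair when its linear part has one. -/
theorem pair_of_semilinear (hA : ¬ p ∣ Nat.card A) (σ : A →* RingAut K)
    (hsemi : ∀ (g : A) (k : K) (v : V), g • (k • v) = σ g k • (g • v))
    (h : Pair σ.ker V) : Pair A V := by
  classical
  rcases subsingleton_or_nontrivial V with hs | hnt
  · exact ⟨0, 0, fun a _ _ w => Subsingleton.elim _ _⟩
  obtain ⟨θ, hθ⟩ := IsCyclic.exists_generator (α := Kˣ)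
  obtain ⟨x, y, hx, hxy⟩ : ∃ x y : V, x ≠ 0 ∧ ∀ a : σ.ker, a • x = x → a • y = y → ∀ w : V, a • w = w := by
    obtain ⟨x, y, hxy⟩ := h
    by_cases hx : x = 0
    · by_cases hy : y = 0
      · obtain ⟨z, hz⟩ := exists_ne (0 : V)
        exact ⟨z, z, hz, fun a _ _ => hxy a (by rw [hx, smul_zero]) (by rw [hy, smul_zero])⟩
      · exact ⟨y, y, hy, fun a h1 _ => hxy a (by rw [hx, smul_zero]) h1⟩
    · exact ⟨x, y, hx, hxy⟩
  obtain ⟨P, hPx, hPline, hPcomm⟩ := exists_proj hA (fun g k => σ g k) hsemi hx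
  obtain ⟨c, hc⟩ := hPline y
  refine ⟨x, (θ : K) • x + (y - P y), fun a h1 h2 w => ?_⟩
  have h3 := congrArg P h2
  rw [hPcomm a h1, map_add, map_smul, hPx, map_sub, hc, map_smul, hPx, sub_self, add_zero, hsemi, h1] at h3
  have h4 : σ a (θ : K) = θ := smul_left_injective K hx h3
  have hker : a ∈ σ.ker := by
    rw [MonoidHom.mem_ker]
    refine RingEquiv.ext fun k => ?_
    change σ a k = k
    by_cases hk : k = 0
    · rw [hk, map_zero]
    · obtain ⟨j, hj⟩ := Subgroup.mem_zpowers_iff.1 (hθ (Units.mk0 k hk))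
      have h5 : Units.map ((σ a : K ≃+* K).toMonoidHom) θ = θ := Units.ext h4
      have h6 := congrArg (Units.map ((σ a : K ≃+* K).toMonoidHom)) hj
      rw [map_zpow, h5, hj] at h6
      exact congrArg Units.val h6.symm
  have hlin : ∀ (k : K) (v : V), a • (k • v) = k • (a • v) := fun k v => by
    rw [hsemi, MonoidHom.mem_ker.1 hker]; rfl
  refine hxy ⟨a, hker⟩ h1 ?_ w
  change a • y = y
  rw [smul_add, hlin, h1, add_right_inj, smul_sub, hc, hlin, h1] at h2
  exact sub_left_injective h2

/-- A linear group in dimension at most two has a pair. -/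
theorem pair_le_two (hA : ¬ p ∣ Nat.card A) (hexp : ∀ v : V, p • v = 0)
    (hcomm : ∀ (g : A) (k : K) (v : V), g • (k • v) = k • (g • v))
    (he : Module.finrank K V ≤ 2) : Pair A V := by
  rcases subsingleton_or_nontrivial V with hs | hnt
  · exact ⟨0, 0, fun a _ _ w => Subsingleton.elim _ _⟩
  obtain ⟨x, hx⟩ := exists_ne (0 : V)
  obtain ⟨P, hPx, hPline, hPcomm⟩ := exists_proj hA (fun _ k => k) hcomm hx
  refine pair_of_comm_stabilizer hexp hA x fun a b ha hb v => ?_
  -- the kernel is at most a line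
  have hker : Module.finrank K (LinearMap.ker P) ≤ 1 := by
    have h1 := LinearMap.finrank_range_add_finrank_ker P
    have h2 : 0 < Module.finrank K (LinearMap.range P) := by
      rw [Module.finrank_pos_iff_exists_ne_zero]
      exact ⟨⟨x, x, hPx⟩, fun h => hx (congrArg Subtype.val h)⟩
    omega
  obtain ⟨u, hu⟩ := finrank_le_one_iff.1 hker
  have hact : ∀ g : A, g • x = x → ∃ d : K, g • (u : V) = d • (u : V) := fun g hg => by
    have hmem : g • (u : V) ∈ LinearMap.ker P := by
      rw [LinearMap.mem_ker, hPcomm g hg, LinearMap.mem_ker.1 u.2, smul_zero]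
    obtain ⟨d, hd⟩ := hu ⟨_, hmem⟩
    exact ⟨d, (congrArg Subtype.val hd).symm⟩
  obtain ⟨da, hda⟩ := hact a ha
  obtain ⟨db, hdb⟩ := hact b hb
  obtain ⟨cv, hcv⟩ := hPline v
  have hmem : v - P v ∈ LinearMap.ker P := by
    rw [LinearMap.mem_ker, map_sub, hcv, map_smul, hPx, sub_self]
  obtain ⟨dv, hdv⟩ := hu ⟨_, hmem⟩
  have hdv' : v = cv • x + dv • (u : V) := by
    have h := congrArg Subtype.val hdv
    change dv • (u : V) = v - P v at h
    rw [h, ← hcv, add_sub_cancel]
  rw [hdv']
  simp only [smul_add, hcomm, ha, hb, hda, hdb, smul_smul]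
  rw [mul_assoc, mul_assoc, mul_comm da db]

end Cfsg.Lib.CoprimeBase
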