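import Cfsg.Agent.CoprimeBase.Terminal
import Cfsg.Agent.CoprimeBase.Projection

/-!
The terminal case outside small fields: frames with enough colours.
-/

set_option autoImplicit false
set_option linter.unusedSectionVars false

namespace Cfsg.Lib.CoprimeBase

open Cfsg.Lib.OddBase Cfsg.Lib.SolvBase

universe u

/-- A short list for `n`-th powers in a small cyclic group. -/
theorem three_le_powRange {K : Type*} [Field K] [Finite K] (hodd : Odd (Nat.card K))
    (hQ : Nat.card K ≠ 3 ∧ Nat.card K ≠ 5 ∧ Nat.card K ≠ 9) :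
    3 ≤ Nat.card (powMonoidHom 4 : Kˣ →* Kˣ).range := by
  classical
  have hQ2 : 2 ≤ Nat.card K := Finite.one_lt_card
  haveI := Fintype.ofFinite Kˣ
  by_cases h : 13 ≤ Nat.card K
  · have h1 : Nat.card K - 1 ≤ 4 * Nat.card (powMonoidHom 4 : Kˣ →* Kˣ).range := by
      rw [← Nat.card_units, ← Subgroup.card_mul_index (powMonoidHom 4 : Kˣ →* Kˣ).ker, Subgroup.index_ker]
      refine Nat.mul_le_mul_right _ ?_
      rw [Nat.card_eq_fintype_card]
      refine le_trans (le_of_eq (Fintype.card_of_subtype (Finset.univ.filter fun x : Kˣ => x ^ 4 = 1)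
        fun x => by simp [MonoidHom.mem_ker, powMonoidHom])) ?_
      exact IsCyclic.card_pow_eq_one_le (by norm_num)
    omega
  have hcases : Nat.card K = 7 ∨ Nat.card K = 11 := by
    obtain ⟨t, ht⟩ := hodd
    omega
  have hcard : Nat.card Kˣ = Nat.card K - 1 := Nat.card_units K
  rw [IsCyclic.card_powMonoidHom_range, hcard]
  rcases hcases with h | h <;> rw [h] <;> decide

variable {A : Type u} [Group A] [Finite A] [Group.IsSolvable A] {Z : Subgroup A} [Z.Normal]
  [IsMulCommutative Z] {K : Type u} [Field K] [Finite K] {V : Type u} [AddCommGroup V] [Finite V]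
  [DistribMulAction A V] [Module K V] [FaithfulSMul A V] [Nontrivial V]
  {p : ℕ} [Fact p.Prime] [CharP K p] {ι : Z →* Kˣ}

/-- The socle modulo `Z` has prime exponent unless it splits. -/
theorem Terminal.pair_or_exp (T : Terminal p Z V ι) {r : ℕ}
    (hr : Z.relIndex (socle Z (Subgroup.centralizer (Z : Set A))) = r * r) {q : ℕ} (hq : q.Prime)
    (hqr : q ∣ r) :
    Pair A V ∨ ((∀ l : Soc Z, ((l ^ q : Soc Z) : A) ∈ Z) ∧ ∃ k, r = q ^ k) := by
  classical
  set L := socle Z (Subgroup.centralizer (Z : Set A)) with hL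
  have hZL : Z ≤ L := (exists_socle T.hne).le
  haveI : (Z.subgroupOf L).Normal := Subgroup.Normal.subgroupOf inferInstance L
  haveI : Fact q.Prime := ⟨hq⟩
  have hcomm' : ∀ x ∈ L, ∀ y ∈ L, Commute ((x : A) : A ⧸ Z) ((y : A) : A ⧸ Z) := fun x hx y hy =>
    socBar_comm (Subgroup.mem_map_of_mem _ hx) (Subgroup.mem_map_of_mem _ hy)
  let N : Subgroup A :=
    { carrier := {x | x ∈ L ∧ x ^ q ∈ Z}
      one_mem' := ⟨one_mem L, by rw [one_pow]; exact one_mem Z⟩
      mul_mem' := fun {x y} hx hy => ⟨mul_mem hx.1 hy.1, by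
        rw [← QuotientGroup.eq_one_iff, QuotientGroup.mk_pow, QuotientGroup.mk_mul,
          (hcomm' x hx.1 y hy.1).mul_pow, ← QuotientGroup.mk_pow, ← QuotientGroup.mk_pow,
          (QuotientGroup.eq_one_iff _).2 hx.2, (QuotientGroup.eq_one_iff _).2 hy.2, mul_one]⟩
      inv_mem' := fun {x} hx => ⟨inv_mem hx.1, by rw [inv_pow]; exact inv_mem hx.2⟩ }
  have hN : N.Normal := ⟨fun x hx g => ⟨(socle_normal Z _).conj_mem x hx.1 g, by
    rw [conj_pow]; exact (inferInstance : Z.Normal).conj_mem _ hx.2 g⟩⟩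
  have hcard : Nat.card (L ⧸ Z.subgroupOf L) = r * r := by
    rw [← hr, Subgroup.relIndex, Subgroup.index_eq_card]
  have helem : ∀ s : ℕ, s.Prime → s ∣ r → ∃ x ∈ L, x ∉ Z ∧ x ^ s ∈ Z := by
    intro s hs hsr
    haveI : Fact s.Prime := ⟨hs⟩
    obtain ⟨xq, hxq⟩ := exists_prime_orderOf_dvd_card' (G := L ⧸ Z.subgroupOf L) s
      (hcard ▸ hsr.mul_right r)
    obtain ⟨⟨x, hxL⟩, rfl⟩ := QuotientGroup.mk_surjective xq
    refine ⟨x, hxL, fun h => ?_, ?_⟩
    · rw [(QuotientGroup.eq_one_iff (⟨x, hxL⟩ : L)).2 (show (⟨x, hxL⟩ : L) ∈ Z.subgroupOf L from h),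
        orderOf_one] at hxq
      exact hs.ne_one hxq.symm
    · have := pow_orderOf_eq_one ((⟨x, hxL⟩ : L) : L ⧸ Z.subgroupOf L)
      rw [hxq, ← QuotientGroup.mk_pow, QuotientGroup.eq_one_iff] at this
      exact this
  have hZN : Z < N := by
    refine lt_of_le_of_ne (fun z hz => ⟨hZL hz, pow_mem hz q⟩) fun h => ?_
    obtain ⟨x, hx1, hx2, hx3⟩ := helem q hq hqr
    exact hx2 (h.ge ⟨hx1, hx3⟩)
  by_cases hNL : N = L
  swap
  · exact Or.inl (T.pair_of_normal hr hN hZN (lt_of_le_of_ne (fun x hx => hx.1) hNL))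
  right
  have hexp : ∀ l : Soc Z, ((l ^ q : Soc Z) : A) ∈ Z := fun l => by
    rw [Subgroup.coe_pow]
    exact (hNL.ge l.2).2
  refine ⟨hexp, ?_⟩
  have hr0 : r ≠ 0 := fun h => by
    rw [h, mul_zero] at hcard
    exact (Nat.card_pos (α := L ⧸ Z.subgroupOf L)).ne' hcard
  refine ⟨r.primeFactorsList.length, Nat.eq_prime_pow_of_unique_prime_dvd hr0 fun {s} hs hsr => ?_⟩
  obtain ⟨x, hx1, hx2, hx3⟩ := helem s hs hsr
  by_contra hne
  refine hx2 ?_
  have hgcd : Nat.gcd s q = 1 := (Nat.coprime_primes hs hq).2 hne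
  have h1 : ((x : A) : A ⧸ Z) ^ Nat.gcd s q = 1 := pow_gcd_eq_one.2
    ⟨by rw [← QuotientGroup.mk_pow]; exact (QuotientGroup.eq_one_iff _).2 hx3,
     by rw [← QuotientGroup.mk_pow]; exact (QuotientGroup.eq_one_iff _).2 (hNL.ge hx1).2⟩
  rw [hgcd, pow_one] at h1
  exact (QuotientGroup.eq_one_iff x).1 h1

/-- Enough classes of coefficients. -/
theorem Terminal.pair_frame (T : Terminal p Z V ι) {r : ℕ}
    (hr : Z.relIndex (socle Z (Subgroup.centralizer (Z : Set A))) = r * r)
    (hdim : Module.finrank K V = r) {q : ℕ} (hq : q.Prime) (hqr : q ∣ r)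
    (hexp : ∀ l : Soc Z, ((l ^ q : Soc Z) : A) ∈ Z) (hodd : Odd (Nat.card K))
    (hQ : q = 2 → Nat.card K ≠ 3 ∧ Nat.card K ≠ 5 ∧ Nat.card K ≠ 9) : Pair A V := by
  classical
  haveI : Fact q.Prime := ⟨hq⟩
  obtain ⟨F, hFdim, hFn, -⟩ := exists_frame T.hι T.hιv (fun g _ => T.hcomm g) T.hmax T.hne hr
  have hn : 0 < Nat.card F.I := Nat.card_pos
  have he : Module.finrank K F.E ≤ 2 := by
    rcases hFn with h | ⟨h, -⟩ <;> rw [hdim, h] at hFdim
    · have := Nat.eq_of_mul_eq_mul_left hn ((mul_one _).trans hFdim); omega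
    · rw [mul_comm 2] at hFdim
      have := Nat.eq_of_mul_eq_mul_left hn hFdim; omega
  have hI : ∀ i : F.I, i ^ q = 1 := fun i => by
    rw [← F.hlift i, ← map_pow]; exact psi_eq_one T.hιv F _ (hexp _)
  by_cases hq2 : q = 2
  · subst hq2
    have h3 := three_le_powRange hodd (hQ rfl)
    haveI : Fintype (powMonoidHom 4 : Kˣ →* Kˣ).range := Fintype.ofFinite _
    rw [Nat.card_eq_fintype_card] at h3
    let t : Fin 3 → (powMonoidHom 4 : Kˣ →* Kˣ).range := fun i => (Fintype.equivFin _).symm (Fin.castLE h3 i)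
    have ht : Function.Injective t := (Fintype.equivFin _).symm.injective.comp (Fin.castLE_injective _)
    obtain ⟨c, hc1, hrig, hone, hbig⟩ := exists_rigid_two F.I
    let emb : Fin 4 → Option (powMonoidHom 4 : Kˣ →* Kˣ).range :=
      fun x => if h : (x : ℕ) < 3 then some (t ⟨x, h⟩) else none
    have hemb : Function.Injective emb := by
      intro x y h
      simp only [emb] at h
      split_ifs at h with h1 h2
      · exact Fin.ext (Fin.mk.inj_iff.1 (ht (Option.some_injective _ h)))
      · exact Fin.ext (by omega)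
    have hnone : ∀ x, emb x = none → x = 3 := fun x h => by
      simp only [emb] at h
      split_ifs at h with h1
      exact Fin.ext (by
        have := x.2
        change (x : ℕ) = 3
        omega)
    refine pair_of_classes T.hι T.hιs T.hιv T.hcomm T.hne F he (q := 2) (m := 4) (by norm_num)
      (by norm_num) (by decide) hexp (fun i => emb (c i)) (fun π hπ h => hrig π hπ fun i hi => ?_)
      (fun i j _ _ hi hj => hone i j (hnone _ hi) (hnone _ hj)) (fun i _ hi => hbig i (hnone _ hi))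
    exact hemb (h i fun h1 => hi (h1 ▸ hc1))
  · have hq3 : 3 ≤ q := by have := hq.two_le; omega
    have hN2 : 2 ≤ Nat.card (powMonoidHom q : Kˣ →* Kˣ).range := by
      have h1 := card_le_mul_powRange (K := K) q hq.pos
      have h2 : q ∣ Nat.card K - 1 := by
        rw [← Nat.card_units]
        exact (prime_dvd_card T.hι T.hmax T.hne q hq (hr ▸ hqr.mul_right r)).trans
          (Subgroup.card_dvd_of_injective ι T.hι)
      obtain ⟨s, hs⟩ := h2
      obtain ⟨t, ht⟩ := hodd
      have hQ2 : 2 ≤ Nat.card K := Finite.one_lt_card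
      by_contra hlt
      push Not at hlt
      have h4 : q * s ≤ q * 1 := by
        rw [← hs]
        exact h1.trans (Nat.mul_le_mul_left q (by omega))
      have h5 : s ≤ 1 := Nat.le_of_mul_le_mul_left h4 hq.pos
      have hqodd : Odd q := hq.odd_of_ne_two hq2
      obtain ⟨u, hu⟩ := hqodd
      interval_cases s
      · omega
      · omega
    haveI : Fintype (powMonoidHom q : Kˣ →* Kˣ).range := Fintype.ofFinite _
    rw [Nat.card_eq_fintype_card] at hN2
    let t : Fin 2 → (powMonoidHom q : Kˣ →* Kˣ).range := fun i => (Fintype.equivFin _).symm (Fin.castLE hN2 i)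
    have ht : Function.Injective t := (Fintype.equivFin _).symm.injective.comp (Fin.castLE_injective _)
    obtain ⟨c, hrig, hone, hbig⟩ := exists_colour_odd hq3 F.I hI
    let emb : Option Bool → Option (powMonoidHom q : Kˣ →* Kˣ).range :=
      Option.map fun b => t (cond b 1 0)
    have hemb : Function.Injective emb := Option.map_injective fun a b h => by
      have := ht h
      cases a <;> cases b <;> simp_all
    refine pair_of_classes T.hι T.hιs T.hιv T.hcomm T.hne F he (q := q) (m := q) hq.pos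
      dvd_rfl ?_ hexp (fun i => emb (c i)) (fun π hπ h => hrig π hπ fun i hi => hemb (h i hi))
      (fun i j _ _ hi hj => hone i j (Option.map_eq_none_iff.1 hi) (Option.map_eq_none_iff.1 hj))
      (fun i _ hi => hbig i (Option.map_eq_none_iff.1 hi))
    exact hq.dvd_choose_self (by norm_num) (by omega)

end Cfsg.Lib.CoprimeBase
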