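import Cfsg.Agent.CoprimeBase.Tensor

/-!
Subgroups with scalar commutators span matrix algebras, and so do their centralisers.
-/

set_option autoImplicit false
set_option linter.unusedSectionVars false

namespace Cfsg.Lib.CoprimeBase

universe u

variable {A : Type u} [Group A] [Finite A] {K : Type u} [Field K] [Finite K] {V : Type u}
  [AddCommGroup V] [Finite V] [DistribMulAction A V] [Module K V]

/-- The linear operators of a linear action. -/
def Lm (hcommK : ∀ (a : A) (k : K) (v : V), a • (k • v) = k • (a • v)) : A →* Module.End K V where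
  toFun a := { toFun := fun v => a • v, map_add' := smul_add a, map_smul' := hcommK a }
  map_one' := LinearMap.ext fun v => one_smul A v
  map_mul' a b := LinearMap.ext fun v => mul_smul a b v

/-- The span of a subgroup. -/
def algSpan (hcommK : ∀ (a : A) (k : K) (v : V), a • (k • v) = k • (a • v)) (N : Subgroup A) :
    Submodule K (Module.End K V) :=
  Submodule.span K (Lm hcommK '' (N : Set A))

/-- An element acts as a scalar. -/
def Scal (K : Type u) [Field K] (V : Type u) [AddCommGroup V] [DistribMulAction A V] [Module K V]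
    (a : A) : Prop :=
  ∃ c : K, ∀ v : V, a • v = c • v

variable {hcommK : ∀ (a : A) (k : K) (v : V), a • (k • v) = k • (a • v)}

theorem Lm_mem {N : Subgroup A} {l : A} (hl : l ∈ N) : Lm hcommK l ∈ algSpan hcommK N :=
  Submodule.subset_span ⟨l, hl, rfl⟩

theorem one_mem_algSpan (N : Subgroup A) : (1 : Module.End K V) ∈ algSpan hcommK N :=
  map_one (Lm hcommK) ▸ Lm_mem (one_mem N)

theorem mul_mem_algSpan {N : Subgroup A} {S T : Module.End K V} (hS : S ∈ algSpan hcommK N)
    (hT : T ∈ algSpan hcommK N) : S * T ∈ algSpan hcommK N := by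
  unfold algSpan at *
  induction hS using Submodule.span_induction with
  | mem x hx =>
    induction hT using Submodule.span_induction with
    | mem y hy =>
      obtain ⟨l, hl, rfl⟩ := hx
      obtain ⟨m, hm, rfl⟩ := hy
      rw [← map_mul]
      exact Submodule.subset_span ⟨l * m, mul_mem hl hm, rfl⟩
    | zero => rw [mul_zero]; exact zero_mem _
    | add y z _ _ hy hz => rw [mul_add]; exact add_mem hy hz
    | smul k y _ hy => rw [mul_smul_comm]; exact Submodule.smul_mem _ k hy
  | zero => rw [zero_mul]; exact zero_mem _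
  | add y z _ _ hy hz => rw [add_mul]; exact add_mem hy hz
  | smul k y _ hy => rw [smul_mul_assoc]; exact Submodule.smul_mem _ k hy

/-- Elements of commuting subgroups span commuting algebras. -/
theorem algSpan_commute {N N' : Subgroup A} (h : ∀ l ∈ N, ∀ m ∈ N', ∀ v : V, l • m • v = m • l • v)
    {S T : Module.End K V} (hS : S ∈ algSpan hcommK N) (hT : T ∈ algSpan hcommK N') : S * T = T * S := by
  unfold algSpan at *
  induction hS using Submodule.span_induction with
  | mem x hx =>
    induction hT using Submodule.span_induction with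
    | mem y hy =>
      obtain ⟨l, hl, rfl⟩ := hx
      obtain ⟨m, hm, rfl⟩ := hy
      exact LinearMap.ext fun v => h l hl m hm v
    | zero => simp
    | add y z _ _ hy hz => rw [mul_add, add_mul, hy, hz]
    | smul k y _ hy => rw [mul_smul_comm, smul_mul_assoc, hy]
  | zero => simp
  | add y z _ _ hy hz => rw [mul_add, add_mul, hy, hz]
  | smul k y _ hy => rw [mul_smul_comm, smul_mul_assoc, hy]

/-- Conjugation carries spans to spans. -/
theorem algSpan_conj {N N' : Subgroup A} (a : A) (h : ∀ l ∈ N, a * l * a⁻¹ ∈ N')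
    {S : Module.End K V} (hS : S ∈ algSpan hcommK N) :
    Lm hcommK a * S * Lm hcommK a⁻¹ ∈ algSpan hcommK N' := by
  unfold algSpan at *
  induction hS using Submodule.span_induction with
  | mem x hx =>
    obtain ⟨l, hl, rfl⟩ := hx
    rw [← map_mul, ← map_mul]
    exact Submodule.subset_span ⟨_, h l hl, rfl⟩
  | zero => rw [mul_zero, zero_mul]; exact zero_mem _
  | add y z _ _ hy hz => rw [mul_add, add_mul]; exact add_mem hy hz
  | smul k y _ hy => rw [mul_smul_comm, smul_mul_assoc]; exact Submodule.smul_mem _ k hy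

variable (hcommK)

set_option maxHeartbeats 1000000 in
/-- A subgroup with scalar commutators and scalar centre spans a matrix algebra. -/
theorem exists_matrix_hom [Nontrivial V] (N : Subgroup A)
    (hcom : ∀ l ∈ N, ∀ m ∈ N, ∃ c : K, ∀ v : V, m • l • v = c • (l • m • v))
    (hcen : ∀ l ∈ N, (∀ m ∈ N, ∀ v : V, m • l • v = l • m • v) → Scal K V l)
    (M : Subgroup N) (hM : ∀ l : N, l ∈ M ↔ Scal K V (l : A)) :
    ∃ n : ℕ, ∃ φ : Module.End K (Fin n → K) →ₐ[K] Module.End K V, Function.Injective φ ∧
      n * n = M.index ∧ LinearMap.range φ.toLinearMap = algSpan hcommK N ∧ 1 ≤ n := by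
  classical
  choose cf hcf using hcom
  let χ : N → N → K := fun l m => cf (l : A) l.2 (m : A) m.2
  have hχ : ∀ (l m : N) (v : V), (m : A) • (l : A) • v = χ l m • ((l : A) • (m : A) • v) :=
    fun l m v => hcf _ l.2 _ m.2 v
  have hsame : ∀ l l' : N, (∀ m, χ l m = χ l' m) → l⁻¹ * l' ∈ M := by
    intro l l' h
    rw [hM]
    refine hcen _ (l⁻¹ * l').2 fun m hm v => ?_
    let w := ((l⁻¹ * l' : N) : A) • m • v
    apply MulAction.injective (l : A)
    change (l : A) • m • ((l⁻¹ * l' : N) : A) • v = (l : A) • ((l⁻¹ * l' : N) : A) • m • v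
    rw [Subgroup.coe_mul, Subgroup.coe_inv, mul_smul, mul_smul, smul_inv_smul]
    have h1 := hχ l ⟨m, hm⟩ ((l : A)⁻¹ • (l' : A) • v)
    have h2 := hχ l' ⟨m, hm⟩ v
    rw [smul_inv_smul, h2, h] at h1
    have hne : χ l' ⟨m, hm⟩ ≠ 0 := fun h0 => by
      obtain ⟨u, hu⟩ := exists_ne (0 : V)
      have h3 := hχ l' ⟨m, hm⟩ ((l' : A)⁻¹ • m⁻¹ • u)
      rw [h0, zero_smul, smul_inv_smul, smul_inv_smul] at h3
      exact hu h3
    exact (smul_right_injective V hne h1).symm
  have hmul : ∀ l l' : N, (∀ m, χ l m = χ l' m) → ∃ c : K, Lm hcommK (l' : A) = c • Lm hcommK (l : A) := by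
    intro l l' h
    obtain ⟨c, hc⟩ := (hM _).1 (hsame l l' h)
    refine ⟨c, LinearMap.ext fun v => ?_⟩
    change (l' : A) • v = c • ((l : A) • v)
    have h1 := congrArg ((l : A) • ·) (hc v)
    simp only [Subgroup.coe_mul, Subgroup.coe_inv, mul_smul, smul_inv_smul, hcommK] at h1
    exact h1
  have hconjl : ∀ (l m : N), Lm hcommK (m : A) * Lm hcommK (l : A) * Lm hcommK (m : A)⁻¹ =
      χ l m • Lm hcommK (l : A) := fun l m => LinearMap.ext fun v => by
    change (m : A) • (l : A) • (m : A)⁻¹ • v = χ l m • ((l : A) • v)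
    rw [hχ, smul_inv_smul]
  haveI := Fintype.ofFinite N
  -- a shortest expression has one term
  have hkey : ∀ (P : Module.End K V → Prop), (∀ X Y, P X → P Y → P (X - Y)) → (∀ (c : K) X, P X → P (c • X)) →
      (∀ (m : N) X, P X → P (Lm hcommK (m : A) * X * Lm hcommK (m : A)⁻¹)) →
      ∀ X ∈ algSpan hcommK N, X ≠ 0 → P X → ∃ l : N, P (Lm hcommK (l : A)) := by
    intro P hsub hsmul hcj X hX hX0 hPX
    suffices ∀ k, ∀ (s : Finset N) (c : N → K), s.card ≤ k → (∑ l ∈ s, c l • Lm hcommK (l : A)) ≠ 0 →
        P (∑ l ∈ s, c l • Lm hcommK (l : A)) → ∃ l : N, P (Lm hcommK (l : A)) by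
      have himg : Lm hcommK '' (N : Set A) = Set.range fun l : N => Lm hcommK (l : A) := by
        rw [Set.image_eq_range]; rfl
      rw [algSpan, himg, Submodule.mem_span_range_iff_exists_fun] at hX
      obtain ⟨c, rfl⟩ := hX
      exact this _ Finset.univ c le_rfl hX0 hPX
    intro k
    induction k with
    | zero =>
      intro s c hs h0
      rw [Finset.card_eq_zero.1 (Nat.le_zero.1 hs)] at h0
      simp at h0
    | succ k ihk =>
      intro s c hs h0 hP
      obtain ⟨l₀, hl₀⟩ : s.Nonempty := Finset.nonempty_iff_ne_empty.2 fun h => h0 (by simp [h])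
      by_cases hall : ∀ l ∈ s, ∀ m, χ l₀ m = χ l m
      · have hd : ∀ l : N, ∃ d : K, l ∈ s → Lm hcommK (l : A) = d • Lm hcommK (l₀ : A) := fun l => by
          by_cases hl : l ∈ s
          · obtain ⟨d, hd⟩ := hmul l₀ l (hall l hl)
            exact ⟨d, fun _ => hd⟩
          · exact ⟨0, fun h => absurd h hl⟩
        choose d hd using hd
        rw [Finset.sum_congr rfl fun l hl => by rw [hd l hl, smul_smul], ← Finset.sum_smul] at hP h0
        refine ⟨l₀, ?_⟩
        have := hsmul (∑ l ∈ s, c l * d l)⁻¹ _ hP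
        rwa [smul_smul, inv_mul_cancel₀ fun h => h0 (by rw [h, zero_smul]), one_smul] at this
      push Not at hall
      obtain ⟨l₁, hl₁, m, hm⟩ := hall
      set Y := ∑ l ∈ s, c l • Lm hcommK (l : A) with hY
      have hY1 : Lm hcommK (m : A) * Y * Lm hcommK (m : A)⁻¹ - χ l₁ m • Y =
          ∑ l ∈ s.erase l₁, (c l * (χ l m - χ l₁ m)) • Lm hcommK (l : A) := by
        rw [hY, Finset.mul_sum, Finset.sum_mul, Finset.smul_sum, ← Finset.sum_sub_distrib,
          ← Finset.add_sum_erase s _ hl₁]
        simp only [mul_smul_comm, smul_mul_assoc, hconjl, smul_smul, ← sub_smul]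
        rw [mul_comm (χ l₁ m), sub_self, zero_smul, zero_add]
        exact Finset.sum_congr rfl fun l _ => by rw [mul_sub, mul_comm (χ l₁ m)]
      by_cases hc0 : c l₀ = 0
      · have he : ∑ l ∈ s.erase l₀, c l • Lm hcommK (l : A) = Y := by
          rw [hY, ← Finset.add_sum_erase s _ hl₀, hc0, zero_smul, zero_add]
        refine ihk (s.erase l₀) c ?_ (he.symm ▸ h0) (he.symm ▸ hP)
        rw [Finset.card_erase_of_mem hl₀]; omega
      by_cases hz : Lm hcommK (m : A) * Y * Lm hcommK (m : A)⁻¹ - χ l₁ m • Y = 0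
      · -- use the relation to remove the first term
        rw [hY1] at hz
        let c' : N → K := fun l => if l = l₁ then 0 else c l * (χ l m - χ l₁ m)
        have hz' : ∑ l ∈ s, c' l • Lm hcommK (l : A) = 0 := by
          rw [← Finset.add_sum_erase s _ hl₁]
          simp only [c', if_pos, zero_smul, zero_add]
          refine Eq.trans (Finset.sum_congr rfl fun l hl => ?_) hz
          rw [if_neg (Finset.ne_of_mem_erase hl)]
        have hc' : c' l₀ ≠ 0 := by
          simp only [c', if_neg (show l₀ ≠ l₁ from fun h => hm (h ▸ rfl))]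
          exact mul_ne_zero hc0 (sub_ne_zero.2 hm)
        let c'' : N → K := fun l => c l - c l₀ / c' l₀ * c' l
        have he : ∑ l ∈ s.erase l₀, c'' l • Lm hcommK (l : A) = Y := by
          have h1 : ∑ l ∈ s, c'' l • Lm hcommK (l : A) = Y := by
            simp only [c'', sub_smul, Finset.sum_sub_distrib, ← smul_smul, ← Finset.smul_sum, hz',
              smul_zero, sub_zero]
            exact hY.symm
          rw [← h1, ← Finset.add_sum_erase s _ hl₀]
          simp only [c'', div_mul_cancel₀ _ hc', sub_self, zero_smul, zero_add]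
        refine ihk (s.erase l₀) c'' ?_ (he.symm ▸ h0) (he.symm ▸ hP)
        rw [Finset.card_erase_of_mem hl₀]; omega
      · refine ihk (s.erase l₁) _ ?_ (hY1 ▸ hz) (hY1 ▸ hsub _ _ (hcj m Y hP) (hsmul _ _ hP))
        rw [Finset.card_erase_of_mem hl₁]; omega
  -- representatives
  haveI : M.Normal := by
    constructor
    intro l hl m
    rw [hM] at hl ⊢
    obtain ⟨c, hc⟩ := hl
    refine ⟨c, fun v => ?_⟩
    simp only [Subgroup.coe_mul, Subgroup.coe_inv, mul_smul, hc, hcommK, smul_inv_smul]
  let R := N ⧸ M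
  haveI : Fintype R := Fintype.ofFinite R
  let rep : R → Module.End K V := fun q => Lm hcommK ((q.out : N) : A)
  have hχM : ∀ q q' : R, (∀ m, χ q.out m = χ q'.out m) → q = q' := fun q q' h => by
    rw [← q.out_eq', ← q'.out_eq']
    exact QuotientGroup.eq.2 (hsame _ _ h)
  have hind : LinearIndependent K rep := by
    rw [Fintype.linearIndependent_iff]
    suffices ∀ k, ∀ (s : Finset R) (c : R → K), s.card ≤ k → (∑ q ∈ s, c q • rep q) = 0 →
        ∀ q ∈ s, c q = 0 from fun c hc q => this _ Finset.univ c le_rfl hc q (Finset.mem_univ q)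
    intro k
    induction k with
    | zero => intro s c hs _ q hq; rw [Finset.card_eq_zero.1 (Nat.le_zero.1 hs)] at hq; simp at hq
    | succ k ihk =>
      intro s c hs hsum q hq
      by_cases hone : ∀ q' ∈ s, q' = q
      · have hsq : s = {q} := Finset.eq_singleton_iff_unique_mem.2 ⟨hq, hone⟩
        rw [hsq, Finset.sum_singleton] at hsum
        by_contra hcq
        obtain ⟨u, hu⟩ := exists_ne (0 : V)
        have := LinearMap.congr_fun hsum u
        change c q • (((q.out : N) : A) • u) = 0 at this
        exact hu ((smul_eq_zero_iff_eq _).1 ((smul_eq_zero.1 this).resolve_left hcq))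
      push Not at hone
      obtain ⟨q', hq', hne⟩ := hone
      obtain ⟨m, hm⟩ : ∃ m, χ q.out m ≠ χ q'.out m := by
        by_contra h
        push Not at h
        exact hne (hχM q q' h).symm
      have h1 : ∑ r ∈ s.erase q', (c r * (χ r.out m - χ q'.out m)) • rep r = 0 := by
        have h2 : Lm hcommK (m : A) * (∑ r ∈ s, c r • rep r) * Lm hcommK (m : A)⁻¹ -
            χ q'.out m • (∑ r ∈ s, c r • rep r) = 0 := by simp [hsum]
        rw [Finset.mul_sum, Finset.sum_mul, Finset.smul_sum, ← Finset.sum_sub_distrib,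
          ← Finset.add_sum_erase s _ hq'] at h2
        simp only [rep, mul_smul_comm, smul_mul_assoc, hconjl, smul_smul, ← sub_smul] at h2
        rw [mul_comm (χ q'.out m), sub_self, zero_smul, zero_add] at h2
        refine Eq.trans (Finset.sum_congr rfl fun r _ => ?_) h2
        rw [mul_sub, mul_comm (χ q'.out m)]
      have h3 := ihk (s.erase q') _ (by rw [Finset.card_erase_of_mem hq']; omega) h1 q
        (Finset.mem_erase.2 ⟨hne.symm, hq⟩)
      exact (mul_eq_zero.1 h3).resolve_right (sub_ne_zero.2 hm)
  have hspan : algSpan hcommK N = Submodule.span K (Set.range rep) := by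
    refine le_antisymm (Submodule.span_le.2 ?_) (Submodule.span_le.2 ?_)
    · rintro _ ⟨l, hl, rfl⟩
      let q : R := QuotientGroup.mk ⟨l, hl⟩
      obtain ⟨c, hc⟩ := (hM _).1 (QuotientGroup.eq.1 (show (QuotientGroup.mk q.out : R) = QuotientGroup.mk ⟨l, hl⟩ from q.out_eq'))
      have hlc : Lm hcommK l = c • rep q := LinearMap.ext fun v => by
        change l • v = c • (((q.out : N) : A) • v)
        have h1 := congrArg (((q.out : N) : A) • ·) (hc v)
        simp only [Subgroup.coe_mul, Subgroup.coe_inv, mul_smul, smul_inv_smul, hcommK] at h1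
        exact h1
      rw [hlc]
      exact Submodule.smul_mem _ c (Submodule.subset_span ⟨q, rfl⟩)
    · rintro _ ⟨q, rfl⟩
      exact Lm_mem q.out.2
  have hdimB : Module.finrank K (algSpan hcommK N) = M.index := by
    rw [hspan, finrank_span_eq_card hind, Subgroup.index_eq_card, Nat.card_eq_fintype_card]
  -- the algebra is simple
  let B : Subalgebra K (Module.End K V) :=
    { carrier := algSpan hcommK N
      mul_mem' := mul_mem_algSpan
      one_mem' := one_mem_algSpan N
      add_mem' := add_mem
      zero_mem' := zero_mem _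
      algebraMap_mem' := fun k => by
        rw [Algebra.algebraMap_eq_smul_one]; exact Submodule.smul_mem _ k (one_mem_algSpan N) }
  haveI : Finite (Module.End K V) := Finite.of_injective _ DFunLike.coe_injective
  haveI : Finite B := Subtype.finite
  haveI : Nontrivial B := ⟨0, 1, fun h => by
    obtain ⟨u, hu⟩ := exists_ne (0 : V)
    exact hu (by simpa using (LinearMap.congr_fun (congrArg Subtype.val h) u).symm)⟩
  haveI : IsSimpleRing B := by
    refine IsSimpleRing.of_eq_bot_or_eq_top fun I => ?_
    by_cases hI : I = ⊥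
    · exact Or.inl hI
    right
    obtain ⟨X, hX, hX0⟩ : ∃ X ∈ I, X ≠ (0 : B) := by
      by_contra h
      push Not at h
      exact hI (eq_bot_iff.2 fun x hx => (TwoSidedIdeal.mem_bot B).2 (h x hx))
    let P : Module.End K V → Prop := fun Y => ∃ h : Y ∈ algSpan hcommK N, (⟨Y, h⟩ : B) ∈ I
    obtain ⟨l, hl, hlI⟩ := hkey P
      (fun Y Z ⟨hY, hYI⟩ ⟨hZ, hZI⟩ => ⟨sub_mem hY hZ, I.sub_mem hYI hZI⟩)
      (fun c Y ⟨hY, hYI⟩ => ⟨Submodule.smul_mem _ c hY, by
        have h := I.mul_mem_left (algebraMap K B c) _ hYI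
        rwa [← Algebra.smul_def] at h⟩)
      (fun m Y ⟨hY, hYI⟩ => ⟨mul_mem_algSpan (mul_mem_algSpan (Lm_mem m.2) hY) (Lm_mem (inv_mem m.2)), by
        exact I.mul_mem_right _ ⟨_, Lm_mem (inv_mem m.2)⟩ (I.mul_mem_left ⟨_, Lm_mem m.2⟩ _ hYI)⟩)
      X X.2 (fun h => hX0 (Subtype.ext h)) ⟨X.2, hX⟩
    have h1 := I.mul_mem_right _ ⟨Lm hcommK (l : A)⁻¹, Lm_mem (inv_mem l.2)⟩ hlI
    have h2 : (⟨Lm hcommK (l : A), hl⟩ : B) * ⟨Lm hcommK (l : A)⁻¹, Lm_mem (inv_mem l.2)⟩ = 1 :=
      Subtype.ext (by
        change Lm hcommK (l : A) * Lm hcommK (l : A)⁻¹ = 1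
        rw [← map_mul, mul_inv_cancel, map_one])
    rw [h2] at h1
    exact I.one_mem_iff.1 h1
  haveI : Module.Finite K B := Module.Finite.of_finite
  haveI : IsArtinianRing B := inferInstance
  obtain ⟨n, hn, D, _, _, _, ⟨e⟩⟩ := IsSimpleRing.exists_algEquiv_matrix_divisionRing_finite K B
  haveI : Finite D := Module.finite_of_finite K
  -- the division ring is the field
  have hDK : ∀ d : D, ∃ k : K, algebraMap K D k = d := by
    intro d
    letI := littleWedderburn D
    let T : B := e.symm (Matrix.scalar (Fin n) d)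
    have hTc : ∀ S : B, S * T = T * S := fun S => e.injective (by
      rw [map_mul, map_mul, AlgEquiv.apply_symm_apply]
      exact (Matrix.scalar_commute d (fun r => mul_comm d r) (e S)).symm)
    have hT : (T : Module.End K V) ∈ Submodule.span K (Set.range rep) := hspan ▸ T.2
    obtain ⟨c, hc⟩ := (Submodule.mem_span_range_iff_exists_fun K).1 hT
    have hcq : ∀ (m : N) (q : R), c q * (χ q.out m - 1) = 0 := by
      intro m
      have h1 : Lm hcommK (m : A) * (T : Module.End K V) * Lm hcommK (m : A)⁻¹ - (T : Module.End K V) = 0 := by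
        have := congrArg Subtype.val (hTc ⟨_, Lm_mem (hcommK := hcommK) m.2⟩)
        change Lm hcommK (m : A) * (T : Module.End K V) = (T : Module.End K V) * Lm hcommK (m : A) at this
        rw [this, mul_assoc, ← map_mul, mul_inv_cancel, map_one, mul_one, sub_self]
      rw [← hc, Finset.mul_sum, Finset.sum_mul, ← Finset.sum_sub_distrib] at h1
      simp only [rep, mul_smul_comm, smul_mul_assoc, hconjl, smul_smul, ← sub_smul] at h1
      refine Fintype.linearIndependent_iff.1 hind _ (Eq.trans (Finset.sum_congr rfl fun q _ => ?_) h1)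
      rw [mul_sub, mul_one]
    have hTs : ∀ q : R, ∃ k : K, c q • rep q = k • (1 : Module.End K V) := by
      intro q
      by_cases hq : c q = 0
      · exact ⟨0, by rw [hq, zero_smul, zero_smul]⟩
      obtain ⟨k, hk⟩ := hcen _ q.out.2 fun m hm v => by
        rw [hχ _ ⟨m, hm⟩, sub_eq_zero.1 ((mul_eq_zero.1 (hcq ⟨m, hm⟩ q)).resolve_left hq), one_smul]
      exact ⟨c q * k, LinearMap.ext fun v => by
        change c q • (((q.out : N) : A) • v) = (c q * k) • v
        rw [hk, smul_smul]⟩
    choose k hk using hTs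
    have hT' : T = algebraMap K B (∑ q, k q) := Subtype.ext (by
      rw [← hc]
      change _ = algebraMap K (Module.End K V) _
      rw [Algebra.algebraMap_eq_smul_one, Finset.sum_smul]
      exact Finset.sum_congr rfl fun q _ => hk q)
    refine ⟨∑ q, k q, ?_⟩
    have h := congrArg e hT'
    rw [AlgEquiv.apply_symm_apply, AlgEquiv.commutes] at h
    have h2 := congrFun (congrFun h 0) 0
    simpa [Matrix.algebraMap_matrix_apply] using h2.symm
  let eD : D ≃ₐ[K] K := (AlgEquiv.ofBijective (Algebra.ofId K D)
    ⟨(algebraMap K D).injective, hDK⟩).symm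
  let φ : Module.End K (Fin n → K) →ₐ[K] Module.End K V :=
    B.val.comp (((LinearMap.toMatrixAlgEquiv' (R := K) (n := Fin n)).trans
      ((eD.symm.mapMatrix).trans e.symm)).toAlgHom)
  have hφinj : Function.Injective φ := Subtype.val_injective.comp
    ((LinearMap.toMatrixAlgEquiv' (R := K) (n := Fin n)).trans ((eD.symm.mapMatrix).trans e.symm)).injective
  have hrange : LinearMap.range φ.toLinearMap = algSpan hcommK N := by
    refine le_antisymm ?_ fun X hX => ?_
    · rintro _ ⟨T, rfl⟩
      exact ((((LinearMap.toMatrixAlgEquiv' (R := K) (n := Fin n)).trans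
        ((eD.symm.mapMatrix).trans e.symm)) T : B)).2
    · obtain ⟨T, hT⟩ := (((LinearMap.toMatrixAlgEquiv' (R := K) (n := Fin n)).trans
        ((eD.symm.mapMatrix).trans e.symm))).surjective (⟨X, hX⟩ : B)
      exact ⟨T, congrArg Subtype.val hT⟩
  refine ⟨n, φ, hφinj, ?_, hrange, Nat.one_le_iff_ne_zero.2 hn.out⟩
  rw [← hdimB, ← hrange, LinearMap.finrank_range_of_inj hφinj, Module.finrank_linearMap,
    Module.finrank_fin_fun]

/-- The centraliser of a matrix algebra is a matrix algebra. -/
theorem exists_centralizer_hom {n : ℕ} (hn : 1 ≤ n)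
    (φ : Module.End K (Fin n → K) →ₐ[K] Module.End K V) :
    ∃ m : ℕ, ∃ ψ : Module.End K (Fin m → K) →ₐ[K] Module.End K V, Function.Injective ψ ∧
      Module.finrank K V = n * m ∧ (∀ S T, φ S * ψ T = ψ T * φ S) ∧
      ∀ X : Module.End K V, (∀ S, φ S * X = X * φ S) → ∃ T, ψ T = X := by
  classical
  let E : Fin n → Fin n → Module.End K (Fin n → K) := fun j k =>
    (LinearMap.proj k).smulRight (Pi.single j 1)
  have hE : ∀ j k l r, E j k * E l r = if k = l then E j r else 0 := by
    intro j k l r
    refine LinearMap.ext fun w => ?_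
    split_ifs with h
    · subst h; simp [E, Module.End.mul_apply]
    · simp [E, Module.End.mul_apply, Pi.single_eq_of_ne h]
  have hone : ∑ j, E j j = 1 := LinearMap.ext fun w => by
    simp only [E, LinearMap.coe_sum, Finset.sum_apply, LinearMap.smulRight_apply, LinearMap.proj_apply,
      Module.End.one_apply]
    exact Eq.symm (pi_eq_sum_univ' w)
  have hoff : ∀ S : Module.End K (Fin n → K), ∀ j k, E j j * S * E k k = (S (Pi.single k 1) j) • E j k := by
    intro S j k
    refine LinearMap.ext fun w => ?_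
    simp [E, Module.End.mul_apply, smul_smul, mul_comm]
  let z : Fin n := ⟨0, hn⟩
  let U : Submodule K V := LinearMap.range (φ (E z z))
  have hU : ∀ u ∈ U, φ (E z z) u = u := by
    rintro _ ⟨v, rfl⟩
    rw [← Module.End.mul_apply, ← map_mul, hE, if_pos rfl]
  have hmemU : ∀ j v, φ (E z j) v ∈ U := fun j v => ⟨φ (E z j) v, by
    rw [← Module.End.mul_apply, ← map_mul, hE, if_pos rfl]⟩
  let ψ0 : Module.End K U →ₐ[K] Module.End K V := AlgHom.ofLinearMap
    { toFun := fun T => ∑ j, φ (E j z) * U.subtype.comp (T.comp ((φ (E z j)).codRestrict U (hmemU j)))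
      map_add' := fun S T => LinearMap.ext fun v => by
        simp [Finset.sum_add_distrib]
      map_smul' := fun c T => LinearMap.ext fun v => by
        simp [Finset.smul_sum] }
    (by
      refine LinearMap.ext fun v => ?_
      simp only [LinearMap.coe_mk, AddHom.coe_mk, LinearMap.coe_sum, Finset.sum_apply,
        Module.End.mul_apply, LinearMap.comp_apply, Submodule.subtype_apply, Module.End.one_apply,
        LinearMap.codRestrict_apply]
      simp only [← Module.End.mul_apply, ← map_mul, hE, if_true]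
      rw [← Finset.sum_apply, ← LinearMap.coe_sum, ← map_sum, hone, map_one]
      rfl)
    (fun S T => by
      refine LinearMap.ext fun v => ?_
      simp only [LinearMap.coe_mk, AddHom.coe_mk, LinearMap.coe_sum, Finset.sum_apply,
        Module.End.mul_apply, LinearMap.comp_apply, Submodule.subtype_apply]
      refine Finset.sum_congr rfl fun j _ => ?_
      congr 2
      refine congrArg S (Subtype.ext ?_)
      rw [LinearMap.codRestrict_apply, map_sum, Finset.sum_eq_single j]
      · rw [← Module.End.mul_apply, ← map_mul, hE, if_pos rfl]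
        exact (hU _ (T _).2).symm
      · intro k _ hk
        rw [← Module.End.mul_apply, ← map_mul, hE, if_neg (Ne.symm hk), map_zero, LinearMap.zero_apply]
      · simp)
  have hψ0 : ∀ T v, ψ0 T v = ∑ j, φ (E j z) (T ⟨φ (E z j) v, hmemU j v⟩ : V) := by
    intro T v
    simp only [ψ0, AlgHom.ofLinearMap_apply, LinearMap.coe_mk, AddHom.coe_mk, LinearMap.coe_sum,
      Finset.sum_apply, Module.End.mul_apply, LinearMap.comp_apply, Submodule.subtype_apply]
    rfl
  have hψU : ∀ T (u : U), ψ0 T (u : V) = T u := by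
    intro T u
    rw [hψ0, Finset.sum_eq_single z]
    · rw [show (⟨φ (E z z) (u : V), hmemU z u⟩ : U) = u from Subtype.ext (hU _ u.2), hU _ (T u).2]
    · intro j _ hj
      have : (⟨φ (E z j) (u : V), hmemU j u⟩ : U) = 0 := Subtype.ext (by
        change φ (E z j) (u : V) = 0
        rw [← hU _ u.2, ← Module.End.mul_apply, ← map_mul, hE, if_neg hj, map_zero, LinearMap.zero_apply])
      rw [this, map_zero, Submodule.coe_zero, map_zero]
    · simp
  have hψinj : Function.Injective ψ0 := fun S T h => LinearMap.ext fun u => Subtype.ext (by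
    rw [← hψU, ← hψU, h])
  have hcomm : ∀ S T, φ S * ψ0 T = ψ0 T * φ S := by
    intro S T
    refine LinearMap.ext fun v => ?_
    rw [Module.End.mul_apply, Module.End.mul_apply, hψ0, hψ0, map_sum]
    have hS : ∀ j : Fin n, φ S * φ (E j z) = ∑ k, (S (Pi.single j 1) k) • φ (E k z) := by
      intro j
      rw [← map_mul]
      conv_lhs => rw [← one_mul S, ← hone, Finset.sum_mul, Finset.sum_mul]
      rw [map_sum]
      refine Finset.sum_congr rfl fun k _ => ?_
      rw [← map_smul, ← show E j j * E j z = E j z by rw [hE, if_pos rfl], ← mul_assoc, hoff,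
        smul_mul_assoc, hE, if_pos rfl]
    have hS' : ∀ k : Fin n, φ (E z k) * φ S = ∑ j, (S (Pi.single j 1) k) • φ (E z j) := by
      intro k
      rw [← map_mul]
      conv_lhs => rw [← mul_one S, ← hone, Finset.mul_sum, Finset.mul_sum]
      rw [map_sum]
      refine Finset.sum_congr rfl fun j _ => ?_
      rw [← map_smul, ← show E z k * E k k = E z k by rw [hE, if_pos rfl], mul_assoc, ← mul_assoc (E k k),
        hoff, mul_smul_comm, hE, if_pos rfl]
    have h1 : ∀ j w, φ S (φ (E j z) w) = ∑ k, (S (Pi.single j 1) k) • φ (E k z) w := fun j w => by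
      rw [← Module.End.mul_apply, hS]; simp
    have h2 : ∀ k, (⟨φ (E z k) (φ S v), hmemU k _⟩ : U) =
        ∑ j, (S (Pi.single j 1) k) • (⟨φ (E z j) v, hmemU j v⟩ : U) := fun k => Subtype.ext (by
      change φ (E z k) (φ S v) = _
      rw [← Module.End.mul_apply, hS']; simp)
    simp only [h1, h2, map_sum, map_smul, Submodule.coe_sum, Submodule.coe_smul, Finset.smul_sum]
    rw [Finset.sum_comm]
  have hdim : Module.finrank K V = n * Module.finrank K U := by
    let e : V ≃ₗ[K] (Fin n → U) :=
      { toFun := fun v j => ⟨φ (E z j) v, hmemU j v⟩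
        map_add' := fun v w => funext fun j => Subtype.ext (map_add _ v w)
        map_smul' := fun c v => funext fun j => Subtype.ext (map_smul _ c v)
        invFun := fun d => ∑ j, φ (E j z) (d j : V)
        left_inv := fun v => by
          change ∑ j, φ (E j z) (φ (E z j) v) = v
          simp only [← Module.End.mul_apply, ← map_mul, hE, if_true]
          rw [← Finset.sum_apply, ← LinearMap.coe_sum, ← map_sum, hone, map_one]
          rfl
        right_inv := fun d => funext fun j => Subtype.ext (by
          change φ (E z j) (∑ k, φ (E k z) (d k : V)) = d j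
          rw [map_sum, Finset.sum_eq_single j]
          · rw [← Module.End.mul_apply, ← map_mul, hE, if_pos rfl]
            exact hU _ (d j).2
          · intro k _ hk
            rw [← Module.End.mul_apply, ← map_mul, hE, if_neg (Ne.symm hk), map_zero, LinearMap.zero_apply]
          · simp) }
    rw [e.finrank_eq, Module.finrank_pi_fintype, Finset.sum_const, Finset.card_univ, Fintype.card_fin,
      smul_eq_mul]
  let bU := Module.finBasis K U
  let ψ : Module.End K (Fin (Module.finrank K U) → K) →ₐ[K] Module.End K V :=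
    ψ0.comp (bU.equivFun.symm.conjAlgEquiv K).toAlgHom
  refine ⟨Module.finrank K U, ψ, hψinj.comp (bU.equivFun.symm.conjAlgEquiv K).injective, hdim,
    fun S T => hcomm S _, fun X hX => ?_⟩
  have hXU : ∀ u ∈ U, X u ∈ U := fun u hu => ⟨X u, by
    rw [← Module.End.mul_apply, hX, Module.End.mul_apply, hU u hu]⟩
  obtain ⟨T, hT⟩ := (bU.equivFun.symm.conjAlgEquiv K).surjective (X.restrict hXU)
  refine ⟨T, ?_⟩
  change ψ0 ((bU.equivFun.symm.conjAlgEquiv K) T) = X
  rw [hT]
  refine LinearMap.ext fun v => ?_
  rw [hψ0]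
  simp only [LinearMap.restrict_apply]
  simp only [← Module.End.mul_apply]
  rw [Finset.sum_congr rfl (g := fun j => X (φ (E j j) v)) fun j _ => ?_, ← map_sum X]
  · rw [← Finset.sum_apply, ← LinearMap.coe_sum, ← map_sum, hone, map_one]
    rfl
  · simp only [Module.End.mul_apply]
    rw [← Module.End.mul_apply, hX, Module.End.mul_apply, ← Module.End.mul_apply (φ (E j z)), ← map_mul, hE,
      if_pos rfl]

end Cfsg.Lib.CoprimeBase
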