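import Cfsg.Agent.CoprimeBase.FieldData
import Cfsg.Agent.OddBase.Main

/-!
Groups preserving an alternating form on an elementary abelian `2`-group: basic facts.
-/

set_option autoImplicit false
set_option linter.unusedSectionVars false

namespace Cfsg.Lib.CoprimeBase

open Cfsg.Lib.OddBase

universe u

/-- A non-degenerate invariant alternating form. -/
structure Symp (R W : Type u) [Group R] [AddCommGroup W] [DistribMulAction R W] where
  B : W →+ W →+ ZMod 2
  alt : ∀ x, B x x = 0
  nondeg : ∀ x, (∀ y, B x y = 0) → x = 0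
  inv : ∀ (g : R) (x y : W), B (g • x) (g • y) = B x y
  exp : ∀ x : W, 2 • x = 0

variable {R W : Type u} [Group R] [Finite R] [AddCommGroup W] [Finite W] [DistribMulAction R W]

theorem zmod_two_cases (z : ZMod 2) : z = 0 ∨ z = 1 := by
  revert z; decide

theorem Symp.symm (S : Symp R W) (x y : W) : S.B x y = S.B y x := by
  have h := S.alt (x + y)
  simp only [map_add, AddMonoidHom.add_apply, S.alt, zero_add, add_zero] at h
  revert h
  generalize S.B x y = a
  generalize S.B y x = b
  revert a b
  decide

theorem Symp.eq_of_forall (S : Symp R W) {x y : W} (h : ∀ z, S.B z x = S.B z y) : x = y :=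
  sub_eq_zero.1 (S.nondeg _ fun z => by rw [S.symm, map_sub, h, sub_self])

theorem Symp.add_self (S : Symp R W) (x : W) : x + x = 0 := by
  rw [← two_nsmul]; exact S.exp x

/-- The dual of an elementary abelian `2`-group. -/
theorem card_dual_two {G : Type*} [AddCommGroup G] [Finite G] (hexp : ∀ x : G, 2 • x = 0) :
    Nat.card (G →+ ZMod 2) = Nat.card G := by
  letI : Module (ZMod 2) G := AddCommGroup.zmodModule hexp
  let e : (G →+ ZMod 2) ≃ (G →ₗ[ZMod 2] ZMod 2) :=
    { toFun := fun f => f.toZModLinearMap 2
      invFun := fun f => f.toAddMonoidHom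
      left_inv := fun f => AddMonoidHom.ext fun x => rfl
      right_inv := fun f => LinearMap.ext fun x => rfl }
  rw [Nat.card_congr e, Module.natCard_eq_pow_finrank (K := ZMod 2), Module.finrank_linearMap,
    Module.finrank_self, mul_one, ← Module.natCard_eq_pow_finrank (K := ZMod 2)]

/-- The perpendicular subgroup. -/
def Symp.perp (S : Symp R W) (P : AddSubgroup W) : AddSubgroup W where
  carrier := {x | ∀ y ∈ P, S.B x y = 0}
  zero_mem' := fun y _ => by rw [map_zero]; rfl
  add_mem' := fun {a b} ha hb y hy => by rw [map_add, AddMonoidHom.add_apply, ha y hy, hb y hy, add_zero]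
  neg_mem' := fun {a} ha y hy => by rw [map_neg, AddMonoidHom.neg_apply, ha y hy, neg_zero]

theorem Symp.mem_perp (S : Symp R W) {P : AddSubgroup W} {x : W} :
    x ∈ S.perp P ↔ ∀ y ∈ P, S.B x y = 0 := Iff.rfl

theorem Symp.card_perp_le (S : Symp R W) (P : AddSubgroup W) :
    Nat.card (S.perp P) * Nat.card P ≤ Nat.card W := by
  rw [← P.card_mul_index, mul_comm (Nat.card P)]
  refine Nat.mul_le_mul_right _ ?_
  rw [AddSubgroup.index_eq_card, ← card_dual_two (G := W ⧸ P) (fun x => by
    obtain ⟨y, rfl⟩ := QuotientAddGroup.mk_surjective x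
    rw [← QuotientAddGroup.mk_nsmul, S.exp]; rfl)]
  haveI : Finite (W ⧸ P →+ ZMod 2) := Finite.of_injective _ DFunLike.coe_injective
  refine Nat.card_le_card_of_injective
    (fun x : S.perp P => QuotientAddGroup.lift P (S.B x) fun y hy => x.2 y hy) ?_
  intro x x' h
  refine Subtype.ext (S.eq_of_forall fun z => ?_)
  have h1 := DFunLike.congr_fun h (QuotientAddGroup.mk z)
  rw [S.symm z, S.symm z]
  exact h1

/-- No decomposition into several orthogonal non-degenerate blocks permuted by the group. -/
def Symp.NoParts (S : Symp R W) : Prop :=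
  ∀ (X : Type u) [Fintype X] [MulAction R X] (e : X → AddMonoid.End W),
    2 ≤ Fintype.card X → (∀ i, e i * e i = e i) → (∀ i j, i ≠ j → e i * e j = 0) → (∀ i, e i ≠ 0) →
    ∑ i, e i = 1 → (∀ (g : R) i x, g • e i x = e (g • i) (g • x)) →
    (∀ i x y, S.B (e i x) y = S.B x (e i y)) → False

/-- An involution with alternating commutator form. -/
def Symp.Special (S : Symp R W) (g : R) : Prop :=
  (∀ x : W, g • g • x = x) ∧ ∀ x : W, S.B x (g • x) = 0

/-- The displacement of an element. -/
def disp (W : Type u) [AddCommGroup W] [DistribMulAction R W] (g : R) : W →+ W :=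
  DistribSMul.toAddMonoidHom W g - AddMonoidHom.id W

theorem disp_apply (g : R) (x : W) : disp W g x = g • x - x := rfl

theorem Symp.Special.range_le_perp {S : Symp R W} {g : R} (h : S.Special g) :
    (disp W g).ker ≤ S.perp (disp W g).range := by
  intro x hx y hy
  obtain ⟨z, rfl⟩ := hy
  have hx' : g • x = x := sub_eq_zero.1 hx
  rw [disp_apply, map_sub, sub_eq_zero]
  conv_lhs => rw [← hx']
  exact S.inv g x z

theorem Symp.Special.range_le_ker {S : Symp R W} {g : R} (h : S.Special g) :
    (disp W g).range ≤ (disp W g).ker := by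
  rintro _ ⟨z, rfl⟩
  change g • (g • z - z) - (g • z - z) = 0
  rw [smul_sub, h.1]
  calc z - g • z - (g • z - z) = (z + z) - (g • z + g • z) := by abel
    _ = 0 := by rw [S.add_self, S.add_self, sub_zero]

theorem Symp.card_ker_mul (S : Symp R W) (g : R) :
    Nat.card (disp W g).ker * Nat.card (disp W g).range = Nat.card W := by
  rw [← (disp W g).ker.card_mul_index, AddSubgroup.index_ker]

theorem Symp.Special.card_sq_le {S : Symp R W} {g : R} (h : S.Special g) :
    Nat.card (disp W g).range * Nat.card (disp W g).range ≤ Nat.card W := by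
  refine le_trans (Nat.mul_le_mul_right _ (AddSubgroup.card_le_of_le h.range_le_ker)) ?_
  rw [S.card_ker_mul]

/-- The commutator form. -/
def Symp.form (S : Symp R W) (g : R) (x y : W) : ZMod 2 := S.B x (disp W g y)

theorem Symp.Special.form_self {S : Symp R W} {g : R} (h : S.Special g) (x : W) : S.form g x x = 0 := by
  rw [Symp.form, disp_apply, map_sub, h.2, S.alt, sub_zero]

theorem Symp.Special.form_symm {S : Symp R W} {g : R} (h : S.Special g) (x y : W) :
    S.form g x y = S.form g y x := by
  have h1 := h.form_self (x + y)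
  have h2 := h.form_self x
  have h3 := h.form_self y
  simp only [Symp.form, map_add, AddMonoidHom.add_apply] at h1 h2 h3 ⊢
  rw [h2, h3, zero_add, add_zero] at h1
  revert h1
  generalize S.B x (disp W g y) = a
  generalize S.B y (disp W g x) = b
  revert a b
  decide

theorem Symp.form_add_left (S : Symp R W) (g : R) (x y z : W) :
    S.form g (x + y) z = S.form g x z + S.form g y z := by
  simp only [Symp.form, map_add, AddMonoidHom.add_apply]

theorem Symp.form_eq_zero_of_ker (S : Symp R W) (g : R) {y : W} (hy : y ∈ (disp W g).ker) (x : W) :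
    S.form g x y = 0 := by
  rw [Symp.form, show disp W g y = 0 from hy, map_zero]

theorem Symp.mem_ker_of_form (S : Symp R W) {g : R} {y : W} (h : ∀ x, S.form g x y = 0) :
    y ∈ (disp W g).ker := by
  change disp W g y = 0
  exact S.eq_of_forall fun z => by rw [map_zero]; exact h z

/-- The rank of the commutator form is neither one nor three. -/
theorem Symp.Special.card_range {S : Symp R W} {g : R} (h : S.Special g) :
    Nat.card (disp W g).range ≠ 2 ∧ Nat.card (disp W g).range ≠ 8 := by
  classical
  have key : (Nat.card (disp W g).range = 2 ∨ Nat.card (disp W g).range = 8) → False := by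
    intro hc
    set P := (disp W g).ker with hP
    have hidx : P.index = 2 ∨ P.index = 8 := by rwa [hP, AddSubgroup.index_ker]
    obtain ⟨x0, hx0⟩ : ∃ x0, x0 ∉ P := by
      by_contra hall
      push Not at hall
      rw [(AddSubgroup.eq_top_iff' P).2 hall, AddSubgroup.index_top] at hidx
      omega
    obtain ⟨x1, hx1⟩ : ∃ x1, S.form g x1 x0 = 1 := by
      by_contra hall
      push Not at hall
      exact hx0 (S.mem_ker_of_form fun x => (zmod_two_cases _).resolve_right (hall x))
    let f : W →+ ZMod 2 × ZMod 2 := AddMonoidHom.mk' (fun x => (S.form g x x0, S.form g x x1))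
      fun x y => Prod.ext (S.form_add_left g x y x0) (S.form_add_left g x y x1)
    have hf0 : f x0 = (0, 1) := by
      change (S.form g x0 x0, S.form g x0 x1) = _
      rw [h.form_self, h.form_symm x0 x1, hx1]
    have hf1 : f x1 = (1, 0) := by
      change (S.form g x1 x0, S.form g x1 x1) = _
      rw [h.form_self, hx1]
    have hPf : P ≤ f.ker := fun y hy => by
      change (S.form g y x0, S.form g y x1) = (0 : ZMod 2 × ZMod 2)
      rw [h.form_symm y x0, h.form_symm y x1, S.form_eq_zero_of_ker g hy, S.form_eq_zero_of_ker g hy]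
      rfl
    have hsurj : Function.Surjective f := by
      rintro ⟨a, b⟩
      rcases zmod_two_cases a with rfl | rfl <;> rcases zmod_two_cases b with rfl | rfl
      · exact ⟨0, map_zero f⟩
      · exact ⟨x0, hf0⟩
      · exact ⟨x1, hf1⟩
      · exact ⟨x1 + x0, by rw [map_add, hf1, hf0]; rfl⟩
    have h4 : f.ker.index = 4 := by
      rw [AddSubgroup.index_ker, AddMonoidHom.range_eq_top.2 hsurj, AddSubgroup.card_top, Nat.card_prod,
        Nat.card_zmod]
    have hmul := AddSubgroup.relIndex_mul_index hPf
    rw [h4] at hmul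
    rcases hidx with h2 | h2 <;> rw [h2] at hmul
    · omega
    have hrel : P.relIndex f.ker = 2 := by omega
    obtain ⟨p, hp, hpP⟩ : ∃ p ∈ f.ker, p ∉ P := by
      by_contra hall
      push Not at hall
      rw [AddSubgroup.relIndex_eq_one.2 hall] at hrel
      omega
    refine hpP (S.mem_ker_of_form fun x => ?_)
    rw [h.form_symm]
    have hpf : S.form g p x0 = 0 ∧ S.form g p x1 = 0 :=
      ⟨congrArg Prod.fst (hp : f p = 0), congrArg Prod.snd (hp : f p = 0)⟩
    have hpy : ∀ y ∈ f.ker, S.form g p y = 0 := by
      intro y hy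
      have hidx2 : (P.addSubgroupOf f.ker).index = 2 := hrel
      by_cases hyP : y ∈ P
      · exact S.form_eq_zero_of_ker g hyP p
      · have := (AddSubgroup.add_mem_iff_of_index_two hidx2 (a := ⟨y, hy⟩) (b := ⟨p, hp⟩)).2
          (iff_of_false hyP hpP)
        have h6 : S.form g (y + p) p = 0 := by
          rw [h.form_symm]
          exact S.form_eq_zero_of_ker g this p
        rw [S.form_add_left, h.form_self, add_zero] at h6
        rw [h.form_symm]; exact h6
    rw [h.form_symm]
    have hx : ∃ y ∈ f.ker, ∃ a b : Bool, x = y + (cond a x0 0 + cond b x1 0) := by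
      obtain ⟨a, ha⟩ : ∃ a : Bool, (cond a 1 0 : ZMod 2) = (f x).2 := by
        rcases zmod_two_cases (f x).2 with e | e
        · exact ⟨false, e.symm⟩
        · exact ⟨true, e.symm⟩
      obtain ⟨b, hb⟩ : ∃ b : Bool, (cond b 1 0 : ZMod 2) = (f x).1 := by
        rcases zmod_two_cases (f x).1 with e | e
        · exact ⟨false, e.symm⟩
        · exact ⟨true, e.symm⟩
      refine ⟨x - (cond a x0 0 + cond b x1 0), ?_, a, b, (sub_add_cancel _ _).symm⟩
      change f (x - _) = 0
      rw [map_sub, map_add, sub_eq_zero]
      cases a <;> cases b <;>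
        simp only [cond_true, cond_false, map_zero, add_zero, zero_add, hf0, hf1] at ha hb ⊢ <;>
        exact Prod.ext (by simp [hb.symm]) (by simp [ha.symm])
    obtain ⟨y, hy, a, b, rfl⟩ := hx
    rw [S.form_add_left, S.form_add_left, h.form_symm y, hpy y hy, zero_add]
    have e00 : S.form g (0 : W) p = 0 := by
      rw [Symp.form, map_zero, AddMonoidHom.zero_apply]
    cases a <;> cases b <;>
      simp only [cond_true, cond_false, e00, h.form_symm x0 p, h.form_symm x1 p, hpf.1, hpf.2, add_zero]
  exact ⟨fun hc => key (Or.inl hc), fun hc => key (Or.inr hc)⟩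

end Cfsg.Lib.CoprimeBase
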