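import Cfsg.Agent.CoprimeBase.Terminal
import Cfsg.Agent.CoprimeBase.SympBasic
import Cfsg.Agent.SolvBase.Frame

/-!
The socle modulo the scalars as a symplectic module.
-/

set_option autoImplicit false
set_option linter.unusedSectionVars false

namespace Cfsg.Lib.CoprimeBase

open Cfsg.Lib.OddBase Cfsg.Lib.SolvBase

universe u

variable {A : Type u} [Group A] [Finite A] [Group.IsSolvable A] {Z : Subgroup A} [Z.Normal]
  [IsMulCommutative Z] {K : Type u} [Field K] {V : Type u} [AddCommGroup V] [Finite V]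
  [DistribMulAction A V] [Module K V]

/-- The socle modulo the scalars, with the action of the group. -/
structure Bridge (Z : Subgroup A) [Z.Normal] (ι : Z →* Kˣ) (R W : Type u) [Group R] [AddCommGroup W]
    [DistribMulAction R W] where
  S : Symp R W
  cl : Soc Z → W
  π : A →* R
  π_surj : Function.Surjective π
  π_ker : π.ker = Soc Z
  cl_surj : Function.Surjective cl
  cl_mul : ∀ l m, cl (l * m) = cl l + cl m
  cl_zero : ∀ l : Soc Z, cl l = 0 ↔ (l : A) ∈ Z
  cl_conj : ∀ (a : A) l, cl (conjL a l) = π a • cl l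
  form_iff : ∀ l m, S.B (cl l) (cl m) = 0 ↔ form ι l m = 1

section

variable [Finite K] [FaithfulSMul A V] [Nontrivial V] {p : ℕ} [Fact p.Prime] [CharP K p] {ι : Z →* Kˣ}

/-- Commutation forms are invariant under conjugation. -/
theorem Terminal.form_conj (T : Terminal p Z V ι) (a : A) (l m : Soc Z) :
    form ι (conjL a l) (conjL a m) = form ι l m := by
  rw [form, form]
  congr 1
  apply Subtype.ext
  have h : (l : A) * m * (l : A)⁻¹ * (m : A)⁻¹ ∈ Z :=
    socle_comm (Subgroup.commutator_mem_commutator l.2 m.2)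
  have hcc := Subgroup.mem_centralizer_iff.1 (T.centralizer_top.ge (Subgroup.mem_top a)) _ h
  change (a * (l : A) * a⁻¹) * (a * (m : A) * a⁻¹) * (a * (l : A) * a⁻¹)⁻¹ * (a * (m : A) * a⁻¹)⁻¹ =
    (l : A) * m * (l : A)⁻¹ * (m : A)⁻¹
  calc (a * (l : A) * a⁻¹) * (a * (m : A) * a⁻¹) * (a * (l : A) * a⁻¹)⁻¹ * (a * (m : A) * a⁻¹)⁻¹
      = a * ((l : A) * m * (l : A)⁻¹ * (m : A)⁻¹) * a⁻¹ := by group
    _ = (l : A) * m * (l : A)⁻¹ * (m : A)⁻¹ := by rw [← hcc, mul_inv_cancel_right]

/-- Commutation forms take two values when the socle has exponent two modulo the scalars. -/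
theorem Terminal.form_sq (T : Terminal p Z V ι) (hexp : ∀ l : Soc Z, ((l ^ 2 : Soc Z) : A) ∈ Z)
    (l m : Soc Z) : form ι l m * form ι l m = 1 := by
  rw [← form_mul_left, ← pow_two]
  exact (form_eq_one T.hι _ _).2 (socle_central m.2 (hexp l))

set_option maxHeartbeats 1000000 in
/-- The bridge exists. -/
theorem Terminal.exists_bridge (T : Terminal p Z V ι) {r : ℕ}
    (hr : Z.relIndex (socle Z (Subgroup.centralizer (Z : Set A))) = r * r)
    (hexp : ∀ l : Soc Z, ((l ^ 2 : Soc Z) : A) ∈ Z) :
    ∃ (R W : Type u) (_ : Group R) (_ : Finite R) (_ : Group.IsSolvable R) (_ : AddCommGroup W)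
      (_ : Finite W) (_ : DistribMulAction R W) (_ : FaithfulSMul R W) (_ : Bridge Z ι R W),
      Nat.card W = r * r := by
  classical
  set C := Subgroup.centralizer (Z : Set A) with hC
  set L := socle Z C with hL
  have hZL : Z ≤ L := (exists_socle T.hne).le
  letI : CommGroup (socBar Z C) :=
    { (inferInstance : Group (socBar Z C)) with
      mul_comm := fun x y => Subtype.ext (socBar_comm x.2 y.2) }
  haveI : (socBar Z C).Normal :=
    Subgroup.Normal.map (socle_normal Z C) _ (QuotientGroup.mk'_surjective Z)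
  let φ : A →* MulAut (socBar Z C) := MulAut.conjNormal.comp (QuotientGroup.mk' Z)
  letI : DistribMulAction A (Additive (socBar Z C)) :=
    { smul := fun a x => Additive.ofMul (φ a (Additive.toMul x))
      one_smul := fun x => by
        change Additive.ofMul (φ 1 (Additive.toMul x)) = x
        rw [map_one]; rfl
      mul_smul := fun a b x => by
        change Additive.ofMul (φ (a * b) (Additive.toMul x)) =
          Additive.ofMul (φ a (φ b (Additive.toMul x)))
        rw [map_mul]; rfl
      smul_zero := fun a => congrArg Additive.ofMul (map_one (φ a))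
      smul_add := fun a x y => congrArg Additive.ofMul (map_mul (φ a) _ _) }
  let cl : Soc Z → Additive (socBar Z C) := fun l =>
    Additive.ofMul ⟨QuotientGroup.mk' Z l, Subgroup.mem_map_of_mem _ l.2⟩
  have hclsurj : Function.Surjective cl := by
    intro x
    obtain ⟨l, hl, hlx⟩ := (Additive.toMul x).2
    exact ⟨⟨l, hl⟩, congrArg Additive.ofMul (Subtype.ext hlx)⟩
  have hclmul : ∀ l m : Soc Z, cl (l * m) = cl l + cl m := fun l m => rfl
  have hcl0 : ∀ l : Soc Z, cl l = 0 ↔ (l : A) ∈ Z := fun l => by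
    constructor
    · intro h
      exact (QuotientGroup.eq_one_iff (l : A)).1 (congrArg Subtype.val (Additive.ofMul.injective h))
    · intro h
      exact congrArg Additive.ofMul (Subtype.ext ((QuotientGroup.eq_one_iff (l : A)).2 h))
  have hclconj : ∀ (a : A) (l : Soc Z), cl (conjL a l) = a • cl l := fun a l =>
    congrArg Additive.ofMul (Subtype.ext (by
      change _ = ((MulAut.conjNormal (QuotientGroup.mk' Z a) _ : socBar Z C) : A ⧸ Z)
      rw [MulAut.conjNormal_apply]
      rfl))
  let π : A →* (AddMonoid.End (Additive (socBar Z C)))ˣ :=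
    (DistribMulAction.toAddMonoidEnd A (Additive (socBar Z C))).toHomUnits
  haveI : Finite π.range := Finite.of_surjective _ π.rangeRestrict_surjective
  haveI : Group.IsSolvable π.range := Group.isSolvable_of_surjective π.rangeRestrict_surjective
  haveI : FaithfulSMul π.range (Additive (socBar Z C)) :=
    ⟨fun {s t} h => Subtype.ext (Units.ext (AddMonoidHom.ext h))⟩
  -- the form
  let b : Soc Z → Soc Z → ZMod 2 := fun l m => if form ι l m = 1 then 0 else 1
  have hb : ∀ l m, b l m = 0 ↔ form ι l m = 1 := fun l m => by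
    simp only [b]
    split_ifs with h <;> simp [h]
  have hmulb : ∀ u v w : Kˣ, u * u = 1 → v * v = 1 → w = u * v →
      (if w = 1 then (0 : ZMod 2) else 1) = (if u = 1 then 0 else 1) + (if v = 1 then 0 else 1) := by
    intro u v w hu hv hw
    subst hw
    by_cases h1 : u = 1
    · simp [h1]
    by_cases h2 : v = 1
    · simp [h1, h2]
    have huv : u * v = 1 := by
      have hu' : (u : K) = -1 := (mul_self_eq_one_iff.1 (by rw [← Units.val_mul, hu, Units.val_one])).resolve_left
        fun h => h1 (Units.ext h)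
      have hv' : (v : K) = -1 := (mul_self_eq_one_iff.1 (by rw [← Units.val_mul, hv, Units.val_one])).resolve_left
        fun h => h2 (Units.ext h)
      refine Units.ext ?_
      rw [Units.val_mul, hu', hv', neg_mul_neg, one_mul, Units.val_one]
    rw [if_pos huv, if_neg h1, if_neg h2]
    decide
  have hbl : ∀ l l' m, b (l * l') m = b l m + b l' m := fun l l' m =>
    hmulb _ _ _ (T.form_sq hexp l m) (T.form_sq hexp l' m) (form_mul_left ι l l' m)
  have hbr : ∀ l m m', b l (m * m') = b l m + b l m' := fun l m m' =>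
    hmulb _ _ _ (T.form_sq hexp l m) (T.form_sq hexp l m') (form_mul_right ι l m m')
  have hbzl : ∀ z l : Soc Z, (z : A) ∈ Z → b z l = 0 := fun z l hz =>
    (hb z l).2 ((form_eq_one T.hι z l).2 (socle_central l.2 hz))
  have hbzr : ∀ l z : Soc Z, (z : A) ∈ Z → b l z = 0 := fun l z hz =>
    (hb l z).2 ((form_eq_one T.hι l z).2 (socle_central l.2 hz).symm)
  have hwd : ∀ l l', cl l = cl l' → ∀ m, b l m = b l' m ∧ b m l = b m l' := by
    intro l l' h m
    have hz : ((l⁻¹ * l' : Soc Z) : A) ∈ Z := by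
      have h0 : cl l + cl (l⁻¹ * l') = cl l := by rw [← hclmul, mul_inv_cancel_left, h]
      exact (hcl0 _).1 (add_eq_left.1 h0)
    rw [← mul_inv_cancel_left l l', hbl, hbr, hbzl _ _ hz, hbzr _ _ hz, add_zero, add_zero]
    exact ⟨rfl, rfl⟩
  choose s hs using hclsurj
  let Bf : Additive (socBar Z C) →+ Additive (socBar Z C) →+ ZMod 2 := AddMonoidHom.mk'
    (fun x => AddMonoidHom.mk' (fun y => b (s x) (s y)) (fun y y' => by
      rw [← hbr]
      exact ((hwd _ _ (by rw [hs, hclmul, hs, hs]) (s x)).2)))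
    (fun x x' => AddMonoidHom.ext fun y => by
      change b (s (x + x')) (s y) = b (s x) (s y) + b (s x') (s y)
      rw [← hbl]
      exact (hwd _ _ (by rw [hs, hclmul, hs, hs]) (s y)).1)
  have hBf : ∀ l m, Bf (cl l) (cl m) = b l m := fun l m => by
    change b (s (cl l)) (s (cl m)) = _
    rw [(hwd _ _ (hs (cl l)) _).1, (hwd _ _ (hs (cl m)) _).2]
  let S : Symp π.range (Additive (socBar Z C)) :=
    { B := Bf
      alt := fun x => (hb _ _).2 ((form_eq_one T.hι _ _).2 rfl)
      nondeg := fun x hx => by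
        rw [← hs x, hcl0]
        refine soc_mem_center T.hι T.hmax T.hne (s x) fun m => (hb _ _).1 ?_
        rw [← hBf, hs]
        exact hx _
      inv := fun g x y => by
        obtain ⟨_, a, rfl⟩ := g
        change Bf (a • x) (a • y) = Bf x y
        rw [← hs x, ← hs y, ← hclconj, ← hclconj, hBf, hBf]
        simp only [b, T.form_conj]
      exp := fun x => by
        rw [← hs x, two_nsmul, ← hclmul, hcl0, ← pow_two]
        exact hexp _ }
  refine ⟨π.range, Additive (socBar Z C), inferInstance, inferInstance, inferInstance, inferInstance,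
    inferInstance, inferInstance, inferInstance,
    { S := S
      cl := cl
      π := π.rangeRestrict
      π_surj := π.rangeRestrict_surjective
      π_ker := ?_
      cl_surj := fun x => ⟨s x, hs x⟩
      cl_mul := hclmul
      cl_zero := hcl0
      cl_conj := hclconj
      form_iff := fun l m => by
        change Bf (cl l) (cl m) = 0 ↔ _
        rw [hBf]; exact hb l m }, ?_⟩
  · rw [MonoidHom.ker_rangeRestrict]
    ext a
    constructor
    · intro ha
      refine mem_socle T.hι T.hmax T.hne (T.centralizer_top.ge (Subgroup.mem_top a)) fun l hl => ?_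
      have h1 : a • cl ⟨l, hl⟩ = cl ⟨l, hl⟩ := DFunLike.congr_fun (congrArg Units.val ha) _
      rw [← hclconj] at h1
      have h2 := congrArg Subtype.val (Additive.ofMul.injective h1)
      change (QuotientGroup.mk (a * l * a⁻¹) : A ⧸ Z) = QuotientGroup.mk l at h2
      rw [← QuotientGroup.eq_one_iff, QuotientGroup.mk_mul, h2, QuotientGroup.mk_inv, mul_inv_cancel]
    · intro ha
      refine Units.ext (AddMonoidHom.ext fun x => ?_)
      change a • x = x
      rw [← hs x, ← hclconj]
      refine congrArg Additive.ofMul (Subtype.ext ?_)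
      change (QuotientGroup.mk (a * (s x : A) * a⁻¹) : A ⧸ Z) = QuotientGroup.mk (s x : A)
      have hmem := socle_comm (Subgroup.commutator_mem_commutator ha (s x).2)
      rw [commutatorElement_def] at hmem
      calc (QuotientGroup.mk (a * (s x : A) * a⁻¹) : A ⧸ Z)
          = QuotientGroup.mk (a * (s x : A) * a⁻¹ * (s x : A)⁻¹ * s x) := by rw [inv_mul_cancel_right]
        _ = QuotientGroup.mk (s x : A) := by
          rw [QuotientGroup.mk_mul, (QuotientGroup.eq_one_iff _).2 hmem, one_mul]
  · rw [← hr]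
    change Nat.card (socBar Z C) = _
    rw [socBar, ← Subgroup.relIndex_ker, QuotientGroup.ker_mk']

variable {R W : Type u} [Group R] [AddCommGroup W] [DistribMulAction R W] [Finite W]

/-- The preimage of a subgroup of the quotient. -/
def Bridge.pre (D : Bridge Z ι R W) (U : AddSubgroup W) : Subgroup A where
  carrier := {x | ∃ h : x ∈ Soc Z, D.cl ⟨x, h⟩ ∈ U}
  one_mem' := ⟨one_mem _, by rw [(D.cl_zero _).2 (one_mem Z)]; exact zero_mem U⟩
  mul_mem' := fun {x y} hx hy => by
    obtain ⟨hx, hxU⟩ := hx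
    obtain ⟨hy, hyU⟩ := hy
    exact ⟨mul_mem hx hy, by
      rw [show (⟨x * y, mul_mem hx hy⟩ : Soc Z) = ⟨x, hx⟩ * ⟨y, hy⟩ from rfl, D.cl_mul]
      exact add_mem hxU hyU⟩
  inv_mem' := fun {x} hx => by
    obtain ⟨hx, hxU⟩ := hx
    refine ⟨inv_mem hx, ?_⟩
    have h0 : D.cl ⟨x⁻¹, inv_mem hx⟩ + D.cl ⟨x, hx⟩ = 0 := by
      rw [← D.cl_mul]
      exact (D.cl_zero _).2 (by simp)
    rw [eq_neg_of_add_eq_zero_left h0]
    exact neg_mem hxU

theorem Bridge.mem_pre (D : Bridge Z ι R W) {U : AddSubgroup W} (l : Soc Z) :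
    (l : A) ∈ D.pre U ↔ D.cl l ∈ U :=
  ⟨fun ⟨_, h⟩ => h, fun h => ⟨l.2, h⟩⟩

theorem Bridge.pre_le (D : Bridge Z ι R W) (U : AddSubgroup W) : D.pre U ≤ Soc Z := fun _ hx => hx.1

theorem Bridge.relIndex_pre (D : Bridge Z ι R W) (U : AddSubgroup W) :
    Z.relIndex (D.pre U) = Nat.card U := by
  let g : D.pre U →* Multiplicative U := MonoidHom.mk'
    (fun x => Multiplicative.ofAdd ⟨D.cl ⟨x, x.2.1⟩, x.2.2⟩)
    (fun x y => by
      rw [← ofAdd_add]
      exact congrArg Multiplicative.ofAdd (Subtype.ext (D.cl_mul ⟨(x : A), x.2.1⟩ ⟨(y : A), y.2.1⟩)))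
  have hg : g.ker = Z.subgroupOf (D.pre U) := by
    ext x
    rw [MonoidHom.mem_ker, Subgroup.mem_subgroupOf]
    refine ⟨fun h => (D.cl_zero ⟨(x : A), x.2.1⟩).1 (congrArg Subtype.val (Multiplicative.ofAdd.injective h)), fun h => ?_⟩
    exact congrArg Multiplicative.ofAdd (Subtype.ext ((D.cl_zero ⟨(x : A), x.2.1⟩).2 h))
  have hsurj : Function.Surjective g := fun u => by
    obtain ⟨l, hl⟩ := D.cl_surj (Multiplicative.toAdd u : U)
    refine ⟨⟨l, (D.mem_pre l).2 (hl ▸ (Multiplicative.toAdd u : U).2)⟩, ?_⟩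
    exact Multiplicative.toAdd.injective (Subtype.ext hl)
  rw [Subgroup.relIndex, ← hg, Subgroup.index_ker, MonoidHom.range_eq_top.2 hsurj, Subgroup.card_top]
  exact Nat.card_congr Multiplicative.toAdd

/-- Either a pair exists or the quotient module is irreducible without orthogonal parts. -/
theorem Terminal.pair_or_irr (T : Terminal p Z V ι) {r : ℕ}
    (hr : Z.relIndex (socle Z (Subgroup.centralizer (Z : Set A))) = r * r)
    (D : Bridge Z ι R W) (hW : Nat.card W = r * r) : Pair A V ∨ (Irr R W ∧ D.S.NoParts) := by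
  classical
  by_cases hP : Pair A V
  · exact Or.inl hP
  refine Or.inr ⟨fun U hU => ?_, fun X _ _ e hX hid horth hne hsum heq hsa => ?_⟩
  · by_contra hc
    push Not at hc
    obtain ⟨hU0, hU1⟩ := hc
    refine hP (T.pair_of_normal hr (N := D.pre U) ⟨fun x hx g => ?_⟩ ?_ ?_)
    · obtain ⟨hx, hxU⟩ := hx
      refine ⟨(socle_normal Z _).conj_mem x hx g, ?_⟩
      change D.cl (conjL g ⟨x, hx⟩) ∈ U
      rw [D.cl_conj]
      exact hU _ _ hxU
    · refine lt_of_le_of_ne (fun z hz => ⟨(exists_socle T.hne).le hz, ?_⟩) fun h => hU0 ?_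
      · rw [(D.cl_zero _).2 hz]; exact zero_mem U
      · refine (AddSubgroup.eq_bot_iff_forall _).2 fun w hw => ?_
        obtain ⟨l, rfl⟩ := D.cl_surj w
        exact (D.cl_zero l).2 (h.ge ((D.mem_pre l).2 hw))
    · refine lt_of_le_of_ne (D.pre_le U) fun h => hU1 ?_
      rw [eq_top_iff]
      intro w _
      obtain ⟨l, rfl⟩ := D.cl_surj w
      exact (D.mem_pre l).1 (h.ge l.2)
  · letI : MulAction A X := MulAction.compHom X D.π
    have hfix : ∀ i, ∀ w ∈ (e i : W →+ W).range, e i w = w := by
      rintro i _ ⟨w, rfl⟩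
      exact DFunLike.congr_fun (hid i) w
    refine hP (T.pair_of_parts hr hX (fun i => D.pre (e i : W →+ W).range) (fun i => D.pre_le _)
      (fun i hle => hne i ?_) (fun a i l hl => ?_) (fun i l hl h => ?_) (fun i j hij l hl m hm => ?_) ?_)
    · refine AddMonoidHom.ext fun w => ?_
      obtain ⟨l, hl⟩ := D.cl_surj (e i w)
      have hmem : (l : A) ∈ D.pre (e i : W →+ W).range := (D.mem_pre l).2 ⟨w, hl.symm⟩
      exact hl.symm.trans ((D.cl_zero l).2 (hle hmem))
    · obtain ⟨hlL, w, hw⟩ := hl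
      refine ⟨(socle_normal Z _).conj_mem l hlL a, D.π a • w, ?_⟩
      change _ = D.cl (conjL a ⟨l, hlL⟩)
      rw [D.cl_conj, ← hw]
      exact (heq (D.π a) i w).symm
    · obtain ⟨hlL, hlU⟩ := hl
      refine (D.cl_zero ⟨l, hlL⟩).1 (D.S.nondeg _ fun y => ?_)
      rw [← hfix i _ hlU, hsa]
      obtain ⟨m, hm⟩ := D.cl_surj (e i y)
      rw [← hm, D.form_iff, form_eq_one T.hι]
      exact (h m ((D.mem_pre m).2 ⟨y, hm.symm⟩)).symm
    · obtain ⟨hlL, hlU⟩ := hl
      obtain ⟨hmL, hmU⟩ := hm
      refine (form_eq_one T.hι ⟨l, hlL⟩ ⟨m, hmL⟩).1 ((D.form_iff _ _).1 ?_)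
      rw [← hfix i _ hlU, ← hfix j _ hmU, hsa]
      have h0 := DFunLike.congr_fun (horth i j hij) (D.cl ⟨m, hmL⟩)
      change D.S.B _ ((e i * e j) (D.cl ⟨m, hmL⟩)) = 0
      rw [h0]
      exact map_zero (D.S.B _)
    · simp only [D.relIndex_pre]
      rw [← Nat.card_pi, ← hW]
      refine (Nat.card_congr (Equiv.ofBijective
        (fun w i => (⟨e i w, w, rfl⟩ : (e i : W →+ W).range)) ⟨fun v w h => ?_, fun f => ?_⟩)).symm
      · have hv : ∀ v : W, ∑ i, e i v = v := fun v =>
          (AddMonoidHom.finsetSum_apply e _ v).symm.trans (DFunLike.congr_fun hsum v)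
        rw [← hv v, ← hv w]
        exact Finset.sum_congr rfl fun i _ => congrArg Subtype.val (congrFun h i)
      · refine ⟨∑ i, (f i : W), funext fun i => Subtype.ext ?_⟩
        change e i (∑ j, (f j : W)) = f i
        rw [map_sum, Finset.sum_eq_single i (fun j _ hji => ?_) (by simp)]
        · exact hfix i _ (f i).2
        · rw [← hfix j _ (f j).2]
          exact DFunLike.congr_fun (horth i j hji.symm) _

end

end Cfsg.Lib.CoprimeBase
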