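import Cfsg.Agent.CoprimeBase.SympStar
import Cfsg.Agent.CoprimeBase.SimpleAlg

/-!
The field case and the case of two isotropic spaces for groups preserving an alternating form.
-/

set_option autoImplicit false
set_option linter.unusedSectionVars false

namespace Cfsg.Lib.CoprimeBase

open Cfsg.Lib.OddBase

universe u

variable {R W : Type u} [Group R] [Finite R] [AddCommGroup W] [Finite W] [DistribMulAction R W]
  [FaithfulSMul R W] [Nontrivial W]

/-- An abelian subgroup centralises itself. -/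
theorem self_le_centralizer {G : Type*} [Group G] (Z : Subgroup G) [IsMulCommutative Z] :
    Z ≤ Subgroup.centralizer (Z : Set G) := fun x hx => Subgroup.mem_centralizer_iff.2 fun y hy =>
  congrArg Subtype.val (IsMulCommutative.is_comm.comm (⟨y, hy⟩ : Z) ⟨x, hx⟩)

/-- An abelian normal subgroup of an irreducible group in characteristic two has odd order. -/
theorem odd_card_abelian (hirr : Irr R W) {k : ℕ} (hcard : Nat.card W = 2 ^ k) (Z : Subgroup R) [Z.Normal]
    [IsMulCommutative Z] : ¬ 2 ∣ Nat.card Z := by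
  intro h2
  haveI : Fact (Nat.Prime 2) := ⟨Nat.prime_two⟩
  let N : Subgroup R :=
    { carrier := {z | z ∈ Z ∧ z * z = 1}
      one_mem' := ⟨one_mem _, mul_one 1⟩
      mul_mem' := fun {x y} hx hy => ⟨mul_mem hx.1 hy.1, by
        have hxy : y * x = x * y :=
          congrArg Subtype.val (IsMulCommutative.is_comm.comm (⟨y, hy.1⟩ : Z) ⟨x, hx.1⟩)
        calc x * y * (x * y) = x * (y * x) * y := by group
          _ = (x * x) * (y * y) := by rw [hxy]; group
          _ = 1 := by rw [hx.2, hy.2, one_mul]⟩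
      inv_mem' := fun {x} hx => ⟨inv_mem hx.1, by rw [← mul_inv_rev, hx.2, inv_one]⟩ }
  haveI : N.Normal := ⟨fun x hx g => ⟨(inferInstance : Z.Normal).conj_mem x hx.1 g, by
    calc g * x * g⁻¹ * (g * x * g⁻¹) = g * (x * x) * g⁻¹ := by group
      _ = 1 := by rw [hx.2, mul_one, mul_inv_cancel]⟩⟩
  have hN := normal_qgroup_trivial (cr_of_irr hirr) 2 k hcard N (fun x => ⟨1, Subtype.ext (by
    rw [pow_one, pow_two]; exact x.2.2)⟩)
  obtain ⟨z, hz⟩ := exists_prime_orderOf_dvd_card' 2 h2
  have hzN : (z : R) ∈ N := ⟨z.2, by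
    rw [← pow_two, ← SubmonoidClass.coe_pow, ← hz, pow_orderOf_eq_one]; rfl⟩
  rw [hN, Subgroup.mem_bot] at hzN
  rw [show z = 1 from Subtype.ext hzN, orderOf_one] at hz
  norm_num at hz

/-- A normal subgroup of an irreducible group fixes nothing. -/
theorem fixed_eq_zero (hirr : Irr R W) {Z : Subgroup R} [Z.Normal] (hZ1 : Z ≠ ⊥) {w : W}
    (hw : ∀ z ∈ Z, z • w = w) : w = 0 := by
  let F : AddSubgroup W :=
    { carrier := {w | ∀ z ∈ Z, z • w = w}
      zero_mem' := fun z _ => smul_zero z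
      add_mem' := fun {x y} hx hy z hz => by rw [smul_add, hx z hz, hy z hz]
      neg_mem' := fun {x} hx z hz => by rw [smul_neg, hx z hz] }
  rcases hirr F (fun a v hv z hz => by
    have h1 := hv (a⁻¹ * z * a) (by simpa using (inferInstance : Z.Normal).conj_mem z hz a⁻¹)
    rw [mul_smul, mul_smul, inv_smul_eq_iff] at h1
    exact h1) with hF | hF
  · exact AddSubgroup.mem_bot.1 (hF ▸ (show w ∈ F from hw))
  · exact absurd ((Subgroup.eq_bot_iff_forall _).2 fun z hz => eq_of_smul_eq_smul fun x : W => by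
      rw [one_smul]; exact (show x ∈ F from hF ▸ AddSubgroup.mem_top x) z hz) hZ1

/-- A normal subgroup of order three spans a field. -/
theorem idem_three (hirr : Irr R W) (hexp : ∀ x : W, 2 • x = 0) {Z : Subgroup R} [Z.Normal]
    (h3 : Nat.card Z = 3) {e : AddMonoid.End W} (he : e ∈ alg R W Z) (hee : e * e = e) :
    e = 0 ∨ e = 1 := by
  classical
  haveI : Fact (Nat.Prime 3) := ⟨Nat.prime_three⟩
  haveI : Nontrivial Z := Finite.one_lt_card_iff_nontrivial.1 (by omega)
  obtain ⟨z, hz⟩ := exists_ne (1 : Z)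
  have hzpow : z ^ 3 = 1 := by
    have := pow_card_eq_one' (G := Z) (x := z)
    rwa [h3] at this
  have hordz : orderOf z = 3 := orderOf_eq_prime hzpow hz
  have hall : ∀ g : Z, g = 1 ∨ g = z ∨ g = z * z := by
    intro g
    obtain ⟨n, rfl⟩ := mem_powers_of_prime_card h3 hz (g' := g)
    dsimp only
    rw [← pow_mod_orderOf, hordz]
    rcases (show n % 3 = 0 ∨ n % 3 = 1 ∨ n % 3 = 2 by omega) with e | e | e <;> rw [e]
    · exact Or.inl (pow_zero z)
    · exact Or.inr (Or.inl (pow_one z))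
    · exact Or.inr (Or.inr (pow_two z))
  have hz3 : z * z * z = 1 := by rw [← hzpow, pow_succ, pow_two]
  have hZ1 : Z ≠ ⊥ := fun h => by rw [h, Subgroup.card_bot] at h3; omega
  set f := act R W (z : R) with hf
  have hcyc : 1 + f + f * f = 0 := AddMonoidHom.ext fun x => by
    change x + (z : R) • x + (z : R) • (z : R) • x = 0
    refine fixed_eq_zero hirr hZ1 fun g hg => ?_
    have h3x : (z : R) • (z : R) • (z : R) • x = x := by
      rw [← mul_smul, ← mul_smul, ← Subgroup.coe_mul, ← Subgroup.coe_mul, hz3]; exact one_smul R x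
    rcases hall ⟨g, hg⟩ with h | h | h
    · rw [show g = 1 from congrArg Subtype.val h, one_smul]
    · rw [show g = z from congrArg Subtype.val h, smul_add, smul_add, h3x]; abel
    · rw [show g = (z : R) * z from congrArg Subtype.val h, mul_smul, smul_add, smul_add, smul_add, smul_add,
        h3x]
      abel
  have htwo : ∀ x : AddMonoid.End W, x + x = 0 := fun x => AddMonoidHom.ext fun w => by
    change x w + x w = 0
    rw [← two_nsmul, hexp]
  have hff : f * f = 1 + f := by
    have : f * f = -(1 + f) := eq_neg_of_add_eq_zero_right hcyc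
    rw [this, neg_eq_iff_add_eq_zero, htwo]
  let T : Subring (AddMonoid.End W) :=
    { carrier := {x | x = 0 ∨ x = 1 ∨ x = f ∨ x = 1 + f}
      zero_mem' := Or.inl rfl
      one_mem' := Or.inr (Or.inl rfl)
      add_mem' := fun {a b} ha hb => by
        have e1 : f + (1 + f) = 1 := by rw [add_left_comm, htwo, add_zero]
        have e2 : (1 : AddMonoid.End W) + (1 + f) = f := by rw [← add_assoc, htwo, zero_add]
        rcases ha with rfl | rfl | rfl | rfl <;> rcases hb with rfl | rfl | rfl | rfl <;>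
          simp [htwo, e1, e2, add_comm f 1, add_comm (1 + f) f, add_comm (1 + f) 1]
      neg_mem' := fun {a} ha => by
        rwa [show -a = a from neg_eq_iff_add_eq_zero.2 (htwo a)]
      mul_mem' := fun {a b} ha hb => by
        have e1 : f * (1 + f) = 1 := by rw [mul_add, mul_one, hff, add_left_comm, htwo, add_zero]
        have e2 : (1 + f) * f = 1 := by rw [add_mul, one_mul, hff, add_left_comm, htwo, add_zero]
        have e3 : (1 + f) * (1 + f) = f := by
          rw [add_mul, one_mul, e1, add_comm, ← add_assoc, htwo, zero_add]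
        rcases ha with rfl | rfl | rfl | rfl <;> rcases hb with rfl | rfl | rfl | rfl <;>
          simp [hff, e1, e2, e3] }
  have hle : alg R W Z ≤ T := Subring.closure_le.2 (by
    rintro _ ⟨g, hg, rfl⟩
    rcases hall ⟨g, hg⟩ with h | h | h
    · exact Or.inr (Or.inl (by rw [show g = 1 from congrArg Subtype.val h, map_one]))
    · exact Or.inr (Or.inr (Or.inl (by rw [show g = z from congrArg Subtype.val h])))
    · exact Or.inr (Or.inr (Or.inr (by
        rw [show g = (z : R) * z from congrArg Subtype.val h, map_mul]; exact hff))))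
  obtain ⟨x0, hx0⟩ := exists_ne (0 : W)
  rcases hle he with rfl | rfl | rfl | rfl
  · exact Or.inl rfl
  · exact Or.inr rfl
  · exfalso
    rw [hff] at hee
    exact hx0 (DFunLike.congr_fun (add_eq_right.1 hee) x0)
  · exfalso
    have e3 : (1 + f) * (1 + f) = f := by
      rw [add_mul, one_mul, mul_add, mul_one, hff, add_left_comm f, htwo, add_zero, add_comm, ← add_assoc,
        htwo, zero_add]
    rw [e3] at hee
    exact hx0 (DFunLike.congr_fun (right_eq_add.1 hee) x0)

/-- The field case. -/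
theorem Symp.field_data (S : Symp R W) (hirr : Irr R W) {Z : Subgroup R} [Z.Normal] [IsMulCommutative Z]
    (hZ1 : Z ≠ ⊥) (hf : ∀ k ∈ alg R W Z, k ≠ 0 → ∃ l ∈ alg R W Z, k * l = 1) {k : ℕ}
    (hcard : Nat.card W = 4 ^ k) :
    ∃ (K : Type u) (_ : Field K) (_ : Finite K) (_ : Module K W) (ι : Z →* Kˣ) (σ : R →* RingAut K) (i : ℕ),
      Function.Injective ι ∧ (∀ (z : Z) (v : W), ((ι z : Kˣ) : K) • v = (z : R) • v) ∧
      σ.ker = Subgroup.centralizer (Z : Set R) ∧
      (∀ (g : R) (c : K) (v : W), g • (c • v) = σ g c • (g • v)) ∧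
      1 ≤ i ∧ Nat.card K = 4 ^ i ∧ k = i * Module.finrank K W ∧ Nat.card Z ∣ 2 ^ i + 1 := by
  classical
  obtain ⟨K, _, _, _, ι, σ, hι, hιv, hσ, hsemi, halg⟩ := exists_field_alg hf
  obtain ⟨u, hu⟩ := exists_ne (0 : W)
  have hcard2 : Nat.card W = 2 ^ (2 * k) := by rw [hcard, pow_mul]; norm_num
  have hadj : ∀ c : K, ∃ c' : K, ∀ x y, S.B (c • x) y = S.B x (c' • y) := by
    intro c
    obtain ⟨f, hf', hfc⟩ := halg c
    obtain ⟨g, hg, hfg⟩ := S.exists_adj hf'
    have hsub : alg R W Z ≤ (Module.toAddMonoidEnd K W).range := Subring.closure_le.2 (by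
      rintro _ ⟨z, hz, rfl⟩
      exact ⟨(ι ⟨z, hz⟩ : Kˣ), AddMonoidHom.ext fun v => hιv ⟨z, hz⟩ v⟩)
    obtain ⟨c', hc'⟩ := hsub hg
    refine ⟨c', fun x y => ?_⟩
    rw [← hfc, hfg, ← hc']
    rfl
  choose st hst using hadj
  have huniq : ∀ c c' : K, (∀ x y, S.B (c • x) y = S.B x (c' • y)) → st c = c' := fun c c' h =>
    smul_left_injective K hu (S.eq_of_forall fun z => (hst c z u).symm.trans (h z u))
  have hstst : ∀ c, st (st c) = c := fun c => huniq _ _ fun x y => by rw [S.symm, ← hst, S.symm]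
  let Sa : RingAut K :=
    { toFun := st
      invFun := st
      left_inv := hstst
      right_inv := hstst
      map_mul' := fun a b => huniq _ _ fun x y => by
        rw [mul_smul, hst, hst, smul_smul, mul_comm]
      map_add' := fun a b => huniq _ _ fun x y => by
        rw [add_smul, add_smul, map_add, map_add, AddMonoidHom.add_apply, hst, hst] }
  have hSι : ∀ z : Z, st (ι z : K) = ((ι z⁻¹ : Kˣ) : K) := fun z => huniq _ _ fun x y => by
    rw [hιv, hιv]; exact S.isAdj_act (z : R) x y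
  haveI : Fact (Nat.Prime 2) := ⟨Nat.prime_two⟩
  haveI : CharP K 2 := (CharP.charP_iff_prime_eq_zero Nat.prime_two).2 (by
    by_contra h
    refine hu ((smul_eq_zero.1 (show ((2 : ℕ) : K) • u = 0 from ?_)).resolve_left h)
    rw [Nat.cast_smul_eq_nsmul]; exact S.exp u)
  letI : Algebra (ZMod 2) K := ZMod.algebra K 2
  haveI := Fintype.ofFinite K
  let ψ : K ≃ₐ[ZMod 2] K := AlgEquiv.ofRingEquiv (f := Sa) fun x => RingHom.congr_fun
    (Subsingleton.elim (Sa.toRingHom.comp (algebraMap (ZMod 2) K)) _) x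
  obtain ⟨⟨j, hj⟩, hψ⟩ := (FiniteField.bijective_frobeniusAlgEquivOfAlgebraic_pow (ZMod 2) K).2 ψ
  set m := Module.finrank (ZMod 2) K with hm
  have hKm : Nat.card K = 2 ^ m := by
    rw [Module.natCard_eq_pow_finrank (K := ZMod 2), Nat.card_zmod]
  have hpow : ∀ x : K, st x = x ^ 2 ^ j := by
    intro x
    have h := DFunLike.congr_fun hψ x
    simp only [AlgEquiv.coe_pow, FiniteField.coe_frobeniusAlgEquivOfAlgebraic_iterate, ZMod.card] at h
    exact h.symm
  have hj0 : j ≠ 0 := by
    rintro rfl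
    haveI : Nontrivial Z := (Subgroup.nontrivial_iff_ne_bot _).2 hZ1
    obtain ⟨z, hz⟩ := exists_ne (1 : Z)
    have h1 := hSι z
    rw [hpow, pow_zero, pow_one] at h1
    have h2 : z = z⁻¹ := hι (Units.ext h1)
    have h3 : orderOf z ∣ 2 := orderOf_dvd_of_pow_eq_one (by
      rw [pow_two]; nth_rewrite 2 [h2]; exact mul_inv_cancel z)
    rcases (Nat.dvd_prime Nat.prime_two).1 h3 with h | h
    · exact hz (orderOf_eq_one_iff.1 h)
    · exact odd_card_abelian hirr hcard2 Z (h ▸ orderOf_dvd_natCard z)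
  have h2j : m = 2 * j := by
    have hψ2 : ψ * ψ = 1 := AlgEquiv.ext fun x => hstst x
    have hpow2 : (FiniteField.frobeniusAlgEquivOfAlgebraic (ZMod 2) K) ^ (2 * j) = 1 := by
      rw [two_mul, pow_add]
      simp only at hψ
      rw [hψ, hψ2]
    have hd := orderOf_dvd_of_pow_eq_one hpow2
    rw [FiniteField.orderOf_frobeniusAlgEquivOfAlgebraic] at hd
    obtain ⟨c, hc⟩ := hd
    rcases c with _ | _ | c
    · omega
    · omega
    · nlinarith [hc, hj]
  have hK4 : Nat.card K = 4 ^ j := by rw [hKm, h2j, pow_mul]; norm_num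
  refine ⟨K, _, ‹_›, _, ι, σ, j, hι, hιv, hσ, hsemi, by omega, hK4, ?_, ?_⟩
  · have h1 : Nat.card W = Nat.card K ^ Module.finrank K W := Module.natCard_eq_pow_finrank
    rw [hcard, hK4, ← pow_mul] at h1
    exact Nat.pow_right_injective (by norm_num) h1
  · haveI : IsCyclic Z := isCyclic_of_injective ι hι
    obtain ⟨z, hz⟩ := IsCyclic.exists_ofOrder_eq_natCard (α := Z)
    rw [← hz]
    refine orderOf_dvd_of_pow_eq_one (hι (Units.ext ?_))
    rw [map_pow, map_one, Units.val_pow_eq_pow_val, Units.val_one, pow_succ, ← hpow, hSι,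
      ← Units.val_mul, ← map_mul, inv_mul_cancel, map_one, Units.val_one]

/-- Two paired isotropic subspaces: the order. -/
theorem Symp.pair_case (S : Symp R W) (hnp : S.NoParts) (hirr : Irr R W) {Z : Subgroup R} [Z.Normal]
    [IsMulCommutative Z] (hZ1 : Z ≠ ⊥) {e₀ : AddMonoid.End W} (he₀ : e₀ ∈ alg R W Z)
    (hid : e₀ * e₀ = e₀) (h0 : e₀ ≠ 0) (h1 : e₀ ≠ 1) {k : ℕ} (hk : k ≤ 5) (hcard : Nat.card W = 4 ^ k) :
    3 ≤ k ∧ ∃ a N δ : ℕ, a ≤ 2 ∧ N ∣ 2 ^ k - 1 ∧ δ ∣ k ∧ Nat.card R = a * (N * δ) := by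
  classical
  obtain ⟨a, a', ha, ha', hne, hadj, hsum, hcj⟩ := S.exists_pair_atoms hnp Z he₀ hid h0 h1
  let U : AddSubgroup W := (a : W →+ W).range
  let U' : AddSubgroup W := (a' : W →+ W).range
  have hiso : ∀ (b b' : AddMonoid.End W), S.IsAdj b b' → b' * b = 0 → ∀ x y, S.B (b x) (b y) = 0 := by
    intro b b' h hz x y
    rw [h]
    change S.B x ((b' * b) y) = 0
    rw [hz]
    exact map_zero (S.B x)
  have hUiso : ∀ x ∈ U, ∀ y ∈ U, S.B x y = 0 := by
    rintro _ ⟨x, rfl⟩ _ ⟨y, rfl⟩
    exact hiso a a' hadj (atom_orth ha' ha hne.symm) x y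
  have hU'iso : ∀ x ∈ U', ∀ y ∈ U', S.B x y = 0 := by
    rintro _ ⟨x, rfl⟩ _ ⟨y, rfl⟩
    exact hiso a' a hadj.flip (atom_orth ha ha' hne) x y
  have hsplit : ∀ w, w = a w + a' w := fun w => (DFunLike.congr_fun hsum w).symm
  have hUU : Nat.card U = 2 ^ k := by
    have e1 : Nat.card U * Nat.card U ≤ Nat.card W := le_trans
      (Nat.mul_le_mul_right _ (AddSubgroup.card_le_of_le (K := S.perp U) fun x hx y hy => hUiso x hx y hy))
      (S.card_perp_le U)
    have e2 : Nat.card U' * Nat.card U' ≤ Nat.card W := le_trans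
      (Nat.mul_le_mul_right _ (AddSubgroup.card_le_of_le (K := S.perp U') fun x hx y hy => hU'iso x hx y hy))
      (S.card_perp_le U')
    have e3 : Nat.card W ≤ Nat.card U * Nat.card U' := by
      rw [← Nat.card_prod]
      refine Nat.card_le_card_of_injective (fun w => ((⟨a w, w, rfl⟩ : U), (⟨a' w, w, rfl⟩ : U'))) ?_
      intro v w h
      rw [hsplit v, hsplit w]
      exact congrArg₂ (· + ·) (congrArg (fun t : U × U' => (t.1 : W)) h) (congrArg (fun t : U × U' => (t.2 : W)) h)
    have h4 : Nat.card W = 2 ^ k * 2 ^ k := by rw [hcard, ← mul_pow]; norm_num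
    rw [h4] at e1 e2 e3
    have f1 : Nat.card U ≤ 2 ^ k := Nat.mul_self_le_mul_self_iff.1 e1
    have f2 : Nat.card U' ≤ 2 ^ k := Nat.mul_self_le_mul_self_iff.1 e2
    exact le_antisymm f1 (Nat.le_of_mul_le_mul_right (e3.trans (Nat.mul_le_mul_left _ f2)) (by positivity))
  -- the stabiliser
  let cj : R → AddMonoid.End W := fun g => act R W g * a * act R W g⁻¹
  let R0 : Subgroup R :=
    { carrier := {g | cj g = a}
      one_mem' := by change act R W 1 * a * act R W 1⁻¹ = a; rw [inv_one, map_one, one_mul, mul_one]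
      mul_mem' := fun {g h} hg hh => by
        change act R W (g * h) * a * act R W (g * h)⁻¹ = a
        rw [mul_inv_rev, map_mul, map_mul]
        calc act R W g * act R W h * a * (act R W h⁻¹ * act R W g⁻¹)
            = act R W g * (act R W h * a * act R W h⁻¹) * act R W g⁻¹ := by simp only [mul_assoc]
          _ = a := by rw [show act R W h * a * act R W h⁻¹ = a from hh]; exact hg
      inv_mem' := fun {g} hg => by
        have hg' : act R W g * a * act R W g⁻¹ = a := hg
        change act R W g⁻¹ * a * act R W g⁻¹⁻¹ = a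
        conv_lhs => rw [← hg']
        simp only [inv_inv, mul_assoc, ← map_mul, inv_mul_cancel, map_one, mul_one]
        rw [← mul_assoc, ← map_mul, inv_mul_cancel, map_one, one_mul] }
  have hidx : R0.index ≤ 2 := by
    rw [Subgroup.index_eq_card]
    let F : R ⧸ R0 → Bool := fun q => decide (cj q.out = a)
    refine (Nat.card_le_card_of_injective F ?_).trans (by simp)
    intro q q' hq
    rw [← q.out_eq', ← q'.out_eq', QuotientGroup.eq]
    have hsame : cj q.out = cj q'.out := by
      simp only [F, decide_eq_decide] at hq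
      rcases hcj q.out with e | e <;> rcases hcj q'.out with e' | e'
      · exact e.trans e'.symm
      · exact absurd (e'.symm.trans (hq.1 e)) hne.symm
      · exact absurd (e.symm.trans (hq.2 e')) hne.symm
      · exact e.trans e'.symm
    change act R W (q.out⁻¹ * q'.out) * a * act R W (q.out⁻¹ * q'.out)⁻¹ = a
    rw [mul_inv_rev, inv_inv, map_mul, map_mul]
    calc act R W q.out⁻¹ * act R W q'.out * a * (act R W q'.out⁻¹ * act R W q.out)
        = act R W q.out⁻¹ * (act R W q'.out * a * act R W q'.out⁻¹) * act R W q.out := by simp only [mul_assoc]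
      _ = act R W q.out⁻¹ * (act R W q.out * a * act R W q.out⁻¹) * act R W q.out := by
        rw [show act R W q'.out * a * act R W q'.out⁻¹ = _ from hsame.symm]
      _ = a := by
        simp only [mul_assoc, ← map_mul, inv_mul_cancel, map_one, mul_one]
        rw [← mul_assoc, ← map_mul, inv_mul_cancel, map_one, one_mul]
  have hR0a : ∀ g : R0, ∀ x, (g : R) • a x = a ((g : R) • x) := by
    intro g x
    have h := DFunLike.congr_fun (show act R W (g : R) * a * act R W (g : R)⁻¹ = a from g.2) ((g : R) • x)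
    change (g : R) • a ((g : R)⁻¹ • (g : R) • x) = _ at h
    rwa [inv_smul_smul] at h
  have hU : ∀ g : R0, ∀ v ∈ U, g • v ∈ U := by
    rintro g _ ⟨x, rfl⟩
    exact ⟨(g : R) • x, (hR0a g x).symm⟩
  have hU' : ∀ g : R0, ∀ v ∈ U', g • v ∈ U' := by
    rintro g _ ⟨x, rfl⟩
    refine ⟨(g : R) • x, ?_⟩
    have e : a' = 1 - a := eq_sub_of_add_eq' hsum
    change a' ((g : R) • x) = (g : R) • a' x
    rw [e]
    change (g : R) • x - a ((g : R) • x) = (g : R) • (x - a x)
    rw [smul_sub, hR0a]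
  letI := subAction hU
  haveI : FaithfulSMul R0 U := by
    refine ⟨fun {g h} hgh => Subtype.ext (eq_of_smul_eq_smul fun w : W => ?_)⟩
    have h1 : ∀ u ∈ U, (g : R) • u = (h : R) • u := fun u hu => congrArg Subtype.val (hgh ⟨u, hu⟩)
    have h2 : ∀ y ∈ U', (g : R) • y = (h : R) • y := by
      intro y hy
      have hzero : (g : R) • y - (h : R) • y ∈ U' := sub_mem (hU' g y hy) (hU' h y hy)
      refine sub_eq_zero.1 (S.nondeg _ fun w => ?_)
      rw [hsplit w, map_add, S.symm _ (a w)]
      have e1 : S.B ((g : R) • y - (h : R) • y) (a' w) = 0 := hU'iso _ hzero _ ⟨w, rfl⟩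
      rw [e1, add_zero, map_sub, sub_eq_zero]
      obtain ⟨u, hu, hue⟩ : ∃ u ∈ U, (g : R) • u = a w :=
        ⟨(g : R)⁻¹ • a w, hU g⁻¹ _ ⟨w, rfl⟩, smul_inv_smul _ _⟩
      rw [← hue, S.inv, h1 u hu, S.inv]
    rw [hsplit w, smul_add, smul_add]
    exact congrArg₂ (· + ·) (h1 (a w) ⟨w, rfl⟩) (h2 (a' w) ⟨w, rfl⟩)
  have hk0 : k ≠ 0 := fun h => by
    rw [h, pow_zero] at hcard
    exact absurd hcard (Finite.one_lt_card (α := W)).ne'
  haveI : Nontrivial U := by
    rw [← Finite.one_lt_card_iff_nontrivial, hUU]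
    exact Nat.one_lt_two_pow hk0
  -- the subgroup inside the stabiliser
  have hZR0 : Z ≤ R0 := fun z hz => by
    change act R W z * a * act R W z⁻¹ = a
    rw [commute_alg (self_le_centralizer Z hz) ha.1, mul_assoc, ← map_mul, mul_inv_cancel, map_one, mul_one]
  let Z' : Subgroup R0 := Z.subgroupOf R0
  haveI : Z'.Normal := Subgroup.Normal.subgroupOf inferInstance R0
  haveI : IsMulCommutative Z' := ⟨⟨fun x y => Subtype.ext (Subtype.ext
    (congrArg Subtype.val (IsMulCommutative.is_comm.comm (⟨((x : R0) : R), x.2⟩ : Z) ⟨((y : R0) : R), y.2⟩) :))⟩⟩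
  obtain ⟨Q, hQ2, hQ⟩ := alg_pow hirr Z
  have hlift : ∀ c ∈ alg R0 U Z', ∃ f ∈ alg R W Z, ∀ v : U, f (v : W) = (c v : W) := by
    intro c hc
    induction hc using Subring.closure_induction with
    | mem x hx =>
      obtain ⟨z, hz, rfl⟩ := hx
      exact ⟨_, mem_alg (show (z : R) ∈ Z from hz), fun v => rfl⟩
    | zero => exact ⟨0, zero_mem _, fun v => rfl⟩
    | one => exact ⟨1, one_mem _, fun v => rfl⟩
    | add x y _ _ hx hy =>
      obtain ⟨f, hf, hfx⟩ := hx
      obtain ⟨g, hg, hgy⟩ := hy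
      exact ⟨f + g, add_mem hf hg, fun v => congrArg₂ (· + ·) (hfx v) (hgy v)⟩
    | neg x _ hx =>
      obtain ⟨f, hf, hfx⟩ := hx
      exact ⟨-f, neg_mem hf, fun v => congrArg Neg.neg (hfx v)⟩
    | mul x y _ _ hx hy =>
      obtain ⟨f, hf, hfx⟩ := hx
      obtain ⟨g, hg, hgy⟩ := hy
      refine ⟨f * g, mul_mem hf hg, fun v => ?_⟩
      change f (g v) = (x (y v) : W)
      rw [hgy, hfx]
  have hfield : ∀ c ∈ alg R0 U Z', c ≠ 0 → ∃ l ∈ alg R0 U Z', c * l = 1 := by
    intro c hc hc0
    obtain ⟨f, hf, hfc⟩ := hlift c hc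
    obtain ⟨t, rfl⟩ := Nat.exists_eq_add_of_le hQ2
    have hfix : ∀ n (v : U), (f ^ n) (v : W) = ((c ^ n) v : W) := by
      intro n
      induction n with
      | zero => intro v; rfl
      | succ n ih =>
        intro v
        rw [pow_succ, pow_succ]
        change (f ^ n) (f v) = ((c ^ n) (c v) : W)
        rw [hfc, ih]
    have hfQ : f ^ (t + 1) * f ^ (t + 1) = f ^ (t + 1) := by
      rw [← pow_add, show t + 1 + (t + 1) = 2 + t + t by omega, pow_add, hQ f hf, ← pow_succ']
    have hcQ : c ^ (2 + t) = c := AddMonoidHom.ext fun v => Subtype.ext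
      ((hfix _ v).symm.trans ((DFunLike.congr_fun (hQ f hf) _).trans (hfc v)))
    rcases ha.2.2.2 _ (pow_mem hf (t + 1)) hfQ with h | h
    · exfalso
      refine hc0 ?_
      have hz : c ^ (t + 1) = 0 := AddMonoidHom.ext fun v => Subtype.ext (by
        obtain ⟨x, hx⟩ := v.2
        refine (hfix _ v).symm.trans ?_
        rw [← hx]
        exact DFunLike.congr_fun h x)
      rw [← hcQ, show 2 + t = t + 1 + 1 by omega, pow_succ, hz, zero_mul]
    · refine ⟨c ^ t, pow_mem hc t, ?_⟩
      refine AddMonoidHom.ext fun v => Subtype.ext ?_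
      rw [← pow_succ']
      refine (hfix _ v).symm.trans ?_
      obtain ⟨x, hx⟩ := v.2
      change (f ^ (t + 1)) (v : W) = (v : W)
      rw [← hx]
      change (f ^ (t + 1)) (a x) = a x
      exact DFunLike.congr_fun h x
  obtain ⟨K, _, _, _, ι, σ, hι, hιv, hσ, hsemi⟩ := exists_field hfield
  obtain ⟨u0, hu0⟩ := exists_ne (0 : U)
  haveI : Fact (Nat.Prime 2) := ⟨Nat.prime_two⟩
  haveI : CharP K 2 := (CharP.charP_iff_prime_eq_zero Nat.prime_two).2 (by
    by_contra h
    refine hu0 ((smul_eq_zero.1 (show ((2 : ℕ) : K) • u0 = 0 from ?_)).resolve_left h)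
    rw [Nat.cast_smul_eq_nsmul]; exact Subtype.ext (S.exp _))
  haveI := Fintype.ofFinite K
  obtain ⟨m, -, hm⟩ := FiniteField.card K 2
  rw [← Nat.card_eq_fintype_card] at hm
  have hZc : Nat.card Z' = Nat.card Z := Nat.card_congr (Subgroup.subgroupOfEquivOfLe hZR0).toEquiv
  have hZdvd : Nat.card Z ∣ 2 ^ (m : ℕ) - 1 := by
    rw [← hZc]
    refine (Subgroup.card_dvd_of_injective ι hι).trans ?_
    rw [Nat.card_units, hm]
  have hcard2 : Nat.card W = 2 ^ (2 * k) := by rw [hcard, pow_mul]; norm_num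
  have hm3 : 3 ≤ (m : ℕ) := by
    have hodd := odd_card_abelian hirr hcard2 Z
    have hgt : 1 < Nat.card Z := (Subgroup.one_lt_card_iff_ne_bot _).2 hZ1
    have hne3 : Nat.card Z ≠ 3 := fun h3 =>
      (idem_three hirr S.exp h3 he₀ hid).elim h0 h1
    by_contra hc
    have hm0 := m.2
    rcases (show (m : ℕ) = 1 ∨ (m : ℕ) = 2 by change 0 < (m : ℕ) at hm0; omega) with e | e <;>
      rw [e] at hZdvd <;> have := Nat.le_of_dvd (by norm_num) hZdvd <;> norm_num at this <;> omega
  have hUK : Nat.card U = Nat.card K ^ Module.finrank K U := Module.natCard_eq_pow_finrank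
  have hd1 : Module.finrank K U = 1 := by
    have hpos : 0 < Module.finrank K U := Module.finrank_pos
    rw [hUU, hm, ← pow_mul] at hUK
    have hkeq := Nat.pow_right_injective le_rfl hUK
    by_contra hne1
    have : 2 ≤ Module.finrank K U := by omega
    nlinarith
  rw [hd1, pow_one] at hUK
  have hmk : (m : ℕ) = k := Nat.pow_right_injective le_rfl (hm.symm.trans (hUK.symm.trans hUU))
  have hline : ∀ w : U, ∃ c : K, c • u0 = w := fun w =>
    (finrank_eq_one_iff_of_nonzero' u0 hu0).1 hd1 w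
  have hlin : ∀ c ∈ σ.ker, ∀ (x : K) (w : U), c • (x • w) = x • (c • w) := by
    intro c hc x w
    rw [hsemi, MonoidHom.mem_ker.1 hc]; rfl
  choose lam hlam using fun c : σ.ker => hline ((c : R0) • u0)
  have hlam0 : ∀ c, lam c ≠ 0 := fun c h => hu0 ((smul_eq_zero_iff_eq (c : R0)).1 (by
    rw [← hlam c, h, zero_smul]))
  let L : σ.ker →* Kˣ := MonoidHom.mk' (fun c => Units.mk0 (lam c) (hlam0 c)) fun x y => Units.ext (by
    apply smul_left_injective K hu0
    change lam (x * y) • u0 = (lam x * lam y) • u0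
    rw [hlam, Subgroup.coe_mul, mul_smul, ← hlam y, hlin _ x.2, ← hlam x, smul_smul, mul_comm])
  have hL : Function.Injective L := (injective_iff_map_eq_one L).2 fun c hc => by
    have h1 : lam c = 1 := congrArg Units.val hc
    refine Subtype.ext (eq_of_smul_eq_smul fun w : U => ?_)
    obtain ⟨x, rfl⟩ := hline w
    rw [hlin _ c.2, ← hlam c, h1, one_smul, Subgroup.coe_one, one_smul]
  obtain ⟨δ, hδ, hR0c⟩ := card_le_field (p := 2) hm σ
  refine ⟨hmk ▸ hm3, R0.index, Nat.card σ.ker, δ, hidx, ?_, hmk ▸ hδ, ?_⟩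
  · refine (Subgroup.card_dvd_of_injective L hL).trans ?_
    rw [Nat.card_units, hm, hmk]
  · rw [← hR0c, mul_comm, Subgroup.card_mul_index]

end Cfsg.Lib.CoprimeBase
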