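import Cfsg.Agent.CoprimeBase.SympBasic

/-!
The adjoint on the algebra of an abelian normal subgroup: a field, or two paired totally isotropic spaces.
-/

set_option autoImplicit false
set_option linter.unusedSectionVars false

namespace Cfsg.Lib.CoprimeBase

open Cfsg.Lib.OddBase

universe u

variable {R W : Type u} [Group R] [Finite R] [AddCommGroup W] [Finite W] [DistribMulAction R W]
  [FaithfulSMul R W] [Nontrivial W]

/-- The adjoint relation. -/
def Symp.IsAdj (S : Symp R W) (f g : AddMonoid.End W) : Prop := ∀ x y, S.B (f x) y = S.B x (g y)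

theorem Symp.IsAdj.flip {S : Symp R W} {f g : AddMonoid.End W} (h : S.IsAdj f g) : S.IsAdj g f :=
  fun x y => by rw [S.symm, ← h, S.symm]

theorem Symp.IsAdj.unique {S : Symp R W} {f g g' : AddMonoid.End W} (h : S.IsAdj f g) (h' : S.IsAdj f g') :
    g = g' :=
  AddMonoidHom.ext fun y => S.eq_of_forall fun z => (h z y).symm.trans (h' z y)

theorem Symp.isAdj_act (S : Symp R W) (g : R) : S.IsAdj (act R W g) (act R W g⁻¹) := fun x y => by
  rw [act_apply, act_apply, ← S.inv g⁻¹ (g • x) y, inv_smul_smul]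

theorem Symp.IsAdj.mul {S : Symp R W} {f f' g g' : AddMonoid.End W} (h : S.IsAdj f g) (h' : S.IsAdj f' g') :
    S.IsAdj (f * f') (g' * g) := fun x y => by
  change S.B (f (f' x)) y = S.B x (g' (g y))
  rw [h, h']

theorem Symp.IsAdj.add {S : Symp R W} {f f' g g' : AddMonoid.End W} (h : S.IsAdj f g) (h' : S.IsAdj f' g') :
    S.IsAdj (f + f') (g + g') := fun x y => by
  change S.B (f x + f' x) y = S.B x (g y + g' y)
  rw [map_add, map_add, AddMonoidHom.add_apply, h, h']

theorem Symp.isAdj_zero (S : Symp R W) : S.IsAdj 0 0 := fun x y => by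
  change S.B (0 : W) y = S.B x (0 : W)
  rw [map_zero, map_zero, AddMonoidHom.zero_apply]

theorem Symp.isAdj_one (S : Symp R W) : S.IsAdj 1 1 := fun _ _ => rfl

theorem Symp.exists_adj (S : Symp R W) {Z : Subgroup R} [IsMulCommutative Z] {f : AddMonoid.End W}
    (hf : f ∈ alg R W Z) : ∃ g ∈ alg R W Z, S.IsAdj f g := by
  induction hf using Subring.closure_induction with
  | mem x hx =>
    obtain ⟨z, hz, rfl⟩ := hx
    exact ⟨_, mem_alg (inv_mem hz), S.isAdj_act z⟩
  | zero => exact ⟨0, zero_mem _, S.isAdj_zero⟩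
  | one => exact ⟨1, one_mem _, S.isAdj_one⟩
  | add x y _ _ hx hy =>
    obtain ⟨x', hx', hxx⟩ := hx
    obtain ⟨y', hy', hyy⟩ := hy
    exact ⟨x' + y', add_mem hx' hy', hxx.add hyy⟩
  | neg x _ hx =>
    obtain ⟨x', hx', hxx⟩ := hx
    refine ⟨-x', neg_mem hx', fun a b => ?_⟩
    change S.B (-(x a)) b = S.B a (-(x' b))
    rw [map_neg, map_neg, AddMonoidHom.neg_apply, hxx]
  | mul x y _ _ hx hy =>
    obtain ⟨x', hx', hxx⟩ := hx
    obtain ⟨y', hy', hyy⟩ := hy
    exact ⟨y' * x', mul_mem hy' hx', hxx.mul hyy⟩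

/-- An atom of the idempotents of the algebra. -/
def IsAtomIdem (Z : Subgroup R) (e : AddMonoid.End W) : Prop :=
  e ∈ alg R W Z ∧ e * e = e ∧ e ≠ 0 ∧
    ∀ f ∈ alg R W Z, f * f = f → f * e = 0 ∨ f * e = e

theorem exists_atom_below {Z : Subgroup R} [IsMulCommutative Z] :
    ∀ {e : AddMonoid.End W}, e ∈ alg R W Z → e * e = e → e ≠ 0 →
      ∃ a, IsAtomIdem Z a ∧ a * e = a := by
  classical
  intro e
  obtain ⟨n, hn⟩ : ∃ n, Nat.card (Set.range (e : AddMonoid.End W)) ≤ n := ⟨_, le_rfl⟩
  induction n using Nat.strong_induction_on generalizing e with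
  | _ n ih =>
    intro he hee hne
    by_cases hat : ∀ f ∈ alg R W Z, f * f = f → f * e = 0 ∨ f * e = e
    · exact ⟨e, ⟨he, hee, hne, hat⟩, hee⟩
    push Not at hat
    obtain ⟨f, hf, hff, hfe0, hfe⟩ := hat
    have hfeI : f * e * (f * e) = f * e := by
      calc f * e * (f * e) = f * (e * f) * e := by simp only [mul_assoc]
        _ = f * (f * e) * e := by rw [alg_comm he hf]
        _ = (f * f) * (e * e) := by simp only [mul_assoc]
        _ = f * e := by rw [hff, hee]
    have hlt : Nat.card (Set.range (f * e : AddMonoid.End W)) < Nat.card (Set.range (e : AddMonoid.End W)) := by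
      rw [Nat.card_coe_set_eq, Nat.card_coe_set_eq]
      refine Set.ncard_lt_ncard ⟨?_, ?_⟩
      · rintro _ ⟨x, rfl⟩
        exact ⟨f x, by rw [alg_comm hf he]; rfl⟩
      · intro hsub
        refine hfe (AddMonoidHom.ext fun x => ?_)
        obtain ⟨y, hy⟩ := hsub ⟨x, rfl⟩
        have h1 : (f * e) (e x) = e x := by
          rw [← hy]; exact DFunLike.congr_fun hfeI y
        calc (f * e) x = (f * (e * e)) x := by rw [hee]
          _ = (f * e) (e x) := rfl
          _ = e x := h1
    obtain ⟨a, ha, hae⟩ := ih _ (lt_of_lt_of_le hlt hn) (e := f * e) le_rfl (mul_mem hf he) hfeI hfe0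
    refine ⟨a, ha, ?_⟩
    calc a * e = a * (f * e) * e := by rw [hae]
      _ = a * (f * (e * e)) := by simp only [mul_assoc]
      _ = a := by rw [hee, hae]

theorem atom_orth {Z : Subgroup R} [IsMulCommutative Z] {e f : AddMonoid.End W} (he : IsAtomIdem Z e)
    (hf : IsAtomIdem Z f) (hne : e ≠ f) : e * f = 0 := by
  rcases hf.2.2.2 e he.1 he.2.1 with h | h
  · exact h
  rcases he.2.2.2 f hf.1 hf.2.1 with h' | h'
  · rw [alg_comm he.1 hf.1, h']
  · exact absurd (by rw [← h', alg_comm hf.1 he.1, h]) hne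

/-- Two paired totally isotropic subspaces. -/
theorem Symp.exists_pair_atoms (S : Symp R W) (hnp : S.NoParts) (Z : Subgroup R) [Z.Normal]
    [IsMulCommutative Z] {e₀ : AddMonoid.End W} (he₀ : e₀ ∈ alg R W Z) (hid : e₀ * e₀ = e₀)
    (h0 : e₀ ≠ 0) (h1 : e₀ ≠ 1) :
    ∃ a a' : AddMonoid.End W, IsAtomIdem Z a ∧ IsAtomIdem Z a' ∧ a ≠ a' ∧ S.IsAdj a a' ∧ a + a' = 1 ∧
      ∀ g : R, act R W g * a * act R W g⁻¹ = a ∨ act R W g * a * act R W g⁻¹ = a' := by
  classical
  haveI : Finite (AddMonoid.End W) :=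
    Finite.of_injective (fun f : AddMonoid.End W => (f : W → W)) DFunLike.coe_injective
  let Bl : Type u := {e : AddMonoid.End W // IsAtomIdem Z e}
  haveI := Fintype.ofFinite Bl
  have hinv : ∀ g : R, act R W g⁻¹ * act R W g = 1 := fun g => by rw [← map_mul, inv_mul_cancel, map_one]
  have hinv' : ∀ g : R, act R W g * act R W g⁻¹ = 1 := fun g => by rw [← map_mul, mul_inv_cancel, map_one]
  let cj : R → AddMonoid.End W → AddMonoid.End W := fun g e => act R W g * e * act R W g⁻¹
  have hcjm : ∀ g h e, cj (g * h) e = cj g (cj h e) := fun g h e => by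
    simp only [cj, mul_inv_rev, map_mul, mul_assoc]
  have hcj1 : ∀ e, cj 1 e = e := fun e => by simp only [cj, inv_one, map_one, mul_one, one_mul]
  have hcjmul : ∀ g e f, cj g (e * f) = cj g e * cj g f := by
    intro g e f
    simp only [cj, mul_assoc]
    rw [← mul_assoc (act R W g⁻¹) (act R W g), hinv, one_mul]
  have hcjA : ∀ g e, IsAtomIdem Z e → IsAtomIdem Z (cj g e) := by
    intro g e he
    refine ⟨alg_conj g he.1, by rw [← hcjmul, he.2.1], fun h => he.2.2.1 ?_, fun f hf hff => ?_⟩
    · have := congrArg (cj g⁻¹) h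
      rw [← hcjm, inv_mul_cancel, hcj1] at this
      rw [this]; simp only [cj, mul_zero, zero_mul]
    · have hfg : cj g (cj g⁻¹ f) = f := by rw [← hcjm, mul_inv_cancel, hcj1]
      have hI : cj g⁻¹ f * cj g⁻¹ f = cj g⁻¹ f := by rw [← hcjmul, hff]
      rcases he.2.2.2 _ (alg_conj g⁻¹ hf) hI with h | h
      · left; rw [← hfg, ← hcjmul, h]; simp only [cj, mul_zero, zero_mul]
      · right; rw [← hfg, ← hcjmul, h]
  letI : MulAction R Bl :=
    { smul := fun g e => ⟨cj g e.1, hcjA g e.1 e.2⟩
      one_smul := fun e => Subtype.ext (hcj1 e.1)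
      mul_smul := fun g h e => Subtype.ext (hcjm g h e.1) }
  -- the sum of all atoms
  have hSmul : ∀ (s : Finset Bl) (e : Bl), (∑ f ∈ s, f.1) * e.1 = if e ∈ s then e.1 else 0 := by
    intro s e
    rw [Finset.sum_mul, Finset.sum_congr rfl (g := fun f => if f = e then e.1 else 0) ?_]
    · rw [Finset.sum_ite_eq']
    · intro f _
      by_cases h : f = e
      · rw [if_pos h, h]; exact e.2.2.1
      · rw [if_neg h]; exact atom_orth f.2 e.2 fun he => h (Subtype.ext he)
  have hSid : ∀ s : Finset Bl, (∑ f ∈ s, f.1) * (∑ f ∈ s, f.1) = ∑ f ∈ s, f.1 := fun s => by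
    rw [Finset.mul_sum]
    exact Finset.sum_congr rfl fun e he => by rw [hSmul, if_pos he]
  have hsum1 : ∑ e : Bl, e.1 = 1 := by
    by_contra hne
    have hI1 : (1 : AddMonoid.End W) - ∑ e : Bl, e.1 ∈ alg R W Z :=
      sub_mem (one_mem _) (sum_mem fun e _ => e.2.1)
    have hI2 : (1 - ∑ e : Bl, e.1) * (1 - ∑ e : Bl, e.1) = 1 - ∑ e : Bl, e.1 := by
      rw [mul_sub, sub_mul, one_mul, sub_mul, one_mul, hSid, mul_one, sub_self, sub_zero]
    obtain ⟨a, ha, hae⟩ := exists_atom_below hI1 hI2 (sub_ne_zero.2 fun h => hne h.symm)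
    apply ha.2.2.1
    rw [← hae, alg_comm ha.1 hI1, sub_mul, one_mul, hSmul _ ⟨a, ha⟩, if_pos (Finset.mem_univ _),
      sub_self]
  -- the adjoint of an atom
  choose adj hadjmem hadj using fun e : Bl => S.exists_adj e.2.1
  have hadjA : ∀ e : Bl, IsAtomIdem Z (adj e) := by
    intro e
    refine ⟨hadjmem e, ((hadj e).mul (hadj e)).unique (by rw [e.2.2.1]; exact hadj e), fun h => ?_,
      fun f hf hff => ?_⟩
    · refine e.2.2.2.1 (Symp.IsAdj.unique (S := S) (f := adj e) (hadj e).flip ?_)
      rw [h]; exact S.isAdj_zero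
    · obtain ⟨f', hf', hff'⟩ := S.exists_adj hf
      have hI : f' * f' = f' := (hff'.mul hff').unique (by rw [hff]; exact hff')
      have key : S.IsAdj (f * adj e) (f' * e.1) := by
        rw [alg_comm hf' e.2.1]
        exact hff'.mul (hadj e).flip
      rcases e.2.2.2.2 f' hf' hI with h | h
      · left
        refine key.flip.unique ?_
        rw [h]; exact S.isAdj_zero
      · right
        refine key.flip.unique ?_
        rw [h]; exact hadj e
  let st : Bl → Bl := fun e => ⟨adj e, hadjA e⟩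
  have hstst : ∀ e, st (st e) = e := fun e => Subtype.ext ((hadj (st e)).unique (hadj e).flip)
  have hstg : ∀ (g : R) e, st (g • e) = g • st e := fun g e => Subtype.ext <| (hadj (g • e)).unique <| by
    change S.IsAdj (act R W g * e.1 * act R W g⁻¹) (act R W g * adj e * act R W g⁻¹)
    have h := ((S.isAdj_act g).mul (hadj e)).mul (S.isAdj_act g⁻¹)
    rw [inv_inv, ← mul_assoc] at h
    exact h
  -- the blocks
  let π : Bl → Finset Bl := fun e => {e, st e}
  have hπ : ∀ (P : Finset Bl) e, (∃ e', π e' = P) → (π e = P ↔ e ∈ P) := by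
    rintro P e ⟨e', rfl⟩
    constructor
    · intro h; rw [← h]; simp [π]
    · intro h
      simp only [π, Finset.mem_insert, Finset.mem_singleton] at h
      rcases h with rfl | rfl
      · rfl
      · simp only [π, hstst]; exact Finset.pair_comm _ _
  let X : Type u := {P : Finset Bl // ∃ e, π e = P}
  haveI : Fintype X := Fintype.ofFinite X
  have himg : ∀ (g : R) e, (π e).image (g • ·) = π (g • e) := fun g e => by
    simp [π, Finset.image_insert, hstg]
  letI : MulAction R X :=
    { smul := fun g P => ⟨P.1.image (g • ·), by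
        obtain ⟨e, he⟩ := P.2
        exact ⟨g • e, by rw [← he, himg]⟩⟩
      one_smul := fun P => Subtype.ext (by
        change P.1.image ((1 : R) • ·) = P.1
        simp)
      mul_smul := fun g h P => Subtype.ext (by
        change P.1.image ((g * h) • ·) = (P.1.image (h • ·)).image (g • ·)
        rw [Finset.image_image]
        exact Finset.image_congr fun e _ => mul_smul g h e) }
  obtain ⟨b, hb⟩ : ∃ b : Bl, b.1 ≠ 1 := by
    by_contra hall
    push Not at hall
    obtain ⟨a, ha, hae⟩ := exists_atom_below he₀ hid h0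
    have h2 : a = 1 := hall ⟨a, ha⟩
    rw [h2, one_mul] at hae
    exact h1 hae
  by_cases hX : 2 ≤ Fintype.card X
  · exfalso
    refine hnp X (fun P => ∑ f ∈ P.1, f.1) hX (fun P => hSid P.1) (fun P P' hne => ?_) (fun P h => ?_) ?_
      (fun g P x => ?_) fun P x y => ?_
    · rw [Finset.mul_sum]
      refine Finset.sum_eq_zero fun e he => ?_
      rw [hSmul, if_neg fun he' => hne (Subtype.ext ?_)]
      rw [← ((hπ P.1 e P.2).2 he'), (hπ P'.1 e P'.2).2 he]
    · obtain ⟨e, he⟩ := P.2
      have hmem : e ∈ P.1 := (hπ P.1 e P.2).1 he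
      have h2 := hSmul P.1 e
      rw [h, zero_mul, if_pos hmem] at h2
      exact e.2.2.2.1 h2.symm
    · let π' : Bl → X := fun e => ⟨π e, e, rfl⟩
      rw [← hsum1, ← Finset.sum_fiberwise Finset.univ π' fun e : Bl => e.1]
      refine Finset.sum_congr rfl fun P _ => Finset.sum_congr ?_ fun _ _ => rfl
      ext e
      simp only [Finset.mem_filter, Finset.mem_univ, true_and, π']
      refine (hπ P.1 e P.2).symm.trans ⟨fun h => Subtype.ext h, fun h => congrArg Subtype.val h⟩
    · refine (congrArg (g • ·) (AddMonoidHom.finsetSum_apply (fun e : Bl => e.1) _ _)).trans ?_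
      refine Eq.trans ?_ (AddMonoidHom.finsetSum_apply (fun e : Bl => e.1) _ _).symm
      rw [Finset.smul_sum]
      change _ = ∑ e ∈ P.1.image (g • ·), e.1 (g • x)
      rw [Finset.sum_image fun a _ b _ h => MulAction.injective g h]
      refine Finset.sum_congr rfl fun e _ => ?_
      change g • e.1 x = act R W g (e.1 (act R W g⁻¹ (g • x)))
      rw [act_apply, act_apply, inv_smul_smul]
    · obtain ⟨e, he⟩ := P.2
      have hsa : S.IsAdj (∑ f ∈ π e, f.1) (∑ f ∈ π e, f.1) := by
        by_cases hfix : e = st e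
        · have hs : π e = {e} := by simp [π, ← hfix]
          rw [hs, Finset.sum_singleton]
          conv => arg 3; rw [hfix]
          exact hadj e
        · simp only [π, Finset.sum_pair hfix]
          have h2 := (hadj e).add (hadj e).flip
          rwa [add_comm (adj e) e.1] at h2
      rw [← he]
      exact hsa x y
  have hall : ∀ e : Bl, π e = π b := fun e => by
    have hle : Fintype.card X ≤ 1 := by omega
    haveI := Fintype.card_le_one_iff_subsingleton.1 hle
    exact congrArg Subtype.val (Subsingleton.elim (⟨π e, e, rfl⟩ : X) ⟨π b, b, rfl⟩)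
  have huniv : (Finset.univ : Finset Bl) = π b := by
    ext e
    simp only [Finset.mem_univ, true_iff]
    exact (hπ _ e ⟨b, rfl⟩).1 (hall e)
  have hne : b ≠ st b := by
    intro h
    refine hb ?_
    rw [← hsum1, huniv]
    simp [π, ← h]
  refine ⟨b.1, (st b).1, b.2, (st b).2, fun h => hne (Subtype.ext h), hadj b, ?_, fun g => ?_⟩
  · rw [← hsum1, huniv]
    exact (Finset.sum_pair hne).symm
  · have h2 := (hπ _ (g • b) ⟨b, rfl⟩).1 (hall (g • b))
    simp only [π, Finset.mem_insert, Finset.mem_singleton] at h2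
    exact h2.imp (congrArg Subtype.val) (congrArg Subtype.val)

end Cfsg.Lib.CoprimeBase
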