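import Cfsg.Agent.CoprimeBase.Basic

/-!
Tensor decompositions permuted by the group give pairs from pairs of the factors.
-/

set_option autoImplicit false
set_option linter.unusedSectionVars false

namespace Cfsg.Lib.CoprimeBase

open Cfsg.Lib.OddBase

universe u

/-- Commuting matrix algebras permuted by a linear group. -/
structure TensorData (A : Type u) [Group A] (K : Type u) [Field K] (V : Type u) [AddCommGroup V]
    [DistribMulAction A V] [Module K V] where
  ι : Type u
  [fin : Fintype ι]
  [act : MulAction A ι]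
  n : ι → ℕ
  hn : ∀ i, 2 ≤ n i
  htwo : 2 ≤ Fintype.card ι
  φ : ∀ i, Module.End K (Fin (n i) → K) →ₐ[K] Module.End K V
  hinj : ∀ i, Function.Injective (φ i)
  hcomm : ∀ i j, i ≠ j → ∀ S T (v : V), φ i S (φ j T v) = φ j T (φ i S v)
  hconj : ∀ (a : A) (i : ι) T, ∃ T', ∀ v : V, a • φ i T v = φ (a • i) T' (a • v)
  hdim : Module.finrank K V = ∏ i, n i

attribute [instance] TensorData.fin TensorData.act

section

variable {K : Type u} [Field K] {S : Type*} [AddCommGroup S] [Module K S]

/-- Operators commuting with all operators are scalar. -/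
theorem exists_scalar {g : Module.End K S} (h : ∀ T : Module.End K S, g * T = T * g) {x : S}
    (f : S →ₗ[K] K) (hf : f x = 1) : ∀ s, g s = f (g x) • s := by
  intro s
  have h1 : g x = f (g x) • x := by
    have := LinearMap.congr_fun (h (f.smulRight x)) x
    simpa [Module.End.mul_apply, hf] using this
  have h2 := LinearMap.congr_fun (h (f.smulRight s)) x
  simpa [Module.End.mul_apply, hf] using h2

end

set_option maxHeartbeats 1000000 in
/-- Pairs for tensor decompositions. -/
theorem pair_tensor {A : Type u} [Group A] [Finite A] [Group.IsSolvable A] {K : Type u} [Field K]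
    [Finite K] {V : Type u} [AddCommGroup V] [Finite V] [DistribMulAction A V] [Module K V]
    {p : ℕ} [Fact p.Prime] [CharP K p]
    (hA : ¬ p ∣ Nat.card A) (hcommK : ∀ (a : A) (k : K) (v : V), a • (k • v) = k • (a • v))
    (ih : Small.{u} p (Nat.card V)) (D : TensorData A K V) [Nontrivial V] : Pair A V := by
  classical
  haveI := Fintype.ofFinite A
  -- rank one operators
  have hQsum : ∀ (i : D.ι) (x : Fin (D.n i) → K) (f : (Fin (D.n i) → K) →ₗ[K] K), f x = 1 →
      ∀ v : V, v ≠ 0 → ∃ T, D.φ i (f.smulRight x) (D.φ i T v) ≠ 0 := by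
    intro i x f hf v hv
    by_contra hno
    push Not at hno
    apply hv
    let b := Pi.basisFun K (Fin (D.n i))
    have h1 : (1 : Module.End K (Fin (D.n i) → K)) =
        ∑ k, f.smulRight (b k) * f.smulRight x * (b.coord k).smulRight x := by
      refine LinearMap.ext fun w => ?_
      simp only [LinearMap.coe_sum, Finset.sum_apply, Module.End.mul_apply, LinearMap.smulRight_apply,
        map_smul, hf, smul_smul, one_smul, mul_one, Module.End.one_apply, smul_eq_mul]
      exact (b.sum_repr w).symm
    have h2 : v = D.φ i 1 v := by rw [map_one]; rfl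
    rw [h2, h1, map_sum, LinearMap.coe_sum, Finset.sum_apply]
    refine Finset.sum_eq_zero fun k _ => ?_
    rw [map_mul, map_mul, Module.End.mul_apply, Module.End.mul_apply, hno, map_zero]
  -- pairs for the factors
  have hpair : ∀ i, ∃ x y : Fin (D.n i) → K, x ≠ 0 ∧ ∀ g : Module.End K (Fin (D.n i) → K),
      ∀ g' : Module.End K (Fin (D.n i) → K), g * g' = 1 → g' * g = 1 →
      (∃ a : A, a • i = i ∧ ∀ T v, a • D.φ i T v = D.φ i (g * T * g') (a • v)) →
      g x = x → g y = y → g = 1 := by
    intro i
    set S := Fin (D.n i) → K with hS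
    let B := MulAction.stabilizer A i
    let G : Subgroup (Module.End K S)ˣ :=
      { carrier := {g | ∃ a : A, a • i = i ∧ ∀ (T : Module.End K S) (v : V),
          a • D.φ i T v = D.φ i ((g : Module.End K S) * T * (↑g⁻¹ : Module.End K S)) (a • v)}
        one_mem' := ⟨1, one_smul A i, fun T v => by simp⟩
        mul_mem' := fun {g h} hg hh => by
          obtain ⟨a, ha, hga⟩ := hg
          obtain ⟨b, hb, hhb⟩ := hh
          refine ⟨a * b, by rw [mul_smul, hb, ha], fun T v => ?_⟩
          rw [mul_smul, hhb, hga, ← mul_smul]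
          simp only [mul_inv_rev, Units.val_mul, mul_assoc]
        inv_mem' := fun {g} hg => by
          obtain ⟨a, ha, hga⟩ := hg
          refine ⟨a⁻¹, inv_smul_eq_iff.2 ha.symm, fun T v => ?_⟩
          rw [inv_smul_eq_iff, hga]
          simp only [inv_inv, smul_inv_smul]
          congr 2
          rw [← mul_assoc, ← mul_assoc, g.mul_inv, one_mul, mul_assoc, g.mul_inv, mul_one] }
    haveI : Finite (Module.End K S)ˣ := by
      haveI : Finite (Module.End K S) := Finite.of_injective _ DFunLike.coe_injective
      infer_instance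
    letI : DistribMulAction G S :=
      { smul := fun g s => ((g : (Module.End K S)ˣ) : Module.End K S) s
        one_smul := fun s => rfl
        mul_smul := fun g h s => rfl
        smul_zero := fun g => map_zero _
        smul_add := fun g s t => map_add _ s t }
    obtain ⟨x0, hx0⟩ : ∃ x : S, x ≠ 0 := by
      haveI : Nonempty (Fin (D.n i)) := ⟨⟨0, lt_of_lt_of_le two_pos (D.hn i)⟩⟩
      exact exists_ne 0
    obtain ⟨f0, hf0⟩ := Module.Projective.exists_dual_ne_zero K hx0
    let f : S →ₗ[K] K := (f0 x0)⁻¹ • f0
    have hf : f x0 = 1 := by simp [f, inv_mul_cancel₀ hf0]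
    have hker : ∀ g : (Module.End K S)ˣ, (∀ T : Module.End K S,
        (g : Module.End K S) * T * (↑g⁻¹ : Module.End K S) = T) → ∀ s, (g : Module.End K S) s =
          f ((g : Module.End K S) x0) • s := by
      intro g hg
      refine exists_scalar (fun T => ?_) f hf
      conv_rhs => rw [← hg T]
      rw [mul_assoc, g.inv_mul, mul_one]
    -- coprime
    have hGp : ¬ p ∣ Nat.card G := by
      intro hd
      obtain ⟨⟨g, a, hai, hga⟩, hg⟩ := exists_prime_orderOf_dvd_card' (G := G) p hd
      rw [← Subgroup.orderOf_coe] at hg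
      change orderOf g = p at hg
      have hpow : ∀ (k : ℕ) (T : Module.End K S) (v : V), a ^ k • D.φ i T v =
          D.φ i (((g ^ k : (Module.End K S)ˣ) : Module.End K S) * T *
            (↑(g ^ k)⁻¹ : Module.End K S)) (a ^ k • v) := by
        intro k
        induction k with
        | zero => intro T v; simp
        | succ k ihk =>
          intro T v
          rw [pow_succ', mul_smul, ihk, hga, ← mul_smul, pow_succ' g]
          simp only [mul_inv_rev, Units.val_mul, mul_assoc]
      have hfix : ∀ T : Module.End K S, ((g ^ Nat.card A : (Module.End K S)ˣ) : Module.End K S) * T *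
          (↑(g ^ Nat.card A)⁻¹ : Module.End K S) = T := by
        intro T
        refine D.hinj i (LinearMap.ext fun v => ?_)
        have := hpow (Nat.card A) T v
        rw [pow_card_eq_one', one_smul, one_smul] at this
        exact this.symm
      have hs := hker _ hfix
      set h := g ^ Nat.card A with hh
      set c := f ((h : Module.End K S) x0) with hc
      have hpw : ∀ k : ℕ, ∀ s, ((h ^ k : (Module.End K S)ˣ) : Module.End K S) s = c ^ k • s := by
        intro k
        induction k with
        | zero => intro s; simp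
        | succ k ihk =>
          intro s
          rw [pow_succ, Units.val_mul, Module.End.mul_apply, ihk, hs, smul_smul, pow_succ]
      have hc1 : c = 1 := by
        have h1 := hpw p x0
        rw [hh, ← pow_mul, mul_comm, pow_mul, ← hg, pow_orderOf_eq_one, one_pow, Units.val_one,
          Module.End.one_apply, hg] at h1
        have h2 := congrArg f h1
        rw [map_smul, hf, smul_eq_mul, mul_one] at h2
        refine sub_eq_zero.1 (pow_eq_zero_iff (Fact.out (p := p.Prime)).ne_zero |>.1 ?_)
        rw [sub_pow_char, one_pow, ← h2, sub_self]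
      have : h = 1 := Units.ext (LinearMap.ext fun s => by rw [hs, hc1, one_smul]; rfl)
      exact hA (hg ▸ orderOf_dvd_of_pow_eq_one this)
    -- solvable
    have hsolv : Group.IsSolvable G := by
      let inv' : Module.End K V → Module.End K S := Function.invFun (D.φ i)
      have hbex : ∀ (b : B) (T : Module.End K S), ∃ T', ∀ v : V,
          (b : A) • D.φ i T v = D.φ i T' ((b : A) • v) := by
        intro b T
        have h := D.hconj (b : A) i T
        rw [MulAction.mem_stabilizer_iff.1 b.2] at h
        exact h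
      choose bt hbt using hbex
      have huniq : ∀ (b : B) T T', (∀ v : V, (b : A) • D.φ i T v = D.φ i T' ((b : A) • v)) →
          T' = bt b T := by
        intro b T T' h
        refine D.hinj i (LinearMap.ext fun v => ?_)
        have h1 := (h ((b : A)⁻¹ • v)).symm.trans (hbt b T ((b : A)⁻¹ • v))
        rwa [smul_inv_smul] at h1
      let β : B →* Function.End (Module.End K S) :=
        { toFun := bt
          map_one' := funext fun T => (huniq 1 T T fun v => by simp).symm
          map_mul' := fun b c => funext fun T => (huniq (b * c) T (bt b (bt c T)) fun v => by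
            rw [Subgroup.coe_mul, mul_smul, hbt c, hbt b, ← mul_smul]).symm }
      let γ : G →* Function.End (Module.End K S) :=
        { toFun := fun g T => ((g : (Module.End K S)ˣ) : Module.End K S) * T *
            (↑(g : (Module.End K S)ˣ)⁻¹ : Module.End K S)
          map_one' := funext fun T => by simp; rfl
          map_mul' := fun g h => funext fun T => by
            simp only [Subgroup.coe_mul, mul_inv_rev, Units.val_mul, mul_assoc]; rfl }
      have hle : γ.toHomUnits.range ≤ β.toHomUnits.range := by
        rintro _ ⟨g, rfl⟩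
        obtain ⟨a, ha, hga⟩ := g.2
        exact ⟨⟨a, MulAction.mem_stabilizer_iff.2 ha⟩, Units.ext (funext fun T =>
          (huniq ⟨a, MulAction.mem_stabilizer_iff.2 ha⟩ T _ (hga T)).symm)⟩
      haveI : Group.IsSolvable β.toHomUnits.range :=
        Group.isSolvable_of_surjective β.toHomUnits.rangeRestrict_surjective
      haveI : Group.IsSolvable γ.toHomUnits.range :=
        Group.isSolvable_of_isSolvable_injective (f := Subgroup.inclusion hle) (Subgroup.inclusion_injective hle)
      haveI : Group.IsSolvable γ.toHomUnits.ker := by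
        refine Group.isSolvable_of_comm fun g h => Subtype.ext (Subtype.ext (Units.ext ?_))
        have hh : ∀ T : Module.End K S, ((h.1 : (Module.End K S)ˣ) : Module.End K S) * T *
            (↑(h.1 : (Module.End K S)ˣ)⁻¹ : Module.End K S) = T := fun T =>
          congrArg (fun u : (Function.End (Module.End K S))ˣ => (u : Function.End (Module.End K S)) T)
            (MonoidHom.mem_ker.1 h.2 : γ.toHomUnits h.1 = (1 : (Function.End (Module.End K S))ˣ))
        have h1 := hh ((g.1 : (Module.End K S)ˣ) : Module.End K S)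
        change ((g.1 : (Module.End K S)ˣ) : Module.End K S) * ((h.1 : (Module.End K S)ˣ) : Module.End K S) =
          ((h.1 : (Module.End K S)ˣ) : Module.End K S) * ((g.1 : (Module.End K S)ˣ) : Module.End K S)
        conv_lhs => rw [← h1]
        rw [mul_assoc, Units.inv_mul, mul_one]
      exact Group.isSolvable_of_ker_le_range γ.toHomUnits.ker.subtype γ.toHomUnits.rangeRestrict
        (by rw [MonoidHom.ker_rangeRestrict, Subgroup.range_subtype])
    have hcard : Nat.card S < Nat.card V := by
      rw [Module.natCard_eq_pow_finrank (K := K) (V := S), Module.natCard_eq_pow_finrank (K := K) (V := V),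
        Module.finrank_fin_fun, D.hdim]
      refine Nat.pow_lt_pow_right Finite.one_lt_card ?_
      obtain ⟨j, hj⟩ : ∃ j, j ≠ i := Fintype.exists_ne_of_one_lt_card D.htwo i
      rw [← Finset.mul_prod_erase Finset.univ D.n (Finset.mem_univ i)]
      refine lt_mul_of_one_lt_right (lt_of_lt_of_le two_pos (D.hn i)) ?_
      refine lt_of_lt_of_le (lt_of_lt_of_le one_lt_two (D.hn j)) ?_
      exact Finset.single_le_prod' (f := D.n) (fun k _ => le_trans one_le_two (D.hn k))
        (Finset.mem_erase.2 ⟨hj, Finset.mem_univ j⟩)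
    haveI : Finite S := inferInstance
    obtain ⟨x, y, hxy⟩ := ih G S hcard hsolv (fun s => by
      rw [← Nat.cast_smul_eq_nsmul K, CharP.cast_eq_zero, zero_smul]) hGp
    have key : ∀ x y : S, (∀ g : G, g • x = x → g • y = y → ∀ s, g • s = s) →
        ∀ g g' : Module.End K S, g * g' = 1 → g' * g = 1 →
          (∃ a : A, a • i = i ∧ ∀ T v, a • D.φ i T v = D.φ i (g * T * g') (a • v)) →
          g x = x → g y = y → g = 1 := fun x y h g g' h1 h2 hex e1 e2 =>
      LinearMap.ext fun s => h ⟨⟨g, g', h1, h2⟩, hex⟩ e1 e2 s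
    by_cases hx : x = 0
    · refine ⟨if y = 0 then x0 else y, 0, by split_ifs with h <;> assumption, ?_⟩
      refine key _ _ fun g e1 _ => hxy g (by rw [hx, smul_zero]) ?_
      split_ifs at e1 with h
      · rw [h, smul_zero]
      · exact e1
    · exact ⟨x, y, hx, key _ _ hxy⟩
  choose x y₀ hx hxy using hpair
  have hdual : ∀ i, ∃ f : (Fin (D.n i) → K) →ₗ[K] K, f (x i) = 1 := fun i => by
    obtain ⟨f0, hf0⟩ := Module.Projective.exists_dual_ne_zero K (hx i)
    exact ⟨(f0 (x i))⁻¹ • f0, by simp [inv_mul_cancel₀ hf0]⟩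
  choose f₀ hf₀ using hdual
  let Q := fun i => D.φ i ((f₀ i).smulRight (x i))
  have hQQ : ∀ i v, Q i (Q i v) = Q i v := fun i v => by
    simp only [Q, ← Module.End.mul_apply, ← map_mul]
    congr 2
    refine LinearMap.ext fun w => ?_
    simp [Module.End.mul_apply, hf₀ i]
  -- the first vector
  obtain ⟨X, hX0, hQX⟩ : ∃ X : V, X ≠ 0 ∧ ∀ i, Q i X = X := by
    suffices ∀ s : Finset D.ι, ∃ X : V, X ≠ 0 ∧ ∀ i ∈ s, Q i X = X by
      obtain ⟨X, h1, h2⟩ := this Finset.univ
      exact ⟨X, h1, fun i => h2 i (Finset.mem_univ i)⟩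
    intro s
    induction s using Finset.induction with
    | empty =>
      obtain ⟨v, hv⟩ := exists_ne (0 : V)
      exact ⟨v, hv, by simp⟩
    | @insert j s hj ihs =>
      obtain ⟨X, hX, hfix⟩ := ihs
      obtain ⟨T, hT⟩ := hQsum j _ (f₀ j) (hf₀ j) X hX
      refine ⟨_, hT, fun i hi => ?_⟩
      rcases Finset.mem_insert.1 hi with rfl | hi
      · exact hQQ i _
      · have hne : i ≠ j := fun h => hj (h ▸ hi)
        change D.φ i _ _ = _
        rw [D.hcomm i j hne, D.hcomm i j hne]
        exact congrArg _ (congrArg _ (hfix i hi))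
  -- the action on the algebras
  let L : A → Module.End K V := fun a =>
    { toFun := fun v => a • v
      map_add' := smul_add a
      map_smul' := hcommK a }
  let Rg : D.ι → Submodule K (Module.End K V) := fun i => LinearMap.range (D.φ i).toLinearMap
  have hRg : ∀ i T, D.φ i T ∈ Rg i := fun i T => ⟨T, rfl⟩
  let cj : A → Module.End K V → Module.End K V := fun a M => L a * M * L a⁻¹
  have hcj_apply : ∀ a M v, cj a M (a • v) = a • M v := fun a M v => by
    change a • M (a⁻¹ • (a • v)) = _
    rw [inv_smul_smul]
  have hcjR : ∀ a i M, M ∈ Rg i → cj a M ∈ Rg (a • i) := by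
    rintro a i _ ⟨T, rfl⟩
    obtain ⟨T', hT'⟩ := D.hconj a i T
    refine ⟨T', LinearMap.ext fun v => ?_⟩
    change D.φ (a • i) T' v = a • D.φ i T (a⁻¹ • v)
    rw [hT', smul_inv_smul]
  have hcjR' : ∀ a i M, M ∈ Rg i → cj a⁻¹ M ∈ Rg (a⁻¹ • i) := fun a i M => hcjR a⁻¹ i M
  have hcommR : ∀ i j, i ≠ j → ∀ M ∈ Rg i, ∀ N ∈ Rg j, ∀ v, M (N v) = N (M v) := by
    rintro i j hij _ ⟨S, rfl⟩ _ ⟨T, rfl⟩ v
    exact D.hcomm i j hij S T v
  have hval : ∀ i (T : Module.End K (Fin (D.n i) → K)),
      D.φ i T X = D.φ i ((f₀ i).smulRight (T (x i))) X := by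
    intro i T
    conv_lhs => rw [← hQX i]
    rw [← Module.End.mul_apply, ← map_mul]
    congr 2
    refine LinearMap.ext fun w => ?_
    simp [Module.End.mul_apply]
  have hinjX : ∀ i (T : Module.End K (Fin (D.n i) → K)), D.φ i T X = 0 → T (x i) = 0 := by
    intro i T hT
    by_contra hne
    obtain ⟨g, hg⟩ := Module.Projective.exists_dual_ne_zero K hne
    have h1 := congrArg (D.φ i (((g (T (x i)))⁻¹ • g).smulRight (x i))) hT
    rw [map_zero, ← Module.End.mul_apply, ← map_mul, hval] at h1
    simp only [Module.End.mul_apply, LinearMap.smulRight_apply, LinearMap.smul_apply, smul_eq_mul,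
      inv_mul_cancel₀ hg, one_smul] at h1
    exact hX0 ((hQX i).symm.trans h1)
  -- the invariant idempotents
  let H := MulAction.stabilizer A X
  haveI : Fintype H := Fintype.ofFinite H
  let c : K := (Nat.card H : K)⁻¹
  have hc : c * (Nat.card H : K) = 1 := inv_mul_cancel₀ fun h =>
    hA (((CharP.cast_eq_zero_iff K p _).1 h).trans (Subgroup.card_subgroup_dvd_card H))
  let Pb : D.ι → Module.End K V := fun i => c • ∑ a : H, cj (a : A) (Q ((a : A)⁻¹ • i))
  have hPR : ∀ i, Pb i ∈ Rg i := fun i => Submodule.smul_mem _ _ (sum_mem fun a _ => by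
    have := hcjR (a : A) _ _ (hRg ((a : A)⁻¹ • i) ((f₀ ((a : A)⁻¹ • i)).smulRight (x ((a : A)⁻¹ • i))))
    rwa [smul_inv_smul] at this)
  have hPX : ∀ i, Pb i X = X := by
    intro i
    simp only [Pb, LinearMap.smul_apply, LinearMap.coe_sum, Finset.sum_apply]
    rw [Finset.sum_congr rfl (g := fun _ => X) fun a _ => ?_, Finset.sum_const, Finset.card_univ,
      ← Nat.card_eq_fintype_card, ← Nat.cast_smul_eq_nsmul K, smul_smul, hc, one_smul]
    have ha : (a : A) • X = X := MulAction.mem_stabilizer_iff.1 a.2
    conv_lhs => rw [← ha, hcj_apply, hQX, ha]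
  have hQann : ∀ i, ∀ N ∈ Rg i, N X = 0 → N * Q i = 0 := by
    rintro i _ ⟨T, rfl⟩ hT
    change D.φ i T * D.φ i _ = 0
    rw [← map_mul, show T * (f₀ i).smulRight (x i) = 0 from LinearMap.ext fun w => by
      simp [Module.End.mul_apply, hinjX i T hT], map_zero]
  have hPann : ∀ i, ∀ N ∈ Rg i, N X = 0 → N * Pb i = 0 := by
    intro i N hN hNX
    simp only [Pb, mul_smul_comm, Finset.mul_sum]
    rw [Finset.sum_eq_zero fun a _ => ?_, smul_zero]
    have ha : ((a : A))⁻¹ • X = X := inv_smul_eq_iff.2 (MulAction.mem_stabilizer_iff.1 a.2).symm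
    have h1 := hQann ((a : A)⁻¹ • i) (cj (a : A)⁻¹ N) (hcjR' _ _ _ hN) (by
      conv_lhs => rw [← ha, hcj_apply, hNX, smul_zero])
    refine LinearMap.ext fun v => ?_
    have h2 := LinearMap.congr_fun h1 ((a : A)⁻¹ • v)
    change (a : A)⁻¹ • N ((a : A)⁻¹⁻¹ • Q _ ((a : A)⁻¹ • v)) = 0 at h2
    rw [inv_inv, smul_eq_zero_iff_eq] at h2
    exact h2
  have hPcj : ∀ (a : H) i, cj (a : A) (Pb i) = Pb ((a : A) • i) := by
    intro a i
    simp only [Pb, cj, mul_smul_comm, smul_mul_assoc, Finset.mul_sum, Finset.sum_mul]
    refine congrArg (c • ·) (Fintype.sum_equiv (Equiv.mulLeft a) _ _ fun b => ?_)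
    simp only [Equiv.coe_mulLeft, Subgroup.coe_mul, mul_inv_rev]
    refine LinearMap.ext fun v => ?_
    change (a : A) • (b : A) • Q _ ((b : A)⁻¹ • (a : A)⁻¹ • v) =
      ((a : A) * b) • Q _ (((b : A)⁻¹ * (a : A)⁻¹) • v)
    rw [mul_smul, mul_smul, mul_smul, inv_smul_smul]
  choose Pt hPt using hPR
  have hPtx : ∀ i, Pt i (x i) = x i := by
    intro i
    refine sub_eq_zero.1 (hinjX i (Pt i - 1) ?_)
    rw [map_sub, map_one, LinearMap.sub_apply]
    exact sub_eq_zero.2 ((LinearMap.congr_fun (hPt i) X).trans (hPX i))
  have hfP : ∀ i, ∀ w, Pt i w = f₀ i (Pt i w) • x i := by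
    intro i w
    have h1 := hPann i (D.φ i (1 - (f₀ i).smulRight (x i))) (hRg _ _) (by
      rw [map_sub, map_one, LinearMap.sub_apply]
      exact sub_eq_zero.2 (hQX i).symm)
    rw [← hPt i] at h1
    change D.φ i _ * D.φ i (Pt i) = 0 at h1
    rw [← map_mul, map_eq_zero_iff _ (D.hinj i)] at h1
    have h2 := LinearMap.congr_fun h1 w
    simp only [Module.End.mul_apply, LinearMap.sub_apply, Module.End.one_apply,
      LinearMap.smulRight_apply, LinearMap.zero_apply] at h2
    exact sub_eq_zero.1 h2
  let fP : ∀ i, (Fin (D.n i) → K) →ₗ[K] K := fun i => (f₀ i).comp (Pt i)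
  have hfPx : ∀ i, fP i (x i) = 1 := fun i => by simp [fP, hPtx, hf₀]
  have hPt' : ∀ i, Pt i = (fP i).smulRight (x i) := fun i => LinearMap.ext fun w => by
    simpa [fP] using hfP i w
  have hPb : ∀ i, Pb i = D.φ i ((fP i).smulRight (x i)) := fun i => by
    rw [← hPt']; exact (hPt i).symm
  -- second vectors in the kernels
  have hy : ∀ i, ∃ y, fP i y = 0 ∧ y ≠ 0 ∧
      ∀ g g' : Module.End K (Fin (D.n i) → K), g * g' = 1 → g' * g = 1 →
      (∃ a : A, a • i = i ∧ ∀ T v, a • D.φ i T v = D.φ i (g * T * g') (a • v)) →
      g (x i) = x i → g y = y → g = 1 := by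
    intro i
    let y1 := y₀ i - fP i (y₀ i) • x i
    have hy1 : fP i y1 = 0 := by simp [y1, hfPx]
    by_cases h0 : y1 = 0
    · obtain ⟨w, hw, hw0⟩ : ∃ w, fP i w = 0 ∧ w ≠ 0 := by
        by_contra hno
        push Not at hno
        have hinj' : Function.Injective (fP i) := (injective_iff_map_eq_zero _).2 hno
        have := LinearMap.finrank_le_finrank_of_injective hinj'
        rw [Module.finrank_fin_fun, Module.finrank_self] at this
        have := D.hn i
        omega
      refine ⟨w, hw, hw0, fun g g' h1 h2 hex e1 _ => hxy i g g' h1 h2 hex e1 ?_⟩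
      rw [sub_eq_zero.1 h0, map_smul, e1]
    · refine ⟨y1, hy1, h0, fun g g' h1 h2 hex e1 e2 => hxy i g g' h1 h2 hex e1 ?_⟩
      rw [show y₀ i = y1 + fP i (y₀ i) • x i from (sub_add_cancel _ _).symm, map_add, map_smul, e1, e2]
  choose yv hyf hy0 hyg using hy
  let U : D.ι → Module.End K V := fun i => D.φ i ((fP i).smulRight (yv i))
  have hUR : ∀ i, U i ∈ Rg i := fun i => hRg _ _
  have hdual' : ∀ i, ∃ g : (Fin (D.n i) → K) →ₗ[K] K, g (yv i) = 1 := fun i => by
    obtain ⟨f0, hf0⟩ := Module.Projective.exists_dual_ne_zero K (hy0 i)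
    exact ⟨(f0 (yv i))⁻¹ • f0, by simp [inv_mul_cancel₀ hf0]⟩
  choose gd hgd using hdual'
  let U' : D.ι → Module.End K V := fun i => D.φ i ((gd i).smulRight (x i))
  have hU'U : ∀ i v, U' i (U i v) = Pb i v := by
    intro i v
    rw [hPb, ← Module.End.mul_apply, ← map_mul]
    congr 2
    refine LinearMap.ext fun w => ?_
    simp [Module.End.mul_apply, hgd]
  have hPU : ∀ i v, Pb i (U i v) = 0 := by
    intro i v
    rw [hPb, ← Module.End.mul_apply, ← map_mul,
      show (fP i).smulRight (x i) * (fP i).smulRight (yv i) = 0 from LinearMap.ext fun w => by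
        simp [Module.End.mul_apply, hyf], map_zero, LinearMap.zero_apply]
  -- the chain
  let e : Fin (Fintype.card D.ι) ≃ D.ι := (Fintype.equivFin D.ι).symm
  set m := Fintype.card D.ι with hm
  let step : (D.ι → Module.End K V) → ℕ → V → V := fun M k v =>
    if h : k < m then M (e ⟨k, h⟩) v else v
  let W : (D.ι → Module.End K V) → ℕ → V := fun M k => Nat.rec X (fun j v => step M j v) k
  have hW0 : ∀ M, W M 0 = X := fun M => rfl
  have hW1 : ∀ M (k : Fin m), W M (k + 1) = M (e k) (W M k) := fun M k => by
    change step M k (W M k) = _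
    simp only [step, dif_pos k.2]
  refine ⟨X, ∑ k ∈ Finset.range m, W U (k + 1), fun a ha hY => ?_⟩
  let π : Fin m → Fin m := fun k => e.symm (a • e k)
  have hπe : ∀ k, e (π k) = a • e k := fun k => e.apply_symm_apply _
  let M' : D.ι → Module.End K V := fun i => cj a (U (a⁻¹ • i))
  let aH : H := ⟨a, ha⟩
  have hM'R : ∀ i, cj a (U i) ∈ Rg (a • i) := fun i => hcjR a i _ (hUR i)
  have hWR : ∀ k : ℕ, a • W U k = Nat.rec X
      (fun j v => if h : j < m then cj a (U (e ⟨j, h⟩)) v else v) k := by
    intro k
    induction k with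
    | zero => exact ha
    | succ k ihk =>
      change a • step U k (W U k) = _
      simp only [step]
      split_ifs with h
      · rw [← hcj_apply, ihk]
      · exact ihk
  -- behaviour of the idempotents on the chain
  have hsupp : ∀ (k : ℕ), k ≤ m → ∀ j : Fin m,
      (Pb (e j) (W U k) = if (j : ℕ) < k then 0 else W U k) ∧
      (Pb (a • e j) (a • W U k) = if (j : ℕ) < k then 0 else a • W U k) := by
    intro k hk
    induction k with
    | zero => intro j; simp only [Nat.not_lt_zero, if_false, hW0, hPX, ha, and_self]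
    | succ k ihk =>
      intro j
      let k' : Fin m := ⟨k, hk⟩
      have h1 := ihk (by omega) j
      have hfst : Pb (e j) (W U (k + 1)) = if (j : ℕ) < k + 1 then 0 else W U (k + 1) := by
        rw [hW1 U k']
        by_cases hjk : j = k'
        · subst hjk
          rw [if_pos (Nat.lt_succ_self _), hPU]
        · have hne : (j : ℕ) ≠ k := fun h => hjk (Fin.ext h)
          rw [hcommR _ _ (fun h => hjk (e.injective h)) _ ((hPb (e j)).symm ▸ hRg _ _) _ (hUR (e k')), h1.1]
          by_cases hlt : (j : ℕ) < k
          · rw [if_pos hlt, if_pos (by omega), map_zero]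
          · rw [if_neg hlt, if_neg (by omega)]
      refine ⟨hfst, ?_⟩
      have := congrArg (a • ·) hfst
      rw [← hcj_apply, hPcj aH] at this
      rw [this]
      split_ifs <;> simp
  have hne : ∀ k, k ≤ m → W U k ≠ 0 := by
    intro k hk
    induction k with
    | zero => exact hX0
    | succ k ihk =>
      intro h
      let k' : Fin m := ⟨k, hk⟩
      have h1 : Pb (e k') (W U k) = W U k := by
        rw [(hsupp k (by omega) k').1, if_neg (lt_irrefl _)]
      apply ihk (by omega)
      rw [← h1, ← hU'U]
      rw [hW1 U k'] at h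
      rw [h, map_zero]
  have hneA : ∀ k, k ≤ m → a • W U k ≠ 0 := fun k hk h => hne k hk ((smul_eq_zero_iff_eq a).1 h)
  have hYeq : ∑ k ∈ Finset.range m, a • W U (k + 1) = ∑ k ∈ Finset.range m, W U (k + 1) := by
    rw [← Finset.smul_sum]; exact hY
  -- the permutation is trivial
  have hπ : ∀ k : Fin m, π k = k := by
    rintro ⟨l, hl⟩
    induction l using Nat.strong_induction_on with
    | _ l ihl =>
    by_contra hne'
    set k : Fin m := ⟨l, hl⟩ with hk
    -- an index sent to `k`
    obtain ⟨j, hj⟩ : ∃ j, π j = k := ⟨e.symm (a⁻¹ • e k), by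
      simp only [π, Equiv.apply_symm_apply, smul_inv_smul, Equiv.symm_apply_apply]⟩
    have hπinj : Function.Injective π := fun i i' h =>
      e.injective (MulAction.injective a (e.symm.injective h))
    have hjl : l < (j : ℕ) := by
      rcases lt_trichotomy (j : ℕ) l with h | h | h
      · have := ihl j h j.2
        rw [hj] at this
        exact absurd (congrArg Fin.val this) (by simp [hk]; omega)
      · exact absurd ((congrArg π (Fin.ext h : j = k)).symm.trans hj) hne'
      · exact h
    have hπk : l < (π k : ℕ) := by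
      rcases lt_trichotomy ((π k : Fin m) : ℕ) l with h | h | h
      · have := hπinj (ihl _ h (π k).2)
        exact absurd (congrArg Fin.val this) (by simp [hk] at h ⊢; omega)
      · exact absurd (Fin.ext h) hne'
      · exact h
    let l₁ : Fin m := ⟨l + 1, lt_of_le_of_lt (Nat.succ_le_of_lt hjl) j.2⟩
    let F : Module.End K V := (1 - Pb (a • e k)) * Pb (a • e j) * Pb (a • e l₁)
    have hF : ∀ v, F v = Pb (a • e j) (Pb (a • e l₁) v) - Pb (a • e k) (Pb (a • e j) (Pb (a • e l₁) v)) :=
      fun v => rfl
    have key := congrArg F hYeq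
    rw [map_sum, map_sum, Finset.sum_eq_single l, Finset.sum_eq_zero] at key
    · have h1 : F (a • W U (l + 1)) = a • W U (l + 1) := by
        rw [hF, (hsupp (l + 1) hl l₁).2, if_neg (lt_irrefl _), (hsupp (l + 1) hl j).2, if_neg (by omega),
          (hsupp (l + 1) hl k).2, if_pos (Nat.lt_succ_self l), sub_zero]
      rw [h1] at key
      exact hneA _ hl key
    · intro i hi
      have hi' : i + 1 ≤ m := Finset.mem_range.1 hi
      rw [hF, ← hπe j, hj, ← hπe k, ← hπe l₁, (hsupp (i + 1) hi' (π l₁)).1]
      split_ifs with h1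
      · simp only [map_zero, sub_zero]
      rw [(hsupp (i + 1) hi' k).1]
      by_cases hil : l < i + 1
      · rw [if_pos (show (k : ℕ) < i + 1 from hil), map_zero, sub_zero]
      · rw [if_neg (show ¬(k : ℕ) < i + 1 from hil), (hsupp (i + 1) hi' (π k)).1, if_neg (by omega), sub_self]
    · intro i hi hil
      have hi' : i + 1 ≤ m := Finset.mem_range.1 hi
      rw [hF, (hsupp (i + 1) hi' l₁).2]
      by_cases h1 : l + 1 < i + 1
      · rw [if_pos (show (l₁ : ℕ) < i + 1 from h1), map_zero, map_zero, sub_zero]
      · rw [if_neg (show ¬(l₁ : ℕ) < i + 1 from h1), (hsupp (i + 1) hi' j).2, if_neg (by omega),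
          (hsupp (i + 1) hi' k).2, if_neg (show ¬(k : ℕ) < i + 1 by change ¬ l < i + 1; omega), sub_self]
    · intro h
      exact absurd (Finset.mem_range.2 hl) h
  have hfixι : ∀ i, a • i = i := fun i => by
    obtain ⟨k, rfl⟩ := e.surjective i
    rw [← hπe, hπ]
  -- the terms agree
  have hterm : ∀ k : Fin m, a • W U (k + 1) = W U (k + 1) := by
    have hpre : ∀ k, k ≤ m → ∑ i ∈ Finset.range k, a • W U (i + 1) =
        ∑ i ∈ Finset.range k, W U (i + 1) := by
      intro k hk
      rcases Nat.lt_or_ge k m with hkm | hkm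
      · have h := congrArg (Pb (e ⟨k, hkm⟩)) hYeq
        rw [map_sum, map_sum] at h
        have hsub : Finset.range k ⊆ Finset.range m := fun x hx =>
          Finset.mem_range.2 (lt_of_lt_of_le (Finset.mem_range.1 hx) hk)
        have hL : ∀ i ∈ Finset.range m,
            Pb (e ⟨k, hkm⟩) (a • W U (i + 1)) = if i ∈ Finset.range k then a • W U (i + 1) else 0 := by
          intro i hi
          have h2 := (hsupp (i + 1) (Finset.mem_range.1 hi) ⟨k, hkm⟩).2
          rw [hfixι] at h2
          rw [h2]
          by_cases hik : i < k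
          · rw [if_neg (show ¬ k < i + 1 by omega), if_pos (Finset.mem_range.2 hik)]
          · rw [if_pos (show k < i + 1 by omega), if_neg (by simpa using hik)]
        have hR : ∀ i ∈ Finset.range m,
            Pb (e ⟨k, hkm⟩) (W U (i + 1)) = if i ∈ Finset.range k then W U (i + 1) else 0 := by
          intro i hi
          rw [(hsupp (i + 1) (Finset.mem_range.1 hi) ⟨k, hkm⟩).1]
          by_cases hik : i < k
          · rw [if_neg (show ¬ k < i + 1 by omega), if_pos (Finset.mem_range.2 hik)]
          · rw [if_pos (show k < i + 1 by omega), if_neg (by simpa using hik)]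
        rw [Finset.sum_congr rfl hL, Finset.sum_congr rfl hR, Finset.sum_ite_mem, Finset.sum_ite_mem,
          Finset.inter_eq_right.2 hsub] at h
        exact h
      · rw [show k = m from le_antisymm hk hkm]
        exact hYeq
    intro k
    have h1 := hpre (k + 1) k.2
    rw [Finset.sum_range_succ, Finset.sum_range_succ, hpre k k.2.le] at h1
    exact add_left_cancel h1
  have hfixW : ∀ k, k ≤ m → a • W U k = W U k := by
    intro k hk
    rcases k with _ | k
    · exact ha
    · exact hterm ⟨k, hk⟩
  -- an operator fixing `X` and commuting with the first factors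
  have hstrip : ∀ (k : ℕ), k ≤ m → ∀ j : Fin m, k ≤ (j : ℕ) → ∀ M ∈ Rg (e j), ∀ N ∈ Rg (e j),
      M (W U k) = N (W U k) → M X = N X := by
    intro k hk
    induction k with
    | zero => intro j _ M _ N _ h; exact h
    | succ k ihk =>
      intro j hj M hM N hN h
      let k' : Fin m := ⟨k, hk⟩
      have hne' : e j ≠ e k' := fun he => by
        have : (j : ℕ) = k := congrArg Fin.val (e.injective he)
        omega
      refine ihk (by omega) j (by omega) M hM N hN ?_
      have h2 := congrArg (U' (e k')) h
      rw [hW1 U k', ← hcommR _ _ hne' M hM _ (hRg _ _), ← hcommR _ _ hne' N hN _ (hRg _ _), hU'U,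
        (hsupp k (by omega) k').1, if_neg (lt_irrefl k)] at h2
      exact h2
  have hUX : ∀ i, a • U i X = U i X := by
    intro i
    obtain ⟨k, rfl⟩ := e.surjective i
    have h1 := hterm k
    rw [hW1 U k, ← hcj_apply, hfixW k k.2.le] at h1
    have h2 := hcjR a (e k) _ (hUR (e k))
    rw [hfixι] at h2
    have h3 := hstrip k k.2.le k le_rfl _ h2 _ (hUR (e k)) h1
    conv at h3 => lhs; rw [← ha, hcj_apply]
    exact h3
  -- the element centralises every factor
  have hcen : ∀ i (T : Module.End K (Fin (D.n i) → K)) v, a • D.φ i T v = D.φ i T (a • v) := by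
    intro i
    have hex : ∀ T, ∃ T', ∀ v, a • D.φ i T v = D.φ i T' (a • v) := fun T => by
      have h := D.hconj a i T
      rw [hfixι] at h
      exact h
    choose al hal using hex
    have hex' : ∀ T, ∃ T', ∀ v, a⁻¹ • D.φ i T v = D.φ i T' (a⁻¹ • v) := fun T => by
      have h := D.hconj a⁻¹ i T
      rw [inv_smul_eq_iff.2 (hfixι i).symm] at h
      exact h
    choose al' hal' using hex'
    have ha' : a⁻¹ • X = X := inv_smul_eq_iff.2 ha.symm
    let ψ : (Fin (D.n i) → K) →ₗ[K] V :=
      { toFun := fun s => D.φ i ((f₀ i).smulRight s) X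
        map_add' := fun s t => by
          rw [show (f₀ i).smulRight (s + t) = (f₀ i).smulRight s + (f₀ i).smulRight t from
            LinearMap.ext fun w => by simp [smul_add], map_add, LinearMap.add_apply]
        map_smul' := fun k s => by
          rw [show (f₀ i).smulRight (k • s) = k • (f₀ i).smulRight s from
            LinearMap.ext fun w => by simp [smul_comm k], map_smul, LinearMap.smul_apply, RingHom.id_apply] }
    have hψinj : LinearMap.ker ψ = ⊥ := LinearMap.ker_eq_bot'.2 fun s hs => by
      have := hinjX i _ hs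
      simpa [hf₀] using this
    have hψT : ∀ T s, D.φ i T (ψ s) = ψ (T s) := by
      intro T s
      change D.φ i T (D.φ i _ X) = D.φ i _ X
      rw [← Module.End.mul_apply, ← map_mul]
      congr 2
      refine LinearMap.ext fun w => ?_
      simp [Module.End.mul_apply]
    have hψX : ∀ T : Module.End K (Fin (D.n i) → K), D.φ i T X = ψ (T (x i)) := hval i
    let g : Module.End K (Fin (D.n i) → K) :=
      { toFun := fun s => al ((f₀ i).smulRight s) (x i)
        map_add' := fun s t => LinearMap.ker_eq_bot.1 hψinj (by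
          simp only [map_add, ← hψX]
          have e0 : ∀ r, D.φ i (al ((f₀ i).smulRight r)) X = a • ψ r := fun r => by
            conv_lhs => rw [← ha, ← hal]
            rfl
          rw [e0, e0, e0, map_add, smul_add])
        map_smul' := fun k s => LinearMap.ker_eq_bot.1 hψinj (by
          simp only [map_smul, RingHom.id_apply, ← hψX]
          have e0 : ∀ r, D.φ i (al ((f₀ i).smulRight r)) X = a • ψ r := fun r => by
            conv_lhs => rw [← ha, ← hal]
            rfl
          rw [e0, e0, map_smul, hcommK]) }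
    have hg : ∀ s, ψ (g s) = a • ψ s := fun s => by
      change ψ (al ((f₀ i).smulRight s) (x i)) = a • D.φ i _ X
      rw [← hψX, hal, ha]
    let g' : Module.End K (Fin (D.n i) → K) :=
      { toFun := fun s => al' ((f₀ i).smulRight s) (x i)
        map_add' := fun s t => LinearMap.ker_eq_bot.1 hψinj (by
          simp only [map_add, ← hψX]
          have e0 : ∀ r, D.φ i (al' ((f₀ i).smulRight r)) X = a⁻¹ • ψ r := fun r => by
            conv_lhs => rw [← ha', ← hal']
            rfl
          rw [e0, e0, e0, map_add, smul_add])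
        map_smul' := fun k s => LinearMap.ker_eq_bot.1 hψinj (by
          simp only [map_smul, RingHom.id_apply, ← hψX]
          have e0 : ∀ r, D.φ i (al' ((f₀ i).smulRight r)) X = a⁻¹ • ψ r := fun r => by
            conv_lhs => rw [← ha', ← hal']
            rfl
          rw [e0, e0, map_smul, hcommK]) }
    have hg' : ∀ s, ψ (g' s) = a⁻¹ • ψ s := fun s => by
      change ψ (al' ((f₀ i).smulRight s) (x i)) = a⁻¹ • D.φ i _ X
      rw [← hψX, hal', ha']
    have hgg' : g * g' = 1 := LinearMap.ext fun s => LinearMap.ker_eq_bot.1 hψinj (by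
      rw [Module.End.mul_apply, hg, hg', smul_inv_smul, Module.End.one_apply])
    have hg'g : g' * g = 1 := LinearMap.ext fun s => LinearMap.ker_eq_bot.1 hψinj (by
      rw [Module.End.mul_apply, hg', hg, inv_smul_smul, Module.End.one_apply])
    have halg : ∀ T, al T = g * T * g' := by
      intro T
      refine LinearMap.ext fun s => LinearMap.ker_eq_bot.1 hψinj ?_
      have h1 := hal T (ψ (g' s))
      rw [hψT, ← hg, ← hg, hψT, show g (g' s) = s from LinearMap.congr_fun hgg' s] at h1
      simpa [Module.End.mul_apply] using h1.symm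
    have h1 : g = 1 := hyg i g g' hgg' hg'g ⟨a, hfixι i, fun T v => by rw [hal, halg]⟩
      (LinearMap.ker_eq_bot.1 hψinj (by
        rw [hg]
        change a • D.φ i _ X = D.φ i _ X
        rw [show D.φ i ((f₀ i).smulRight (x i)) X = X from hQX i, ha]))
      (LinearMap.ker_eq_bot.1 hψinj (by
        rw [hg]
        have e1 : ψ (yv i) = U i X := by
          change D.φ i _ X = D.φ i _ X
          rw [hval, hval i ((fP i).smulRight (yv i))]
          simp [hfPx, hf₀]
        rw [e1, hUX]))
    intro T v
    rw [hal, halg, show g' = 1 by rw [← hgg', h1, one_mul], h1, one_mul, mul_one]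
  -- the orbit of `X` spans
  let F : Submodule K V :=
    { carrier := {v | a • v = v}
      zero_mem' := smul_zero a
      add_mem' := fun {v w} hv hw => by
        change a • (v + w) = v + w
        rw [smul_add, hv, hw]
      smul_mem' := fun k v hv => by
        change a • (k • v) = k • v
        rw [hcommK, hv] }
  have hFinv : ∀ i T, ∀ v ∈ F, D.φ i T v ∈ F := fun i T v hv => by
    change a • _ = _
    rw [hcen, hv]
  have hspan : ∀ s : Finset D.ι, ∃ E : Submodule K V, E ≤ F ∧ ∏ i ∈ s, D.n i ≤ Module.finrank K E ∧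
      ∀ j ∉ s, ∀ v ∈ E, Q j v = v := by
    intro s
    induction s using Finset.induction with
    | empty =>
      refine ⟨K ∙ X, (Submodule.span_singleton_le_iff_mem X F).2 ha, ?_, fun j _ v hv => ?_⟩
      · rw [Finset.prod_empty, finrank_span_singleton hX0]
      · obtain ⟨k, rfl⟩ := Submodule.mem_span_singleton.1 hv
        rw [map_smul, hQX]
    | @insert j s hj ihs =>
      obtain ⟨E, hEF, hdimE, hEfix⟩ := ihs
      let b := Pi.basisFun K (Fin (D.n j))
      let Φ : (Fin (D.n j) → E) →ₗ[K] V :=
        { toFun := fun d => ∑ k, D.φ j ((f₀ j).smulRight (b k)) (d k : V)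
          map_add' := fun d d' => by
            simp only [Pi.add_apply, Submodule.coe_add, map_add, Finset.sum_add_distrib]
          map_smul' := fun k d => by
            simp only [Pi.smul_apply, Submodule.coe_smul, map_smul, Finset.smul_sum, RingHom.id_apply] }
      have hΦ : Function.Injective Φ := by
        refine (injective_iff_map_eq_zero _).2 fun d hd => funext fun k => Subtype.ext ?_
        have h := congrArg (D.φ j ((b.coord k).smulRight (x j))) hd
        change D.φ j _ (∑ l, D.φ j _ (d l : V)) = _ at h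
        rw [map_sum, map_zero, Finset.sum_eq_single k] at h
        · rw [← Module.End.mul_apply, ← map_mul] at h
          rw [show (b.coord k).smulRight (x j) * (f₀ j).smulRight (b k) = (f₀ j).smulRight (x j) from
            LinearMap.ext fun w => by simp [Module.End.mul_apply]] at h
          rw [← hEfix j hj _ (d k).2]
          exact h
        · intro l _ hlk
          rw [← Module.End.mul_apply, ← map_mul,
            show (b.coord k).smulRight (x j) * (f₀ j).smulRight (b l) = 0 from
              LinearMap.ext fun w => by simp [Module.End.mul_apply, Finsupp.single_eq_of_ne, Ne.symm hlk,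
                b.repr_self], map_zero, LinearMap.zero_apply]
        · simp
      refine ⟨LinearMap.range Φ, ?_, ?_, ?_⟩
      · rintro _ ⟨d, rfl⟩
        simp only [Φ, LinearMap.coe_mk, AddHom.coe_mk]
        exact sum_mem fun k _ => hFinv _ _ _ (hEF (d k).2)
      · rw [LinearMap.finrank_range_of_inj hΦ, Module.finrank_pi_fintype, Finset.sum_const, Finset.card_univ,
          Fintype.card_fin, smul_eq_mul, Finset.prod_insert hj]
        exact Nat.mul_le_mul_left _ hdimE
      · rintro i hi _ ⟨d, rfl⟩
        rw [Finset.mem_insert, not_or] at hi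
        simp only [Φ, LinearMap.coe_mk, AddHom.coe_mk]
        rw [map_sum]
        refine Finset.sum_congr rfl fun k _ => ?_
        rw [hcommR i j hi.1 _ (hRg _ _) _ (hRg _ _), hEfix i hi.2 _ (d k).2]
  obtain ⟨E, hEF, hdimE, -⟩ := hspan Finset.univ
  have hFtop : F = ⊤ := Submodule.eq_top_of_finrank_eq (le_antisymm (Submodule.finrank_le F)
    (D.hdim.le.trans (hdimE.trans (Submodule.finrank_mono hEF))))
  intro v
  exact show v ∈ F from hFtop ▸ Submodule.mem_top

end Cfsg.Lib.CoprimeBase
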