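import Cfsg.Agent.CoprimeBase.SimpleAlg
import Cfsg.Agent.CoprimeBase.FramePair
import Cfsg.Agent.OddBase.Primitive

/-!
A linear group all of whose abelian normal subgroups are scalar: tensor decompositions.
-/

set_option autoImplicit false
set_option linter.unusedSectionVars false

namespace Cfsg.Lib.CoprimeBase

open Cfsg.Lib.OddBase Cfsg.Lib.SolvBase

universe u

/-- The terminal situation: all abelian normal subgroups act as scalars. -/
structure Terminal (p : ℕ) {A : Type u} [Group A] (Z : Subgroup A) {K : Type u} [Field K]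
    (V : Type u) [AddCommGroup V] [DistribMulAction A V] [Module K V] (ι : Z →* Kˣ) : Prop where
  hA : ¬ p ∣ Nat.card A
  ih : Small.{u} p (Nat.card V)
  hcomm : ∀ (g : A) (k : K) (v : V), g • (k • v) = k • (g • v)
  hι : Function.Injective ι
  hιs : Function.Surjective ι
  hιv : ∀ (z : Z) (v : V), ((ι z : Kˣ) : K) • v = (z : A) • v
  hmax : MaxAbelian Z
  hne : ¬ Subgroup.centralizer (Z : Set A) ≤ Z

variable {A : Type u} [Group A] [Finite A] [Group.IsSolvable A] {Z : Subgroup A} [Z.Normal]
  [IsMulCommutative Z] {K : Type u} [Field K] [Finite K] {V : Type u} [AddCommGroup V] [Finite V]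
  [DistribMulAction A V] [Module K V] [FaithfulSMul A V] [Nontrivial V]
  {p : ℕ} [Fact p.Prime] [CharP K p] {ι : Z →* Kˣ}

theorem Terminal.centralizer_top (T : Terminal p Z V ι) : Subgroup.centralizer (Z : Set A) = ⊤ := by
  rw [eq_top_iff]
  intro g _
  refine Subgroup.mem_centralizer_iff.2 fun z hz => eq_of_smul_eq_smul fun v : V => ?_
  rw [mul_smul, mul_smul, ← T.hιv ⟨z, hz⟩, ← T.hιv ⟨z, hz⟩, T.hcomm]

theorem Terminal.scal_iff (T : Terminal p Z V ι) (a : A) : Scal K V a ↔ a ∈ Z := by
  constructor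
  · rintro ⟨c, hc⟩
    obtain ⟨u, hu⟩ := exists_ne (0 : V)
    have hc0 : c ≠ 0 := fun h => hu ((smul_eq_zero_iff_eq a).1 (by rw [hc, h, zero_smul]))
    obtain ⟨z, hz⟩ := T.hιs (Units.mk0 c hc0)
    have : a = z := eq_of_smul_eq_smul fun v : V => by
      rw [hc, ← T.hιv, hz]; rfl
    rw [this]; exact z.2
  · intro ha
    exact ⟨(ι ⟨a, ha⟩ : Kˣ), fun v => (T.hιv ⟨a, ha⟩ v).symm⟩

theorem Terminal.comm_scalar (T : Terminal p Z V ι) {l m : A}
    (h : m * l * m⁻¹ * l⁻¹ ∈ Z) : ∃ c : K, ∀ v : V, m • l • v = c • (l • m • v) :=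
  ⟨(ι ⟨_, h⟩ : Kˣ), fun v => by rw [T.hιv, ← mul_smul, ← mul_smul, ← mul_smul]; congr 1; group⟩

theorem Terminal.socle_commutator (T : Terminal p Z V ι) {l m : A}
    (hl : l ∈ socle Z (Subgroup.centralizer (Z : Set A)))
    (hm : m ∈ socle Z (Subgroup.centralizer (Z : Set A))) : m * l * m⁻¹ * l⁻¹ ∈ Z := by
  have := socle_comm (Subgroup.commutator_mem_commutator hm hl)
  rwa [commutatorElement_def] at this

/-- The matrix algebra spanned by a subgroup of the socle. -/
theorem Terminal.exists_hom (T : Terminal p Z V ι) {N : Subgroup A}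
    (hN : N ≤ socle Z (Subgroup.centralizer (Z : Set A)))
    (hcen : ∀ l ∈ N, (∀ m ∈ N, m * l = l * m) → l ∈ Z) :
    ∃ n : ℕ, ∃ φ : Module.End K (Fin n → K) →ₐ[K] Module.End K V, Function.Injective φ ∧
      n * n = Z.relIndex N ∧ LinearMap.range φ.toLinearMap = algSpan T.hcomm N ∧ 1 ≤ n := by
  refine exists_matrix_hom T.hcomm N (fun l hl m hm => T.comm_scalar (T.socle_commutator (hN hl) (hN hm)))
    (fun l hl h => (T.scal_iff l).2 (hcen l hl fun m hm => ?_)) (Z.subgroupOf N)
    (fun l => (T.scal_iff _).symm)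
  exact eq_of_smul_eq_smul fun v : V => by rw [mul_smul, mul_smul, h m hm]

/-- The whole socle. -/
theorem Terminal.socle_hom (T : Terminal p Z V ι) {r : ℕ}
    (hr : Z.relIndex (socle Z (Subgroup.centralizer (Z : Set A))) = r * r) :
    2 ≤ r ∧ ∃ φ : Module.End K (Fin r → K) →ₐ[K] Module.End K V, Function.Injective φ ∧
      LinearMap.range φ.toLinearMap = algSpan T.hcomm (socle Z (Subgroup.centralizer (Z : Set A))) := by
  obtain ⟨n, φ, hφ, hn, hrange, -⟩ := T.exists_hom le_rfl fun l hl h =>
    (socle_center T.hmax T.hne).le ⟨hl, Subgroup.mem_centralizer_iff.2 h⟩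
  rw [hr] at hn
  obtain rfl := Nat.mul_self_inj.1 hn
  refine ⟨?_, φ, hφ, hrange⟩
  by_contra h
  have h1 : Z.relIndex (socle Z (Subgroup.centralizer (Z : Set A))) ≠ 1 := fun h1 =>
    not_le_of_gt (exists_socle T.hne) (Subgroup.relIndex_eq_one.1 h1)
  have h0 : Z.relIndex (socle Z (Subgroup.centralizer (Z : Set A))) ≠ 0 :=
    Subgroup.index_ne_zero_of_finite
  interval_cases n <;> simp_all

/-- A proper centraliser of the socle algebra splits the space. -/
theorem Terminal.pair_or_dim (T : Terminal p Z V ι) {r : ℕ}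
    (hr : Z.relIndex (socle Z (Subgroup.centralizer (Z : Set A))) = r * r) :
    Pair A V ∨ Module.finrank K V = r := by
  classical
  obtain ⟨hr2, φ, hφ, hrange⟩ := T.socle_hom hr
  obtain ⟨m, ψ, hψ, hdim, hcomm, hfull⟩ := exists_centralizer_hom (by omega : 1 ≤ r) φ
  rcases Nat.lt_or_ge m 2 with hm | hm
  · right
    have : 0 < Module.finrank K V := Module.finrank_pos
    interval_cases m <;> omega
  left
  set L := socle Z (Subgroup.centralizer (Z : Set A)) with hL
  have hconjφ : ∀ (a : A) S, ∃ S', ∀ v : V, a • φ S v = φ S' (a • v) := by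
    intro a S
    have h1 : φ S ∈ algSpan T.hcomm L := hrange ▸ ⟨S, rfl⟩
    have h2 := algSpan_conj a (fun l hl => (socle_normal Z _).conj_mem l hl a) h1
    rw [← hrange] at h2
    obtain ⟨S', hS'⟩ := h2
    refine ⟨S', fun v => ?_⟩
    have h3 := LinearMap.congr_fun hS' (a • v)
    change φ S' (a • v) = a • φ S (a⁻¹ • a • v) at h3
    rw [inv_smul_smul] at h3
    exact h3.symm
  have hconjψ : ∀ (a : A) S, ∃ S', ∀ v : V, a • ψ S v = ψ S' (a • v) := by
    intro a S
    obtain ⟨S', hS'⟩ := hfull (Lm T.hcomm a * ψ S * Lm T.hcomm a⁻¹) (fun R => by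
      obtain ⟨R', hR'⟩ := hconjφ a⁻¹ R
      refine LinearMap.ext fun v => ?_
      change φ R (a • ψ S (a⁻¹ • v)) = a • ψ S (a⁻¹ • φ R v)
      rw [hR', ← Module.End.mul_apply (ψ S), ← hcomm, Module.End.mul_apply]
      apply MulAction.injective a⁻¹
      dsimp only
      rw [hR', inv_smul_smul, inv_smul_smul])
    refine ⟨S', fun v => ?_⟩
    rw [hS']
    change _ = a • ψ S (a⁻¹ • a • v)
    rw [inv_smul_smul]
  let n : ULift.{u} Bool → ℕ := fun i => cond i.down r m
  let Φ : ∀ i, Module.End K (Fin (n i) → K) →ₐ[K] Module.End K V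
    | ⟨true⟩ => φ
    | ⟨false⟩ => ψ
  letI : MulAction A (ULift.{u} Bool) :=
    { smul := fun _ i => i, one_smul := fun _ => rfl, mul_smul := fun _ _ _ => rfl }
  refine pair_tensor T.hA T.hcomm T.ih
    { ι := ULift.{u} Bool
      n := n
      hn := fun i => by rcases i with ⟨_ | _⟩ <;> assumption
      htwo := by simp
      φ := Φ
      hinj := fun i => by rcases i with ⟨_ | _⟩ <;> assumption
      hcomm := fun i j hij S R v => by
        rcases i with ⟨_ | _⟩ <;> rcases j with ⟨_ | _⟩
        · exact absurd rfl hij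
        · exact (LinearMap.congr_fun (hcomm R S) v).symm
        · exact LinearMap.congr_fun (hcomm S R) v
        · exact absurd rfl hij
      hconj := fun a i => by
        rcases i with ⟨_ | _⟩
        · exact hconjψ a
        · exact hconjφ a
      hdim := by
        rw [hdim, Fintype.prod_equiv Equiv.ulift n (fun b => cond b r m) fun i => rfl, Fintype.prod_bool]
        rfl }

/-- A family of commuting parts of the socle splits the space. -/
theorem Terminal.pair_of_parts (T : Terminal p Z V ι) {r : ℕ}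
    (hr : Z.relIndex (socle Z (Subgroup.centralizer (Z : Set A))) = r * r)
    {X : Type u} [Fintype X] [MulAction A X] (hX : 2 ≤ Fintype.card X) (N : X → Subgroup A)
    (hle : ∀ i, N i ≤ socle Z (Subgroup.centralizer (Z : Set A))) (hlt : ∀ i, ¬ N i ≤ Z)
    (hconj : ∀ (a : A) i, ∀ l ∈ N i, a * l * a⁻¹ ∈ N (a • i))
    (hcen : ∀ i, ∀ l ∈ N i, (∀ m ∈ N i, m * l = l * m) → l ∈ Z)
    (hcom : ∀ i j, i ≠ j → ∀ l ∈ N i, ∀ m ∈ N j, l * m = m * l)
    (hprod : ∏ i, Z.relIndex (N i) = r * r) : Pair A V := by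
  classical
  rcases T.pair_or_dim hr with h | hdim
  · exact h
  choose n φ hφ hn hrange hn1 using fun i => T.exists_hom (hle i) (hcen i)
  refine pair_tensor T.hA T.hcomm T.ih
    { ι := X
      n := n
      hn := fun i => ?_
      htwo := hX
      φ := φ
      hinj := hφ
      hcomm := fun i j hij S R v => ?_
      hconj := fun a i S => ?_
      hdim := ?_ }
  · by_contra h
    have h1 : n i = 1 := by have := hn1 i; omega
    have := hn i
    rw [h1, one_mul, eq_comm, Subgroup.relIndex_eq_one] at this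
    exact hlt i this
  · have h1 := algSpan_commute (hcommK := T.hcomm) (N := N i) (N' := N j)
      (fun l hl m hm w => by rw [← mul_smul, ← mul_smul, hcom i j hij l hl m hm])
      ((SetLike.ext_iff.1 (hrange i) _).1 ⟨S, rfl⟩)
      ((SetLike.ext_iff.1 (hrange j) _).1 ⟨R, rfl⟩)
    exact LinearMap.congr_fun h1 v
  · have h1 : φ i S ∈ algSpan T.hcomm (N i) := hrange i ▸ ⟨S, rfl⟩
    have h2 := algSpan_conj a (hconj a i) h1
    rw [← hrange] at h2
    obtain ⟨S', hS'⟩ := h2
    refine ⟨S', fun v => ?_⟩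
    have h3 := LinearMap.congr_fun hS' (a • v)
    change φ (a • i) S' (a • v) = a • φ i S (a⁻¹ • a • v) at h3
    rw [inv_smul_smul] at h3
    exact h3.symm
  · rw [hdim]
    refine Nat.mul_self_inj.1 ?_
    rw [← hprod, ← Finset.prod_mul_distrib]
    exact Finset.prod_congr rfl fun i _ => (hn i).symm

/-- A normal subgroup strictly inside the socle splits the space. -/
theorem Terminal.pair_of_normal (T : Terminal p Z V ι) {r : ℕ}
    (hr : Z.relIndex (socle Z (Subgroup.centralizer (Z : Set A))) = r * r)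
    {N : Subgroup A} (hN : N.Normal) (hZN : Z < N)
    (hNL : N < socle Z (Subgroup.centralizer (Z : Set A))) : Pair A V := by
  classical
  set L := socle Z (Subgroup.centralizer (Z : Set A)) with hL
  have hZL : Z ≤ L := (exists_socle T.hne).le
  set N' := L ⊓ Subgroup.centralizer (N : Set A) with hN'
  haveI := hN
  haveI : (Subgroup.centralizer (N : Set A)).Normal := inferInstance
  have hN'n : N'.Normal := inferInstance
  have hZN' : Z ≤ N' := le_inf hZL fun z hz => Subgroup.mem_centralizer_iff.2 fun n hn =>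
    (socle_central (hNL.le hn) hz).symm
  have hinf : N' ⊓ N = Z := by
    haveI := hN'n
    refine T.hmax _ inferInstance ⟨⟨fun x y => Subtype.ext ?_⟩⟩ (le_inf hZN' hZN.le)
    exact (Subgroup.mem_centralizer_iff.1 x.2.1.2 y y.2.2).symm
  have hidx : Z.relIndex N * Z.relIndex N' = r * r := by
    have h1 := pair_bound T.hι L N le_rfl hNL.le
    have h2 := pair_bound T.hι N L hNL.le le_rfl
    have e1 : (Subgroup.centralizer (N : Set A)).relIndex L = N'.relIndex L := by
      rw [hN', inf_comm, Subgroup.inf_relIndex_right]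
    have e2 : (Subgroup.centralizer (L : Set A)).relIndex N = Z.relIndex N := by
      have hzc : Subgroup.centralizer (L : Set A) ⊓ N = Z := by
        refine le_antisymm (fun x hx => (socle_center T.hmax T.hne) ▸ ⟨hNL.le hx.2, hx.1⟩)
          (le_inf (fun z hz => Subgroup.mem_centralizer_iff.2 fun x hx => (socle_central hx hz).symm) hZN.le)
      conv_rhs => rw [← hzc, Subgroup.inf_relIndex_right]
    rw [e1, e2] at h1 h2
    rw [← hr, ← Subgroup.relIndex_mul_relIndex Z N' L hZN' inf_le_left, le_antisymm h1 h2, mul_comm]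
  let M : ULift.{u} Bool → Subgroup A := fun i => cond i.down N N'
  letI : MulAction A (ULift.{u} Bool) :=
    { smul := fun _ i => i, one_smul := fun _ => rfl, mul_smul := fun _ _ _ => rfl }
  refine T.pair_of_parts hr (X := ULift.{u} Bool) (by simp) M ?_ ?_ ?_ ?_ ?_ ?_
  · rintro ⟨_ | _⟩
    · exact inf_le_left
    · exact hNL.le
  · rintro ⟨_ | _⟩ h
    · have h' : N' ≤ Z := h
      rw [le_antisymm h' hZN', Subgroup.relIndex_self, mul_one] at hidx
      have h2 := Subgroup.relIndex_mul_relIndex Z N L hZN.le hNL.le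
      rw [hr, ← hidx] at h2
      have h0 : Z.relIndex N ≠ 0 := Subgroup.index_ne_zero_of_finite
      have h3 : Z.relIndex N * N.relIndex L = Z.relIndex N * 1 := by rw [h2, mul_one]
      exact not_le_of_gt hNL (Subgroup.relIndex_eq_one.1 (Nat.eq_of_mul_eq_mul_left (by omega) h3))
    · exact not_le_of_gt hZN h
  · rintro a ⟨_ | _⟩ l hl
    · exact hN'n.conj_mem l hl a
    · exact hN.conj_mem l hl a
  · rintro ⟨_ | _⟩ l hl h
    · have hab : ∀ m ∈ N ⊔ N', m * l = l * m := by
        intro m hm
        have : N ⊔ N' ≤ Subgroup.centralizer ({l} : Set A) := sup_le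
          (fun n hn => Subgroup.mem_centralizer_singleton_iff.2 (Subgroup.mem_centralizer_iff.1 hl.2 n hn))
          (fun n hn => Subgroup.mem_centralizer_singleton_iff.2 (h n hn))
        exact Subgroup.mem_centralizer_singleton_iff.1 (this hm)
      refine (socle_center T.hmax T.hne).le ⟨hl.1, Subgroup.mem_centralizer_iff.2 fun m hm => hab m ?_⟩
      have hsup : N ⊔ N' = L := by
        refine eq_of_le_of_not_lt (sup_le hNL.le inf_le_left) fun hlt => ?_
        have h2 := Subgroup.relIndex_mul_relIndex Z (N ⊔ N') L (hZN.le.trans le_sup_left) (sup_le hNL.le inf_le_left)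
        haveI := hN'n
        have h3 : Z.relIndex (N ⊔ N') = Z.relIndex N * Z.relIndex N' := by
          rw [← Subgroup.relIndex_mul_relIndex Z N' (N ⊔ N') hZN' le_sup_right, mul_comm]
          congr 1
          rw [Subgroup.relIndex_sup_right, ← hinf, Subgroup.inf_relIndex_right]
        rw [hr, h3, hidx] at h2
        have h0 : r * r ≠ 0 := hr ▸ Subgroup.index_ne_zero_of_finite
        exact not_le_of_gt hlt (Subgroup.relIndex_eq_one.1
          (Nat.eq_of_mul_eq_mul_left (Nat.pos_of_ne_zero h0) (h2.trans (mul_one _).symm)))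
      exact hsup.symm ▸ hm
    · exact hinf.le ⟨⟨hNL.le hl, Subgroup.mem_centralizer_iff.2 h⟩, hl⟩
  · rintro ⟨_ | _⟩ ⟨_ | _⟩ hij l hl m hm
    · exact absurd rfl hij
    · exact (Subgroup.mem_centralizer_iff.1 hl.2 m hm).symm
    · exact Subgroup.mem_centralizer_iff.1 hm.2 l hl
    · exact absurd rfl hij
  · rw [Fintype.prod_equiv Equiv.ulift (fun i => Z.relIndex (M i)) (fun b => Z.relIndex (cond b N N'))
      fun i => rfl, Fintype.prod_bool]
    exact hidx

end Cfsg.Lib.CoprimeBase
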