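import Cfsg.Prelude.Def_OddOrderLocal
import Cfsg.Agent.CoprimeBase.Layers
import Cfsg.Agent.Elementary.Basics

/-!
Three conjugates of a Hall subgroup of a π-solvable group meet in the π-core.
-/

set_option autoImplicit false
set_option linter.style.haveILetI false

namespace Cfsg.Lib.CoprimeBase

open Subgroup Cfsg.Lib.Elementary Cfsg.Lib.Components

universe u

variable {Q : Type u} [Group Q]

private theorem relIndex_map_dvd' {G' : Type u} [Group G'] (f : Q →* G') (A B : Subgroup Q) :
    (A.map f).relIndex (B.map f) ∣ A.relIndex B := by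
  refine dvd_trans ?_ ((A.subgroupOf B).index_map_dvd (f.subgroupMap_surjective B))
  refine index_dvd_of_le ?_
  rintro _ ⟨b, hb, rfl⟩
  exact ⟨(b : Q), hb, rfl⟩

/-- A condition on a step of a chain. -/
def StepCond (π : Set ℕ) (m : ℕ) : Prop :=
  (∃ p ∈ π, p.Prime ∧ ∃ k : ℕ, m = p ^ k) ∨ (∀ q : ℕ, q.Prime → q ∣ m → q ∉ π)

theorem StepCond.of_dvd {π : Set ℕ} {m m' : ℕ} (h : StepCond π m) (hd : m' ∣ m) : StepCond π m' := by
  rcases h with ⟨p, hp, hpp, k, rfl⟩ | h
  · obtain ⟨j, -, hj⟩ := (Nat.dvd_prime_pow hpp).1 hd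
    exact Or.inl ⟨p, hp, hpp, j, hj⟩
  · exact Or.inr fun q hq hqd => h q hq (hqd.trans hd)

theorem relIndex_dvd_right {A B B' : Subgroup Q} [A.Normal] (h : B ≤ B') :
    A.relIndex B ∣ A.relIndex B' := by
  rw [← relIndex_subgroupOf (H := A) h]
  exact relIndex_dvd_index_of_normal _ _

variable [Finite Q]

theorem coprime_of_pi {π : Set ℕ} {a b : ℕ} (ha : IsPiNat π a) (hb : IsPiNat {q | q ∉ π} b) :
    a.Coprime b :=
  Nat.coprime_of_dvd fun q hq h1 h2 => hb q hq h2 (ha q hq h1)

/-- A π-subgroup of a π-solvable group is solvable. -/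
theorem isSolvable_of_chain {π : Set ℕ} (H : Subgroup Q) (hH : IsPiNat π (Nat.card H)) (n : ℕ)
    (M : Fin (n + 1) → Subgroup Q) (h0 : M 0 = ⊥) (hl : M (Fin.last n) = ⊤) (hmono : Monotone M)
    (hn : ∀ i, (M i).Normal) (hst : ∀ i : Fin n, StepCond π ((M i.castSucc).relIndex (M i.succ))) :
    Group.IsSolvable H := by
  have key : ∀ i : Fin (n + 1), Group.IsSolvable ↥(M i ⊓ H) := by
    intro i
    induction i using Fin.induction with
    | zero =>
      haveI : Subsingleton ↥(M 0 ⊓ H) := by
        rw [h0, bot_inf_eq]; exact Unique.instSubsingleton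
      infer_instance
    | succ i ih =>
      haveI := hn i.castSucc
      set S := M i.succ ⊓ H with hS
      set T := (M i.castSucc).subgroupOf S with hT
      have hle : M i.castSucc ⊓ H ≤ S := inf_le_inf_right _ (hmono (Fin.castSucc_le_succ i))
      have hker : (QuotientGroup.mk' T).ker ≤ (inclusion hle).range := by
        intro s hs
        rw [QuotientGroup.ker_mk', hT, mem_subgroupOf] at hs
        exact ⟨⟨(s : Q), hs, (mem_inf.1 s.2).2⟩, rfl⟩
      haveI : Group.IsSolvable (↥S ⧸ T) := by
        have hd1 : Nat.card (↥S ⧸ T) ∣ Nat.card H :=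
          ((T.card_quotient_dvd_card).trans (card_dvd_of_le inf_le_right))
        have hd2 : Nat.card (↥S ⧸ T) ∣ (M i.castSucc).relIndex (M i.succ) :=
          relIndex_dvd_right inf_le_left
        rcases (hst i).of_dvd hd2 with ⟨p, -, hpp, k, hk⟩ | hq
        · haveI : Fact p.Prime := ⟨hpp⟩
          haveI := (IsPGroup.of_card hk).isNilpotent
          infer_instance
        · have h1 : Nat.card (↥S ⧸ T) = 1 := by
            by_contra hne
            obtain ⟨q, hqp, hqd⟩ := Nat.exists_prime_and_dvd hne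
            exact hq q hqp hqd (hH q hqp (hqd.trans hd1))
          haveI := (Nat.card_eq_one_iff_unique.1 h1).1
          infer_instance
      exact Group.isSolvable_of_ker_le_range (inclusion hle) (QuotientGroup.mk' T) hker
  have := key (Fin.last n)
  rw [hl, top_inf_eq] at this
  exact this

/-- The centralizer of the π'-core lies in it, when the π-core is trivial. -/
theorem centralizer_le_core {π : Set ℕ} (hcore : piCore π Q = ⊥) (n : ℕ)
    (M : Fin (n + 1) → Subgroup Q) (h0 : M 0 = ⊥) (hl : M (Fin.last n) = ⊤)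
    (hn : ∀ i, (M i).Normal) (hst : ∀ i : Fin n, StepCond π ((M i.castSucc).relIndex (M i.succ))) :
    centralizer (piCore {q | q ∉ π} Q : Set Q) ≤ piCore {q | q ∉ π} Q := by
  set N := piCore {q | q ∉ π} Q with hN
  set C := centralizer (N : Set Q) with hC
  have key : ∀ i : Fin (n + 1), M i ⊓ C ≤ N := by
    intro i
    induction i using Fin.induction with
    | zero => rw [h0, bot_inf_eq]; exact bot_le
    | succ i ih =>
      haveI := hn i.castSucc
      haveI := hn i.succ
      set D := M i.succ ⊓ C with hD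
      set E := (M i.castSucc).subgroupOf D with hE
      have hcardE : IsPiNat {q | q ∉ π} (Nat.card E) := by
        intro q hq hqd
        refine piCore_isPi (G := Q) {q | q ∉ π} q hq (hqd.trans ?_)
        rw [← card_map_of_injective D.subtype_injective (K := E)]
        refine card_dvd_of_le ?_
        rintro _ ⟨e, he, rfl⟩
        exact ih ⟨he, (mem_inf.1 e.2).2⟩
      have hcard : Nat.card E * E.index = Nat.card D := E.card_mul_index
      rcases (hst i).of_dvd (show E.index ∣ _ from relIndex_dvd_right inf_le_left) with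
        ⟨p, hp, hpp, k, hk⟩ | hq
      · haveI : Fact p.Prime := ⟨hpp⟩
        let P : Sylow p D := Classical.arbitrary _
        have hco : (Nat.card E).Coprime (p ^ k) := by
          refine Nat.Coprime.pow_right k (Nat.Coprime.symm ?_)
          exact hpp.coprime_iff_not_dvd.2 fun h => hcardE p hpp h hp
        have hPk : p ^ k ∣ Nat.card (P : Subgroup D) :=
          P.pow_dvd_card_of_pow_dvd_card (hcard ▸ hk ▸ dvd_mul_left _ _)
        have hsup : E ⊔ (P : Subgroup D) = ⊤ := by
          refine eq_top_of_card_eq _ (Nat.dvd_antisymm (card_subgroup_dvd_card _) ?_)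
          rw [← hcard, hk]
          exact hco.mul_dvd_of_dvd_of_dvd (card_dvd_of_le le_sup_left)
            (hPk.trans (card_dvd_of_le le_sup_right))
        have hnorm : (P : Subgroup D).Normal := by
          refine normalizer_eq_top_iff.1 (eq_top_iff.2 (hsup ▸ sup_le ?_ le_normalizer))
          intro e he
          rw [mem_normalizer_iff]
          intro h
          have hcomm : e * h = h * e := Subtype.ext
            (mem_centralizer_iff.1 (mem_inf.1 h.2).2 (e : Q) (ih ⟨he, (mem_inf.1 e.2).2⟩))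
          rw [hcomm, mul_inv_cancel_right]
        haveI := P.characteristic_of_normal hnorm
        haveI : ((P : Subgroup D).map D.subtype).Normal :=
          ConjAct.normal_of_characteristic_of_normal
        have hPbot : (P : Subgroup D) = ⊥ := by
          have h1 : (P : Subgroup D).map D.subtype ≤ piCore π Q := by
            refine le_piCore fun q hq hqd => ?_
            rw [card_map_of_injective D.subtype_injective, P.card_eq_multiplicity] at hqd
            rwa [(Nat.prime_dvd_prime_iff_eq hq hpp).1 (hq.dvd_of_dvd_pow hqd)]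
          rw [hcore, le_bot_iff] at h1
          exact (map_eq_bot_iff_of_injective _ D.subtype_injective).1 h1
        intro d hd
        have hEt : E = ⊤ := by rw [← hsup, hPbot, sup_bot_eq]
        exact ih ⟨(show (⟨d, hd⟩ : D) ∈ E from hEt ▸ mem_top _), (mem_inf.1 hd).2⟩
      · refine le_piCore fun q hq' hqd => ?_
        rw [← hcard] at hqd
        exact (hq'.dvd_mul.1 hqd).elim (hcardE q hq') (hq q hq')
  have := key (Fin.last n)
  rwa [hl, top_inf_eq] at this

/-- The quotient statement. -/
theorem three_conj_core_free {π : Set ℕ} (hcore : piCore π Q = ⊥) (n : ℕ)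
    (M : Fin (n + 1) → Subgroup Q) (h0 : M 0 = ⊥) (hl : M (Fin.last n) = ⊤) (hmono : Monotone M)
    (hn : ∀ i, (M i).Normal) (hst : ∀ i : Fin n, StepCond π ((M i.castSucc).relIndex (M i.succ)))
    (H : Subgroup Q) (hH : IsPiNat π (Nat.card H)) :
    ∃ x y : Q, ∀ h ∈ H, x⁻¹ * h * x ∈ H → y⁻¹ * h * y ∈ H → h = 1 := by
  set N := piCore {q | q ∉ π} Q with hN
  have hdisj : H ⊓ N = ⊥ := inf_eq_bot_of_coprime (coprime_of_pi hH (piCore_isPi _))
  letI : MulDistribMulAction H N :=
    MulDistribMulAction.compHom N ((MulAut.conjNormal : Q →* MulAut N).comp H.subtype)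
  have hact : ∀ (a : H) (m : N), ((a • m : N) : Q) = (a : Q) * m * (a : Q)⁻¹ := fun a m => rfl
  haveI : FaithfulSMul H N := by
    refine faithfulSMul_iff.2 fun {a} hab => ?_
    have h1 : (a : Q) ∈ centralizer (N : Set Q) := by
      refine mem_centralizer_iff.2 fun m hm => ?_
      have h2 := congrArg Subtype.val (hab ⟨m, hm⟩)
      rw [hact] at h2
      exact (mul_inv_eq_iff_eq_mul.1 h2).symm
    have h3 : (a : Q) ∈ H ⊓ N := ⟨a.2, centralizer_le_core hcore n M h0 hl hn hst h1⟩
    rw [hdisj, mem_bot] at h3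
    exact Subtype.ext h3
  obtain ⟨x, y, hxy⟩ := exists_pair_group (isSolvable_of_chain H hH n M h0 hl hmono hn hst)
    (coprime_of_pi hH (piCore_isPi _) : (Nat.card H).Coprime (Nat.card N))
  have hfix : ∀ (z : N) (h : H), (z : Q)⁻¹ * h * z ∈ H → h • z = z := by
    intro z h hz
    have h1 : (z : Q)⁻¹ * h * z * (h : Q)⁻¹ ∈ H ⊓ N := by
      refine ⟨H.mul_mem hz (H.inv_mem h.2), ?_⟩
      have h2 : (z : Q)⁻¹ * h * z * (h : Q)⁻¹ = (z : Q)⁻¹ * ((h • z : N) : Q) := by
        rw [hact]; group
      rw [h2]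
      exact N.mul_mem (N.inv_mem z.2) (h • z : N).2
    rw [hdisj, mem_bot] at h1
    refine Subtype.ext ?_
    rw [hact]
    calc (h : Q) * z * (h : Q)⁻¹ = z * ((z : Q)⁻¹ * h * z * (h : Q)⁻¹) := by group
      _ = z := by rw [h1, mul_one]
  exact ⟨x, y, fun h hh hx hy => congrArg Subtype.val (hxy ⟨h, hh⟩ (hfix x ⟨h, hh⟩ hx) (hfix y ⟨h, hh⟩ hy))⟩

/-- Three conjugates of a Hall π-subgroup meet in the π-core. -/
theorem three_conj {π : Set ℕ} (n : ℕ)
    (M : Fin (n + 1) → Subgroup Q) (h0 : M 0 = ⊥) (hl : M (Fin.last n) = ⊤) (hmono : Monotone M)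
    (hn : ∀ i, (M i).Normal) (hst : ∀ i : Fin n, StepCond π ((M i.castSucc).relIndex (M i.succ)))
    (H : Subgroup Q) (hH : IsPiHall π H) :
    piCore π Q ≤ H ∧ ∃ x y : Q, ∀ h ∈ H, x⁻¹ * h * x ∈ H → y⁻¹ * h * y ∈ H → h ∈ piCore π Q := by
  set O := piCore π Q with hO
  have hOH : O ≤ H := by
    have h1 : H.relIndex (H ⊔ O) = 1 := by
      by_contra hne
      obtain ⟨q, hq, hqd⟩ := Nat.exists_prime_and_dvd hne
      have hq1 : q ∣ H.index := hqd.trans ⟨_, (relIndex_mul_index le_sup_left).symm⟩
      have hq2 : q ∣ Nat.card O * Nat.card H := by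
        refine (hqd.trans (index_dvd_card _)).trans ?_
        rw [sup_comm]
        exact card_sup_dvd_mul O H
      exact hH.2 q hq ((hq.dvd_mul.1 hq2).elim (piCore_isPi π q hq) (hH.1 q hq)) hq1
    exact le_sup_right.trans (relIndex_eq_one.1 h1)
  refine ⟨hOH, ?_⟩
  set f := QuotientGroup.mk' O with hf
  have hs : Function.Surjective f := QuotientGroup.mk'_surjective _
  have hcore : piCore π (Q ⧸ O) = ⊥ := by
    have h1 : (piCore π (Q ⧸ O)).comap f ≤ O := by
      refine le_piCore fun q hq hqd => ?_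
      rw [card_eq_card_quotient_mul_card_subgroup (f.ker.subgroupOf ((piCore π (Q ⧸ O)).comap f))] at hqd
      rcases hq.dvd_mul.1 hqd with h | h
      · refine piCore_isPi (G := Q ⧸ O) π q hq ?_
        have h2 : f.ker.relIndex ((piCore π (Q ⧸ O)).comap f) ∣ Nat.card (piCore π (Q ⧸ O)) := by
          rw [show f.ker = (⊥ : Subgroup (Q ⧸ O)).comap f from rfl, relIndex_comap,
            map_comap_eq_self_of_surjective hs, relIndex_bot_left]
        exact h.trans h2
      · refine piCore_isPi (G := Q) π q hq (h.trans ?_)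
        rw [← card_map_of_injective ((piCore π (Q ⧸ O)).comap f).subtype_injective
          (K := f.ker.subgroupOf ((piCore π (Q ⧸ O)).comap f))]
        refine card_dvd_of_le ?_
        rintro _ ⟨e, he, rfl⟩
        exact (QuotientGroup.eq_one_iff (e : Q)).1 he
    rw [← map_comap_eq_self_of_surjective hs (piCore π (Q ⧸ O)), eq_bot_iff]
    exact (map_mono h1).trans (QuotientGroup.map_mk'_self O).le
  obtain ⟨x, y, hxy⟩ := three_conj_core_free (Q := Q ⧸ O) hcore n (fun i => (M i).map f)
    (by simp [h0]) (by show (M (Fin.last n)).map f = ⊤; rw [hl, map_top_of_surjective f hs])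
    (fun i j hij => map_mono (hmono hij)) (fun i => (hn i).map f hs)
    (fun i => (hst i).of_dvd (relIndex_map_dvd' f _ _)) (H.map f)
    (fun q hq hqd => hH.1 q hq (hqd.trans (card_map_dvd H f)))
  obtain ⟨X, rfl⟩ := hs x
  obtain ⟨Y, rfl⟩ := hs y
  refine ⟨X, Y, fun h hh hx hy => ?_⟩
  refine (QuotientGroup.eq_one_iff h).1 (hxy (f h) (mem_map_of_mem f hh) ?_ ?_)
  · rw [← map_inv, ← map_mul, ← map_mul]; exact mem_map_of_mem f hx
  · rw [← map_inv, ← map_mul, ← map_mul]; exact mem_map_of_mem f hy

end Cfsg.Lib.CoprimeBase
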